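/-
The seven dimensional representation of ²G₂(q) on the short roots.

* `exists_rep` : an injective homomorphism into `GL (Fin 7) K` with determinant one
-/
import Cfsg.Agent.Lib.Twisted.G2More

set_option autoImplicit false

namespace Cfsg.Agent.ReeTori

open Cfsg.Lie Matrix
open Cfsg.Lie.ChevalleyDatum
open Cfsg.Agent.Chev Cfsg.Agent.ChevBN Cfsg.Agent.Twisted

/-- The short coroot and the short roots. -/
def sIdx : Fin 7 → chevG2.Idx :=
  ![Sum.inl ⟨0, by decide⟩, Sum.inr ⟨2, by decide⟩, Sum.inr ⟨3, by decide⟩, Sum.inr ⟨4, by decide⟩,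
    Sum.inr ⟨7, by decide⟩, Sum.inr ⟨8, by decide⟩, Sum.inr ⟨9, by decide⟩]

theorem sIdx_injective : Function.Injective sIdx := by unfold Function.Injective; decide

/-- The indices outside the short part. -/
def IsLongIdx (a : chevG2.Idx) : Prop := ∀ j, sIdx j ≠ a

instance (a : chevG2.Idx) : Decidable (IsLongIdx a) := inferInstanceAs (Decidable (∀ j, sIdx j ≠ a))

theorem cartan_long : ∀ u : Fin chevG2.nroots, IsLongIdx (Sum.inr u) →
    (chevG2.cartanSR.getD 0 #[]).getD u.val 0 % 3 = 0 := by decide +kernel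

theorem coroot_short : ∀ r : Fin chevG2.nroots, ¬ IsLongIdx (Sum.inr r) →
    (chevG2.coroot.getD r.val #[]).getD 1 0 % 3 = 0 := by decide +kernel

theorem neg_short : ∀ r s : Fin chevG2.nroots, s.val = chevG2.negIdx.getD r.val 0 →
    ¬ IsLongIdx (Sum.inr s) → ¬ IsLongIdx (Sum.inr r) := by decide +kernel

theorem chain_short : ∀ r s u : Fin chevG2.nroots, ¬ IsLongIdx (Sum.inr s) → IsLongIdx (Sum.inr u) →
    ∀ km ∈ chevG2.chainCoeff r.val s.val u.val, (km : ℕ × ℤ).2 % 3 = 0 := by decide +kernel

theorem not_long (j : Fin 7) : ¬ IsLongIdx (sIdx j) := fun h => h j rfl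

variable {K : Type*} [Field K]

/-- The short subspace is invariant. -/
def Closed (M : Matrix chevG2.Idx chevG2.Idx K) : Prop := ∀ a, IsLongIdx a → ∀ j, M a (sIdx j) = 0

theorem closed_one : Closed (1 : Matrix chevG2.Idx chevG2.Idx K) := fun a ha j =>
  Matrix.one_apply_ne (ha j).symm

theorem closed_mul {M N : Matrix chevG2.Idx chevG2.Idx K} (hM : Closed M) (hN : Closed N) :
    Closed (M * N) := by
  intro a ha j
  rw [Matrix.mul_apply]
  refine Finset.sum_eq_zero fun b _ => ?_
  show M a b * N b (sIdx j) = 0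
  by_cases hb : IsLongIdx b
  · rw [hN b hb j, mul_zero]
  · simp only [IsLongIdx, not_forall, not_not] at hb
    obtain ⟨i, rfl⟩ := hb
    rw [hM a ha i, zero_mul]

theorem sub_mul {M N : Matrix chevG2.Idx chevG2.Idx K} (hN : Closed N) :
    (M * N).submatrix sIdx sIdx = M.submatrix sIdx sIdx * N.submatrix sIdx sIdx := by
  classical
  ext i j
  show ∑ b, M (sIdx i) b * N b (sIdx j) = ∑ k, M (sIdx i) (sIdx k) * N (sIdx k) (sIdx j)
  rw [← Finset.sum_subset (Finset.subset_univ (Finset.univ.image sIdx))]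
  · exact Finset.sum_image fun a _ b _ h => sIdx_injective h
  · intro b _ hb
    have : IsLongIdx b := fun k hk => hb (Finset.mem_image.2 ⟨k, Finset.mem_univ _, hk⟩)
    rw [hN b this j, mul_zero]

theorem closed_xMat [CharP K 3] (r : Fin chevG2.nroots) (t : K) : Closed (chevG2.xMat K r t) := by
  have h3 : ∀ z : ℤ, z % 3 = 0 → (z : K) = 0 := fun z hz => by
    rw [CharP.intCast_eq_zero_iff K 3]
    exact Int.dvd_of_emod_eq_zero hz
  intro a ha j
  have hj := not_long j
  rcases hs : sIdx j with i | s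
  · have hi : i.val = 0 := by revert hs; revert i; revert j; decide
    rcases a with i' | u
    · simp only [ChevalleyDatum.xMat, Matrix.of_apply]
      refine if_neg fun h => ha j ?_
      rw [hs, h]
    · simp only [ChevalleyDatum.xMat, Matrix.of_apply]
      split
      · rename_i h
        rw [hi, ← h, h3 _ (cartan_long u ha), neg_zero, zero_mul]
      · rfl
  · rw [hs] at hj
    rcases a with i | u
    · simp only [ChevalleyDatum.xMat, Matrix.of_apply]
      split
      · rfl
      · split
        · rename_i h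
          have hi : i.val = 1 := by
            have : ∀ i : Fin chevG2.rank, IsLongIdx (Sum.inl i) → i.val = 1 := by decide
            exact this i ha
          rw [hi, h3 _ (coroot_short r (neg_short r s h hj)), zero_mul]
        · rfl
    · have hus : u ≠ s := fun h => hj (h ▸ ha)
      simp only [ChevalleyDatum.xMat, Matrix.of_apply]
      split
      · rename_i h
        exact if_neg fun e => hus (e.trans h.symm)
      · split
        · rename_i h
          rw [if_neg (show ¬ u = r from fun e => neg_short r s h hj (e ▸ ha))]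
        · rw [zero_add]
          refine List.sum_eq_zero fun x hx => ?_
          obtain ⟨km, hkm, rfl⟩ := List.mem_map.1 hx
          rw [h3 _ (chain_short r s u hj ha km hkm), zero_mul]

theorem closed_of_mem [CharP K 3] {g : GL chevG2.Idx K} (hg : g ∈ chevG2.group K) :
    Closed (g : Matrix chevG2.Idx chevG2.Idx K) := by
  induction hg using Subgroup.closure_induction'' with
  | mem g hg =>
    obtain ⟨r, t, e⟩ := hg
    rw [e]; exact closed_xMat r t
  | inv_mem g hg =>
    obtain ⟨r, t, e⟩ := hg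
    obtain rfl : g = xg good_chevG2 K r.val t := Units.ext (by rw [e, coe_xg]; simp [ChevalleyDatum.x])
    rw [xg_inv, coe_xg]
    simp only [ChevalleyDatum.x, Fin.is_lt, dite_true]
    exact closed_xMat r _
  | one => rw [Units.val_one]; exact closed_one
  | mul x y _ _ hx hy => rw [Units.val_mul]; exact closed_mul hx hy

variable [Fintype K] {m : ℕ}

theorem twisted_le_group [CharP K 3] (hK : Fintype.card K = 3 ^ (2 * m + 1)) :
    twistedG2 K (3 ^ m) ≤ chevG2.group K := fun _ hg => ((mem_fix_iff).1 (twisted_le hK hg)).1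

/-- ²G₂(q) in `GL 7`. -/
theorem exists_rep (hK : Fintype.card K = 3 ^ (2 * m + 1)) (hm : 1 ≤ m) :
    ∃ ρ : ↥(twistedG2 K (3 ^ m)) →* GL (Fin 7) K, Function.Injective ρ ∧
      ∀ g, (ρ g : Matrix (Fin 7) (Fin 7) K).det = 1 := by
  haveI := charP_ree hK
  have hcl : ∀ g : twistedG2 K (3 ^ m), Closed ((g : GL chevG2.Idx K) : Matrix chevG2.Idx chevG2.Idx K) :=
    fun g => closed_of_mem (twisted_le_group hK g.2)
  let σ : ↥(twistedG2 K (3 ^ m)) →* Matrix (Fin 7) (Fin 7) K :=
    { toFun := fun g => ((g : GL chevG2.Idx K) : Matrix chevG2.Idx chevG2.Idx K).submatrix sIdx sIdx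
      map_one' := by
        simp only [OneMemClass.coe_one, Units.val_one]
        exact Matrix.submatrix_one sIdx sIdx_injective
      map_mul' := fun g g' => sub_mul (hcl g') }
  let ρ := σ.toHomUnits
  have hdet : ∀ g, (ρ g : Matrix (Fin 7) (Fin 7) K).det = 1 := by
    intro g
    let δ : ↥(twistedG2 K (3 ^ m)) →* Kˣ := Matrix.GeneralLinearGroup.det.comp ρ
    have : commutator ↥(twistedG2 K (3 ^ m)) ≤ δ.ker := Abelianization.commutator_subset_ker δ
    have h := this (by rw [commutator_ree hK hm]; exact Subgroup.mem_top g)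
    have e : Matrix.GeneralLinearGroup.det (ρ g) = 1 := MonoidHom.mem_ker.1 h
    rw [← Matrix.GeneralLinearGroup.val_det_apply, e, Units.val_one]
  refine ⟨ρ, ?_, hdet⟩
  haveI := (simple_ree hK hm).1
  rcases (MonoidHom.normal_ker ρ).eq_bot_or_eq_top with h | h
  · exact (MonoidHom.ker_eq_bot_iff ρ).1 h
  · exfalso
    obtain ⟨a, hae⟩ : ∃ a : ↥(twistedG2 K (3 ^ m)), (a : GL chevG2.Idx K) = tor m (-1 : Kˣ) :=
      ⟨⟨_, tor_neg_one_mem hK⟩, rfl⟩
    have ha : ρ a = 1 := MonoidHom.mem_ker.1 (h ▸ Subgroup.mem_top a)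
    have h1 := congrArg (fun M : GL (Fin 7) K => (M : Matrix (Fin 7) (Fin 7) K) 4 4) ha
    beta_reduce at h1
    have h2 : (ρ a : Matrix (Fin 7) (Fin 7) K) 4 4 =
        ((a : GL chevG2.Idx K) : Matrix chevG2.Idx chevG2.Idx K) (Sum.inr ⟨7, by decide⟩) (Sum.inr ⟨7, by decide⟩) := rfl
    rw [h2, hae, tor, coe_T2, Units.val_one, dg, Matrix.diagonal_apply_eq, Matrix.one_apply_eq] at h1
    change ((chi2 K _ _ 7 : Kˣ) : K) = 1 at h1
    rw [chi_tor_a, Units.val_pow_eq_pow_val, Units.val_neg, Units.val_one,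
      (Odd.pow (by decide : Odd 3)).neg_one_pow] at h1
    exact one_ne_zero (α := K) (by linear_combination h1 + three_eq_zero K)

end Cfsg.Agent.ReeTori
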