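/-
Facts about `PSL₂(q)`, `q ≡ 3 (mod 8)` a power of 3, used for the Ree groups.
-/
import Cfsg.Agent.Lib.PSL2.SolThree

set_option autoImplicit false
set_option linter.unusedSectionVars false

namespace Cfsg.Agent.ReeTori

open Cfsg.Agent.PSL2 Subgroup

/-- The facts used about `L = PSL₂(q)`. -/
structure LFacts (L : Type*) [Group L] (q : ℕ) : Prop where
  card : 2 * Nat.card L = q * ((q + 1) * (q - 1))
  inv_conj : ∀ x y : L, orderOf x = 2 → orderOf y = 2 → IsConj x y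
  inv_cent : ∀ x : L, orderOf x = 2 → Nat.card (centralizer ({x} : Set L)) = q + 1
  exists_inv : ∃ x : L, orderOf x = 2
  three : Nat.card {z : L // orderOf z = 3} = (q + 1) * (q - 1)
  orders : ∀ x : L, orderOf x ∣ (q - 1) / 2 ∨ orderOf x ∣ (q + 1) / 2 ∨ orderOf x ∣ 3
  tor : ∀ x : L, 3 ≤ orderOf x → ¬ orderOf x ∣ 3 →
    ∃ y : L, x ∈ zpowers y ∧ centralizer ({x} : Set L) = zpowers y ∧
      (orderOf y = (q - 1) / 2 ∨ orderOf y = (q + 1) / 2)
  exists_tor : (∃ y : L, orderOf y = (q - 1) / 2) ∧ ∃ y : L, orderOf y = (q + 1) / 2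
  tor_conj : ∀ x x' : L, ¬ orderOf x ∣ 3 → orderOf x = orderOf x' →
    ∃ g : L, zpowers (g * x * g⁻¹) = zpowers x'

theorem lFacts {F : Type*} [Field F] [Finite F] [CharP F 3] {q : ℕ} (hq : Nat.card F = q)
    (h8 : q % 8 = 3) : LFacts (PSL2 F) q := by
  subst hq
  haveI : Fact (Nat.Prime 3) := ⟨Nat.prime_three⟩
  have h4 : Nat.card F % 4 = 3 := by omega
  have hg : Nat.gcd 2 (Nat.card F - 1) = 2 := Nat.gcd_eq_left (by omega)
  have hodd : Odd (Nat.card F) := Nat.odd_iff.2 (by omega)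
  refine ⟨?_, fun x y hx hy => involution_isConj hodd hx hy,
    fun x hx => (card_centralizer_involution hodd hx).2 h4, ?_, card_orderOf_char 3, ?_, ?_, ?_, ?_⟩
  · have := card_psl_mul (F := F)
    rwa [hg] at this
  · obtain ⟨-, yp, -, hp, -⟩ := exists_torus_conj (F := F) 3
    rw [hg] at hp
    refine ⟨yp ^ ((Nat.card F + 1) / 4), ?_⟩
    rw [orderOf_pow_of_dvd (by omega) (hp ▸ ⟨2, by omega⟩), hp]
    have : (Nat.card F + 1) / 2 = 2 * ((Nat.card F + 1) / 4) := by omega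
    rw [this, Nat.mul_div_cancel _ (by omega)]
  · intro x
    have := psl_orderOf_cases 3 x
    rwa [hg] at this
  · intro x hx hx'
    have := centralizer_torus 3 hx' hx
    rwa [hg] at this
  · obtain ⟨ym, yp, hm, hp, -⟩ := exists_torus_conj (F := F) 3
    rw [hg] at hm hp
    exact ⟨⟨ym, hm⟩, ⟨yp, hp⟩⟩
  · intro x x' hx h
    exact conj_zpowers 3 hx h

end Cfsg.Agent.ReeTori
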