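/-
Groups with the local data of a small Ree group: the Borel subgroup and its torus.

* `Data` : the hypotheses
* `card_sylow`, `exists_smul_w`, `inter_normalizer` : the Sylow 3-subgroups
* `centralizer_H`, `normalizer_H` : the torus `H`
* `centralizer_three` : centralisers of 3-elements lie in Borel subgroups
-/
import Cfsg.Agent.Lib.ReeTori.PSLFacts

set_option autoImplicit false

namespace Cfsg.Agent.ReeTori

open Subgroup
open scoped Pointwise

/-- The local data of a small Ree group. -/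
structure Data (G : Type*) [Group G] (L : Type*) [Group L] (q : ℕ) where
  q_pow : ∃ m, 1 ≤ m ∧ q = 3 ^ (2 * m + 1)
  card : Nat.card G = q ^ 3 * (q - 1) * (q ^ 3 + 1)
  simple : IsSimpleGroup G
  lfacts : LFacts L q
  P : Sylow 3 G
  ti : ∀ Q R : Sylow 3 G, Q ≠ R → (Q : Subgroup G) ⊓ R = ⊥
  H : Subgroup G
  H_cyclic : IsCyclic H
  H_card : Nat.card H = q - 1
  H_le : H ≤ normalizer (P : Set G)
  fpf : ∀ h ∈ H, h ≠ 1 → Odd (orderOf h) → ∀ u ∈ (P : Subgroup G), Commute h u → u = 1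
  pow_nine : ∀ u ∈ (P : Subgroup G), u ^ 9 = 1
  card_three : Nat.card {u : ↥(P : Subgroup G) // orderOf u = 3} = q ^ 2 - 1
  w : G
  w_notMem : w ∉ normalizer (P : Set G)
  w_inv : ∀ h ∈ H, w * h * w⁻¹ = h⁻¹
  a : G
  a_mem : a ∈ H
  orderOf_a : orderOf a = 2
  inv : Nonempty (↥(centralizer ({a} : Set G)) ≃* Multiplicative (ZMod 2) × L)
  seven : ∀ p : ℕ, p.Prime → p ∣ q ^ 2 - q + 1 → ∀ x : G, orderOf x = p →
    IsCyclic ↥(centralizer ({x} : Set G)) ∧
      ∀ g ∈ normalizer ((zpowers x : Subgroup G) : Set G), g ^ 6 ∈ centralizer ({x} : Set G)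

namespace Data

variable {G : Type*} [Group G] {L : Type*} [Group L] {q : ℕ} (D : Data G L q)
include D

theorem q_facts : 27 ≤ q ∧ q % 8 = 3 ∧ q % 3 = 0 := by
  obtain ⟨m, hm, hq⟩ := D.q_pow
  refine ⟨?_, ?_, ?_⟩
  · rw [hq]
    calc 27 = 3 ^ 3 := by norm_num
      _ ≤ _ := Nat.pow_le_pow_right (by norm_num) (by omega)
  · rw [hq, pow_succ, pow_mul, Nat.mul_mod, Nat.pow_mod]
    norm_num
  · rw [hq, pow_succ, Nat.mul_mod_left]

theorem card_eq : Nat.card G = q ^ 3 * ((q - 1) * (q + 1) * (q ^ 2 - q + 1)) := by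
  have h := D.q_facts
  have h1 : q ^ 3 + 1 = (q + 1) * (q ^ 2 - q + 1) := by
    have : q ≤ q ^ 2 := Nat.le_self_pow (by norm_num) q
    zify [this]
    ring
  rw [D.card, h1]
  ring

theorem card_P [Finite G] : Nat.card (D.P : Subgroup G) = q ^ 3 := by
  haveI : Fact (Nat.Prime 3) := ⟨Nat.prime_three⟩
  obtain ⟨m, hm, hq⟩ := D.q_pow
  obtain ⟨hq27, -, hq3⟩ := D.q_facts
  have d1 : ¬ 3 ∣ (q - 1) * (q ^ 3 + 1) := by
    intro h
    rcases Nat.prime_three.dvd_mul.1 h with h | h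
    · omega
    · have : 3 ∣ q ^ 3 := dvd_pow (Nat.dvd_of_mod_eq_zero hq3) (by norm_num)
      omega
  have h0 : (q - 1) * (q ^ 3 + 1) ≠ 0 := fun h => d1 (h ▸ dvd_zero 3)
  rw [D.P.card_eq_multiplicity, D.card, mul_assoc, Nat.factorization_mul (by positivity) h0,
    Finsupp.add_apply, Nat.factorization_eq_zero_of_not_dvd d1, add_zero, hq, ← pow_mul,
    Nat.factorization_pow, Finsupp.smul_apply, Nat.Prime.factorization_self Nat.prime_three,
    smul_eq_mul, mul_one]

theorem coprime_H [Finite G] : (Nat.card (D.P : Subgroup G)).Coprime (Nat.card D.H) := by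
  obtain ⟨hq27, -, hq3⟩ := D.q_facts
  rw [D.card_P, D.H_card]
  refine Nat.Coprime.pow_left _ ?_
  have : Nat.gcd q (q - 1) ∣ 1 := by
    have h := Nat.dvd_sub (Nat.gcd_dvd_left q (q - 1)) (Nat.gcd_dvd_right q (q - 1))
    rwa [show q - (q - 1) = 1 by omega] at h
  exact Nat.dvd_one.1 this

theorem eq_one_of_mem [Finite G] {x : G} (hx : x ∈ (D.P : Subgroup G)) (hx' : x ∈ D.H) : x = 1 :=
  (mem_bot).1 ((inf_eq_bot_of_coprime D.coprime_H).le (mem_inf.2 ⟨hx, hx'⟩))

theorem P_le_normalizer : (D.P : Subgroup G) ≤ normalizer (D.P : Set G) := le_normalizer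

theorem le_card_normalizer [Finite G] :
    q ^ 3 * (q - 1) ∣ Nat.card (normalizer (D.P : Set G)) := by
  refine Nat.Coprime.mul_dvd_of_dvd_of_dvd (D.card_P ▸ D.H_card ▸ D.coprime_H) ?_ ?_
  · rw [← D.card_P]; exact card_dvd_of_le le_normalizer
  · rw [← D.H_card]; exact card_dvd_of_le D.H_le

theorem smul_eq_self_iff {g : G} {Q : Sylow 3 G} :
    g • Q = Q ↔ g ∈ normalizer (Q : Set G) := Sylow.smul_eq_iff_mem_normalizer

theorem w_smul_ne : D.w • D.P ≠ D.P := fun h => D.w_notMem (Sylow.smul_eq_iff_mem_normalizer.1 h)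

/-- `P` acts regularly on the other Sylow 3-subgroups; there are `q ^ 3 + 1` of them. -/
theorem sylow_regular [Finite G] : Nat.card (Sylow 3 G) = q ^ 3 + 1 ∧
    (∀ R : Sylow 3 G, R ≠ D.P → ∃ u ∈ (D.P : Subgroup G), R = u • D.w • D.P) ∧
    Nat.card (normalizer (D.P : Set G)) = q ^ 3 * (q - 1) := by
  haveI : Fact (Nat.Prime 3) := ⟨Nat.prime_three⟩
  obtain ⟨hq27, -, -⟩ := D.q_facts
  have hfree : ∀ u ∈ (D.P : Subgroup G), ∀ R : Sylow 3 G, R ≠ D.P → u • R = R → u = 1 := by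
    intro u hu R hR h
    rw [Sylow.smul_eq_iff_mem_normalizer] at h
    have huR : u ∈ (R : Subgroup G) := by
      have hp : IsPGroup 3 (zpowers u) := D.P.2.to_le (zpowers_le.2 hu)
      have hp' : IsPGroup 3 (zpowers u ⊔ (R : Subgroup G) : Subgroup G) :=
        hp.to_sup_of_normal_right' R.2 (zpowers_le.2 h)
      exact (R.3 hp' le_sup_right).le (le_sup_left (a := zpowers u) (mem_zpowers u))
    exact mem_bot.1 ((D.ti _ _ (Ne.symm hR)).le (mem_inf.2 ⟨hu, huR⟩))
  -- a lower bound from one orbit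
  let φ : Option ↥(D.P : Subgroup G) → Sylow 3 G := fun o => o.elim D.P fun u => (u : G) • D.w • D.P
  have hne : ∀ u : (D.P : Subgroup G), (u : G) • D.w • D.P ≠ D.P := fun u h => D.w_smul_ne (by
    have h1 : (u : G) • D.P = D.P := Sylow.smul_eq_iff_mem_normalizer.2 (le_normalizer u.2)
    exact MulAction.injective (u : G) (h.trans h1.symm))
  have hφ : Function.Injective φ := by
    rintro (_ | u) (_ | v) h
    · rfl
    · exact absurd h.symm (hne v)
    · exact absurd h (hne u)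
    · refine congrArg some (Subtype.ext (inv_mul_eq_one.1 ?_).symm)
      refine hfree _ (mul_mem (inv_mem v.2) u.2) _ D.w_smul_ne ?_
      rw [mul_smul, show (u : G) • D.w • D.P = (v : G) • D.w • D.P from h, inv_smul_smul]
  have hlow : q ^ 3 + 1 ≤ Nat.card (Sylow 3 G) := by
    have := Nat.card_le_card_of_injective φ hφ
    rwa [Finite.card_option, D.card_P] at this
  have hidx := Sylow.card_eq_index_normalizer D.P
  have hmul := (normalizer (D.P : Set G)).card_mul_index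
  rw [← hidx, D.card] at hmul
  obtain ⟨k, hk⟩ := D.le_card_normalizer
  have hA : 0 < q ^ 3 * (q - 1) := Nat.mul_pos (by positivity) (by omega)
  have hkm : k * Nat.card (Sylow 3 G) = q ^ 3 + 1 := by
    rw [hk, mul_assoc] at hmul
    exact Nat.eq_of_mul_eq_mul_left hA hmul
  have hk1 : k = 1 := by
    have hk0 : k ≠ 0 := fun h => by rw [h, zero_mul] at hkm; omega
    by_contra hne1
    have : 2 * Nat.card (Sylow 3 G) ≤ k * Nat.card (Sylow 3 G) := Nat.mul_le_mul_right _ (by omega)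
    omega
  rw [hk1, one_mul] at hkm
  refine ⟨hkm, fun R hR => ?_, by rw [hk, hk1, mul_one]⟩
  have hbij : Function.Bijective φ :=
    hφ.bijective_of_nat_card_le (by rw [Finite.card_option, D.card_P, hkm])
  obtain ⟨o, rfl⟩ := hbij.2 R
  rcases o with _ | u
  · exact absurd rfl hR
  · exact ⟨u, u.2, rfl⟩

theorem H_le_w : D.H ≤ normalizer ((D.w • D.P : Sylow 3 G) : Set G) := by
  intro h hh
  rw [← Sylow.smul_eq_iff_mem_normalizer]
  have h1 : h = D.w * h⁻¹ * D.w⁻¹ := by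
    conv_lhs => rw [← inv_inv h, ← D.w_inv h hh]
    group
  conv_lhs => rw [h1]
  rw [← mul_smul, inv_mul_cancel_right, mul_smul, Sylow.smul_eq_iff_mem_normalizer.2 (D.H_le (inv_mem hh))]

/-- The stabiliser of two points is `H`. -/
theorem inter_normalizer [Finite G] {g : G} (h1 : g ∈ normalizer (D.P : Set G))
    (h2 : g ∈ normalizer ((D.w • D.P : Sylow 3 G) : Set G)) : g ∈ D.H := by
  haveI : Fact (Nat.Prime 3) := ⟨Nat.prime_three⟩
  set E := normalizer (D.P : Set G) ⊓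
    normalizer ((D.w • D.P : Sylow 3 G) : Set G) with hE
  have hHE : D.H ≤ E := le_inf D.H_le D.H_le_w
  have hEP : E ⊓ (D.P : Subgroup G) = ⊥ := by
    rw [eq_bot_iff]
    intro u hu
    obtain ⟨hu1, hu2⟩ := mem_inf.1 hu
    have hp : IsPGroup 3 (zpowers u) := D.P.2.to_le (zpowers_le.2 hu2)
    have hp' : IsPGroup 3 (zpowers u ⊔ ((D.w • D.P : Sylow 3 G) : Subgroup G) : Subgroup G) :=
      hp.to_sup_of_normal_right' (D.w • D.P).2 (zpowers_le.2 (mem_inf.1 hu1).2)
    have := ((D.w • D.P).3 hp' le_sup_right).le (le_sup_left (a := zpowers u) (mem_zpowers u))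
    exact (D.ti _ _ (Ne.symm D.w_smul_ne)).le (mem_inf.2 ⟨hu2, this⟩)
  -- `E` embeds in `N(P)/P`
  have hle : E ≤ normalizer (D.P : Set G) := inf_le_left
  have hcard : Nat.card E ∣ q - 1 := by
    have h3 := card_dvd_of_le hle
    rw [D.sylow_regular.2.2] at h3
    refine Nat.Coprime.dvd_of_dvd_mul_left ?_ h3
    refine Nat.Coprime.pow_right _ ?_
    obtain ⟨m, -, hq⟩ := D.q_pow
    rw [hq]
    refine Nat.Coprime.pow_right _ (Nat.Coprime.symm ((Nat.Prime.coprime_iff_not_dvd Nat.prime_three).2 fun h => ?_))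
    obtain ⟨x, hx⟩ := exists_prime_orderOf_dvd_card' 3 h
    have hxN : (x : G) ∈ normalizer (D.P : Set G) := hle x.2
    have hxP : (x : G) ∈ (D.P : Subgroup G) := by
      have hp : IsPGroup 3 (zpowers (x : G)) :=
        IsPGroup.of_card (n := 1) (by rw [Nat.card_zpowers, orderOf_coe, hx, pow_one])
      exact (D.P.3 (hp.to_sup_of_normal_right' D.P.2 (zpowers_le.2 hxN)) le_sup_right).le
        (le_sup_left (a := zpowers (x : G)) (mem_zpowers _))
    have := mem_bot.1 (hEP.le (mem_inf.2 ⟨x.2, hxP⟩))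
    rw [← orderOf_eq_one_iff, orderOf_coe, hx] at this
    omega
  have : D.H = E := eq_of_le_of_card_ge hHE
    (by rw [D.H_card]; exact Nat.le_of_dvd (by have := D.q_facts.1; omega) hcard)
  rw [this]
  exact mem_inf.2 ⟨h1, h2⟩

theorem exists_PH [Finite G] {g : G} (hg : g ∈ normalizer (D.P : Set G)) :
    ∃ u ∈ (D.P : Subgroup G), ∃ h ∈ D.H, g = u * h := by
  let φ : ↥(D.P : Subgroup G) × ↥D.H → normalizer (D.P : Set G) :=
    fun x => ⟨x.1 * x.2, mul_mem (le_normalizer x.1.2) (D.H_le x.2.2)⟩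
  have hφ : Function.Injective φ := by
    rintro ⟨u, h⟩ ⟨v, k⟩ e
    have e' : (u : G) * h = v * k := congrArg Subtype.val e
    have h1 : (v : G)⁻¹ * u = k * (h : G)⁻¹ := by
      rw [eq_mul_inv_iff_mul_eq, mul_assoc, e', inv_mul_cancel_left]
    have h2 := D.eq_one_of_mem (mul_mem (inv_mem v.2) u.2) (h1 ▸ mul_mem k.2 (inv_mem h.2))
    rw [inv_mul_eq_one] at h2
    rw [h2] at e'
    exact Prod.ext (Subtype.ext h2.symm) (Subtype.ext (mul_left_cancel e'))
  have hbij := hφ.bijective_of_nat_card_le (by rw [Nat.card_prod, D.card_P, D.H_card, D.sylow_regular.2.2])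
  obtain ⟨⟨u, h⟩, hx⟩ := hbij.2 ⟨g, hg⟩
  exact ⟨u, u.2, h, h.2, (congrArg Subtype.val hx).symm⟩

theorem H_comm {x y : G} (hx : x ∈ D.H) (hy : y ∈ D.H) : x * y = y * x := by
  haveI := D.H_cyclic
  obtain ⟨g, hg⟩ := IsCyclic.exists_generator (α := D.H)
  obtain ⟨i, hi⟩ := hg ⟨x, hx⟩
  obtain ⟨j, hj⟩ := hg ⟨y, hy⟩
  exact congrArg Subtype.val
    (show (⟨x, hx⟩ : D.H) * ⟨y, hy⟩ = ⟨y, hy⟩ * ⟨x, hx⟩ by rw [← hi, ← hj]; exact (zpow_mul_comm g i j))

theorem H_odd_part {h : G} (hh : h ∈ D.H) : Odd (orderOf (h ^ 2)) := by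
  obtain ⟨-, hq8, -⟩ := D.q_facts
  have h1 : orderOf h ∣ q - 1 := D.H_card ▸ orderOf_dvd_natCard _ hh
  have h2 : (h ^ 2) ^ ((q - 1) / 2) = 1 := by
    rw [← pow_mul]
    exact orderOf_dvd_iff_pow_eq_one.1 (h1.trans ⟨1, by omega⟩)
  exact Odd.of_dvd_nat (Nat.odd_iff.2 (by omega)) (orderOf_dvd_of_pow_eq_one h2)

/-- The points fixed by an element of `H` of order `> 2`. -/
theorem fixed_H [Finite G] {h : G} (hh : h ∈ D.H) (hh2 : h * h ≠ 1) {R : Sylow 3 G} (hR : h • R = R) :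
    R = D.P ∨ R = D.w • D.P := by
  by_cases hRP : R = D.P
  · exact Or.inl hRP
  obtain ⟨u, hu, rfl⟩ := D.sylow_regular.2.1 R hRP
  refine Or.inr ?_
  have hfix : (u⁻¹ * h * u) • D.w • D.P = D.w • D.P := by rw [mul_smul, mul_smul, hR, inv_smul_smul]
  have hN : u⁻¹ * h * u ∈ normalizer (D.P : Set G) :=
    mul_mem (mul_mem (inv_mem (le_normalizer hu)) (D.H_le hh)) (le_normalizer hu)
  have hH := D.inter_normalizer hN (Sylow.smul_eq_iff_mem_normalizer.1 hfix)
  have hP : h⁻¹ * (u⁻¹ * h * u) ∈ (D.P : Subgroup G) := by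
    rw [show h⁻¹ * (u⁻¹ * h * u) = (h⁻¹ * u⁻¹ * h) * u by group]
    refine mul_mem ?_ hu
    have := (mem_normalizer_iff.1 (inv_mem (D.H_le hh)) u⁻¹).1 (inv_mem hu)
    rwa [inv_inv] at this
  have h1 := D.eq_one_of_mem hP (mul_mem (inv_mem hh) hH)
  have hc : Commute h u := by
    show h * u = u * h
    calc h * u = u * h * (h⁻¹ * (u⁻¹ * h * u)) := by group
      _ = u * h := by rw [h1, mul_one]
  have hc2 : Commute (h ^ 2) u := hc.pow_left 2
  have := D.fpf _ (pow_mem hh 2) (by rwa [pow_two]) (D.H_odd_part hh) u hu hc2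
  rw [this, one_smul]

theorem mem_H_of_fix [Finite G] {g : G} (h1 : g • D.P = D.P) (h2 : g • D.w • D.P = D.w • D.P) : g ∈ D.H :=
  D.inter_normalizer (Sylow.smul_eq_iff_mem_normalizer.1 h1) (Sylow.smul_eq_iff_mem_normalizer.1 h2)

theorem fix_of_mem_H {h : G} (hh : h ∈ D.H) : h • D.P = D.P ∧ h • D.w • D.P = D.w • D.P :=
  ⟨Sylow.smul_eq_iff_mem_normalizer.2 (D.H_le hh), Sylow.smul_eq_iff_mem_normalizer.2 (D.H_le_w hh)⟩

/-- An element normalising `⟨h⟩` is in `H` or in `w H`. -/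
theorem mem_or_mem_of_conj [Finite G] {h g : G} (hh : h ∈ D.H) (hh2 : h * h ≠ 1)
    (hg : g⁻¹ * h * g ∈ D.H) : g ∈ D.H ∨ D.w⁻¹ * g ∈ D.H := by
  have hfix : ∀ R : Sylow 3 G, R = D.P ∨ R = D.w • D.P → h • (g • R) = g • R := by
    intro R hR
    have h1 : (g⁻¹ * h * g) • R = R := by
      rcases hR with rfl | rfl
      · exact (D.fix_of_mem_H hg).1
      · exact (D.fix_of_mem_H hg).2
    calc h • g • R = g • ((g⁻¹ * h * g) • R) := by rw [← mul_smul, ← mul_smul]; congr 1; group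
      _ = g • R := by rw [h1]
  have hA := D.fixed_H hh hh2 (hfix _ (Or.inl rfl))
  have hB := D.fixed_H hh hh2 (hfix _ (Or.inr rfl))
  rcases hA with hA | hA
  · left
    refine D.mem_H_of_fix hA (hB.resolve_left fun e => D.w_smul_ne ?_)
    exact MulAction.injective g (e.trans hA.symm)
  · right
    have hB' : g • D.w • D.P = D.P := hB.resolve_right fun e => D.w_smul_ne
      (MulAction.injective g (e.trans hA.symm))
    refine D.mem_H_of_fix (by rw [mul_smul, hA, inv_smul_smul]) ?_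
    rw [mul_smul, hB', inv_smul_eq_iff]
    -- `w` interchanges the two fixed points
    have h3 : h • (D.w • D.w • D.P) = D.w • D.w • D.P := by
      have e : h * D.w = D.w * h⁻¹ := by
        rw [← eq_mul_inv_iff_mul_eq.1 (D.w_inv h⁻¹ (inv_mem hh)).symm, inv_inv]
      calc h • D.w • D.w • D.P = D.w • (h⁻¹ • D.w • D.P) := by rw [← mul_smul, e, mul_smul]
        _ = _ := by rw [(D.fix_of_mem_H (inv_mem hh)).2]
    rcases D.fixed_H hh hh2 h3 with h4 | h4
    · exact h4.symm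
    · exact absurd (MulAction.injective D.w h4) D.w_smul_ne

/-- The centraliser of an element of `H` of order `> 2` is `H`. -/
theorem centralizer_H [Finite G] {h : G} (hh : h ∈ D.H) (hh2 : h * h ≠ 1) :
    centralizer ({h} : Set G) = D.H := by
  refine le_antisymm (fun g hg => ?_) fun g hg => mem_centralizer_singleton_iff.2 (D.H_comm hg hh)
  rw [mem_centralizer_singleton_iff] at hg
  have hgh : g⁻¹ * h * g = h := by rw [mul_assoc, ← hg, inv_mul_cancel_left]
  rcases D.mem_or_mem_of_conj hh hh2 (by rw [hgh]; exact hh) with h1 | h1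
  · exact h1
  · exfalso
    have h2 : g = D.w * (D.w⁻¹ * g) := by group
    have h3 : g * h * g⁻¹ = h⁻¹ := by
      calc g * h * g⁻¹ = D.w * ((D.w⁻¹ * g) * h * (D.w⁻¹ * g)⁻¹) * D.w⁻¹ := by group
        _ = D.w * h * D.w⁻¹ := by rw [D.H_comm h1 hh, mul_inv_cancel_right]
        _ = h⁻¹ := D.w_inv h hh
    rw [hg, mul_inv_cancel_right] at h3
    exact hh2 (mul_eq_one_iff_eq_inv.2 h3)

theorem w_mem_normalizer_H : D.w ∈ normalizer (D.H : Set G) := by
  rw [mem_normalizer_iff]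
  intro x
  refine ⟨fun hx => by rw [D.w_inv x hx]; exact inv_mem hx, fun hx => ?_⟩
  have e : x = (D.w * x * D.w⁻¹)⁻¹ :=
    mul_left_cancel (a := D.w) (mul_right_cancel (b := D.w⁻¹) (by rw [D.w_inv _ (inv_mem hx), inv_inv]))
  rw [e]; exact inv_mem hx

/-- `N(H)` has order `2 (q - 1)`. -/
theorem card_normalizer_H [Finite G] : Nat.card (normalizer (D.H : Set G)) = 2 * (q - 1) := by
  obtain ⟨hq27, hq8, -⟩ := D.q_facts
  haveI := D.H_cyclic
  obtain ⟨g, hg⟩ := IsCyclic.exists_generator (α := D.H)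
  have ho : orderOf (g : G) = q - 1 := by
    rw [orderOf_coe, orderOf_eq_card_of_forall_mem_zpowers hg, D.H_card]
  have hg2 : (g : G) * g ≠ 1 := fun h => by
    have := Nat.le_of_dvd two_pos (orderOf_dvd_of_pow_eq_one (x := (g : G)) (n := 2) (by rwa [pow_two]))
    omega
  let ψ : Bool × D.H → normalizer (D.H : Set G) := fun x =>
    ⟨(if x.1 then D.w else 1) * x.2, mul_mem (by split; exact D.w_mem_normalizer_H; exact one_mem _)
      (le_normalizer x.2.2)⟩
  have hwH : D.w ∉ D.H := fun h => D.w_notMem (D.H_le h)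
  have hψ : Function.Bijective ψ := by
    constructor
    · rintro ⟨b, x⟩ ⟨c, y⟩ e
      have e' : (if b then D.w else 1) * (x : G) = (if c then D.w else 1) * y := congrArg Subtype.val e
      cases b <;> cases c <;> simp only [if_true, if_false, one_mul, Bool.false_eq_true] at e'
      · exact Prod.ext rfl (Subtype.ext e')
      · exact absurd (eq_mul_inv_of_mul_eq e'.symm ▸ mul_mem x.2 (inv_mem y.2)) hwH
      · exact absurd (eq_mul_inv_of_mul_eq e' ▸ mul_mem y.2 (inv_mem x.2)) hwH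
      · exact Prod.ext rfl (Subtype.ext (mul_left_cancel e'))
    · rintro ⟨x, hx⟩
      have hgx : x⁻¹ * g * x ∈ D.H := by
        have := (mem_normalizer_iff.1 (inv_mem hx) g).1 g.2
        rwa [inv_inv] at this
      rcases D.mem_or_mem_of_conj g.2 hg2 hgx with h | h
      · exact ⟨(false, ⟨x, h⟩), Subtype.ext (one_mul x)⟩
      · exact ⟨(true, ⟨_, h⟩), Subtype.ext (mul_inv_cancel_left D.w x)⟩
  rw [← Nat.card_eq_of_bijective ψ hψ, Nat.card_prod, Nat.card_eq_fintype_card, Fintype.card_bool, D.H_card]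

/-- Centralisers of 3-elements lie in Borel subgroups. -/
theorem centralizer_three {u : G} (hu : u ∈ (D.P : Subgroup G)) (hu1 : u ≠ 1) {g : G}
    (hg : g * u = u * g) : g ∈ normalizer (D.P : Set G) := by
  rw [← Sylow.smul_eq_iff_mem_normalizer]
  by_contra hne
  refine hu1 (mem_bot.1 ((D.ti _ _ hne).le (mem_inf.2 ⟨?_, hu⟩)))
  rw [Sylow.coe_subgroup_smul]
  exact ⟨u, hu, by show g * u * g⁻¹ = u; rw [hg, mul_inv_cancel_right]⟩

end Data

end Cfsg.Agent.ReeTori
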