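/-
Involutions and Sylow 2-subgroups of groups with the local data of a small Ree group.

* `exists_emb` : `C(a) = ⟨a⟩ × ι L`
* `sylow_two` : Sylow 2-subgroups have order 8 and exponent 2
* `isConj_a` : all involutions are conjugate
* `normalizer_sylow_two` : `C(S) = S`, `|N(S)| = 168`
-/
import Cfsg.Agent.Lib.ReeTori.Basic
import Cfsg.Agent.S0111

set_option autoImplicit false

namespace Cfsg.Agent.ReeTori

open Subgroup
open scoped Pointwise

theorem zmod_two_cases (z : Multiplicative (ZMod 2)) : z = 1 ∨ z = Multiplicative.ofAdd 1 := by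
  revert z; decide

theorem LFacts.center_eq {L : Type*} [Group L] [Finite L] {q : ℕ} (F : LFacts L q) (hq : 27 ≤ q)
    (hq3 : q % 3 = 0) {l : L} (hl : ∀ x, x * l = l * x) : l = 1 := by
  have hC : centralizer ({l} : Set L) = ⊤ :=
    eq_top_iff.2 fun x _ => mem_centralizer_singleton_iff.2 (hl x)
  by_contra hl1
  have hL : (q + 1) * (q - 1) * 27 ≤ 2 * Nat.card L := by
    rw [F.card, mul_comm q]
    exact Nat.mul_le_mul_left _ hq
  have hpos : q + 1 ≤ (q + 1) * (q - 1) := Nat.le_mul_of_pos_right _ (by omega)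
  obtain ⟨c, hc⟩ := F.exists_inv
  have h0 : orderOf l ≠ 1 := fun h => hl1 (orderOf_eq_one_iff.1 h)
  have hp := orderOf_pos l
  rcases Nat.lt_or_ge (orderOf l) 3 with h2 | h3
  · have := F.inv_cent l (by omega)
    rw [hC, card_top] at this
    omega
  by_cases hd : orderOf l ∣ 3
  · have h : orderOf l = 3 := le_antisymm (Nat.le_of_dvd (by norm_num) hd) h3
    have hl' : l ∈ centralizer ({c} : Set L) := mem_centralizer_singleton_iff.2 (hl c).symm
    have h' := orderOf_dvd_natCard _ hl'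
    rw [F.inv_cent c hc, h] at h'
    omega
  · obtain ⟨y, -, hCy, hy⟩ := F.tor l h3 hd
    rw [hC] at hCy
    have := congrArg (fun H : Subgroup L => Nat.card H) hCy
    simp only [card_top, Nat.card_zpowers] at this
    omega

namespace Data

variable {G : Type*} [Group G] [Finite G] {L : Type*} [Group L] [Finite L] {q : ℕ} (D : Data G L q)
include D

theorem a_ne : D.a ≠ 1 := fun h => by
  have := D.orderOf_a
  rw [h, orderOf_one] at this
  omega

/-- `C(a) = ⟨a⟩ × ι L`. -/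
theorem exists_emb : ∃ ι : L →* G, Function.Injective ι ∧
    (∀ x, ι x * D.a = D.a * ι x) ∧ (∀ g, g * D.a = D.a * g → ∃ x, g = ι x ∨ g = D.a * ι x) ∧
    ∀ x, ι x ≠ D.a := by
  obtain ⟨e⟩ := D.inv
  obtain ⟨hq27, -, hq3⟩ := D.q_facts
  set aC : centralizer ({D.a} : Set G) := ⟨D.a, mem_centralizer_singleton_iff.2 rfl⟩ with haC
  have hz : (e aC).2 = 1 := D.lfacts.center_eq hq27 hq3 fun x => by
    obtain ⟨g, hg⟩ := e.surjective (1, x)
    have h1 : g * aC = aC * g := Subtype.ext (mem_centralizer_singleton_iff.1 g.2)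
    have h2 := congrArg (fun z => (e z).2) h1
    simp only [map_mul, Prod.snd_mul, hg] at h2
    exact h2
  have ha1 : e aC = (Multiplicative.ofAdd 1, 1) := by
    rcases zmod_two_cases (e aC).1 with h | h
    · exact absurd (congrArg Subtype.val (e.map_eq_one_iff.1 (Prod.ext h hz))) D.a_ne
    · exact Prod.ext h hz
  refine ⟨((centralizer ({D.a} : Set G)).subtype.comp e.symm.toMonoidHom).comp (MonoidHom.inr _ L),
    Subtype.val_injective.comp (e.symm.injective.comp fun x y h => congrArg Prod.snd h),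
    fun x => mem_centralizer_singleton_iff.1 (e.symm (1, x)).2, fun g hg => ?_, fun x h => ?_⟩
  · set gC : centralizer ({D.a} : Set G) := ⟨g, mem_centralizer_singleton_iff.2 hg⟩
    refine ⟨(e gC).2, ?_⟩
    rcases zmod_two_cases (e gC).1 with h | h
    · left
      refine congrArg Subtype.val (e.injective ?_ : gC = e.symm (1, (e gC).2))
      rw [e.apply_symm_apply]
      exact Prod.ext h rfl
    · right
      refine congrArg Subtype.val (e.injective ?_ : gC = aC * e.symm (1, (e gC).2))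
      rw [map_mul, e.apply_symm_apply, ha1]
      exact Prod.ext (h.trans (mul_one _).symm) (one_mul _).symm
  · have h1 : e.symm (1, x) = aC := Subtype.ext h
    have h2 := congrArg (fun z => (e z).1) h1
    simp only [e.apply_symm_apply, ha1] at h2
    exact absurd h2.symm (by decide)

theorem card_centralizer_a : Nat.card (centralizer ({D.a} : Set G)) = q * ((q + 1) * (q - 1)) := by
  obtain ⟨e⟩ := D.inv
  rw [Nat.card_congr e.toEquiv, Nat.card_prod, Nat.card_eq_fintype_card, Fintype.card_multiplicative,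
    ZMod.card, D.lfacts.card]

omit [Finite G] in
theorem factorization_two : ((q - 1) * (q + 1)).factorization 2 = 3 := by
  obtain ⟨hq27, hq8, -⟩ := D.q_facts
  obtain ⟨k, hk⟩ : ∃ k, q = 8 * k + 3 := ⟨q / 8, by omega⟩
  subst hk
  have e : (8 * k + 3 - 1) * (8 * k + 3 + 1) = 2 ^ 3 * ((4 * k + 1) * (2 * k + 1)) := by
    rw [show 8 * k + 3 - 1 = 2 * (4 * k + 1) by omega, show 8 * k + 3 + 1 = 4 * (2 * k + 1) by omega]
    ring
  rw [e, Nat.factorization_mul (by norm_num) (by positivity), Finsupp.add_apply, Nat.factorization_pow,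
    Finsupp.smul_apply, Nat.Prime.factorization_self Nat.prime_two, Nat.factorization_eq_zero_of_not_dvd
    (fun h => by rcases Nat.prime_two.dvd_mul.1 h with h | h <;> omega)]
  simp

theorem factorization_G : (Nat.card G).factorization 2 = 3 := by
  obtain ⟨hq27, hq8, -⟩ := D.q_facts
  have ho : ¬ 2 ∣ q ^ 3 := fun h => by have := Nat.prime_two.dvd_of_dvd_pow h; omega
  have hQ : ¬ 2 ∣ q ^ 2 - q + 1 := by
    have : Even (q ^ 2 - q) := by
      rw [Nat.even_sub (Nat.le_self_pow (by norm_num) q), Nat.even_pow' (by norm_num)]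
    rw [← even_iff_two_dvd, Nat.even_add_one]
    exact not_not.2 this
  rw [D.card_eq, Nat.factorization_mul (fun h => ho (by rw [h]; exact dvd_zero 2)) (Nat.mul_ne_zero
      (Nat.mul_ne_zero (by omega) (by omega)) (by omega)),
    Finsupp.add_apply, Nat.factorization_eq_zero_of_not_dvd ho, zero_add,
    Nat.factorization_mul (Nat.mul_ne_zero (by omega) (by omega)) (by omega), Finsupp.add_apply,
    D.factorization_two, Nat.factorization_eq_zero_of_not_dvd hQ]

theorem card_sylow_two (S : Sylow 2 G) : Nat.card (S : Subgroup G) = 8 := by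
  rw [S.card_eq_multiplicity, D.factorization_G]
  norm_num

omit [Finite G] in
/-- There are no elements of order 4 in `L`. -/
theorem sq_of_pow_eight {x : L} (hx : x ^ 8 = 1) : x * x = 1 := by
  obtain ⟨hq27, hq8, -⟩ := D.q_facts
  have h8 := orderOf_dvd_of_pow_eq_one hx
  have hcase : orderOf x ∣ 2 := by
    rcases D.lfacts.orders x with h | h | h
    · refine Dvd.dvd.trans ?_ (one_dvd 2)
      rw [← show Nat.gcd 8 ((q - 1) / 2) = 1 from (Nat.Coprime.pow_left 3 (Nat.coprime_two_left.2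
        (Nat.odd_iff.2 (by omega))) : Nat.Coprime (2 ^ 3) ((q - 1) / 2))]
      exact Nat.dvd_gcd h8 h
    · rw [show (q + 1) / 2 = 2 * ((q + 1) / 4) by omega] at h
      have hco : (orderOf x).Coprime ((q + 1) / 4) :=
        Nat.Coprime.coprime_dvd_left h8 (Nat.Coprime.pow_left 3 (Nat.coprime_two_left.2
          (Nat.odd_iff.2 (by omega))) : Nat.Coprime (2 ^ 3) ((q + 1) / 4))
      exact hco.dvd_of_dvd_mul_right h
    · exact ((Nat.dvd_gcd h8 h).trans (dvd_of_eq (by norm_num))).trans (one_dvd 2)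
  rw [← pow_two]
  exact orderOf_dvd_iff_pow_eq_one.1 hcase

theorem exists_sylow_a : ∃ S : Sylow 2 G, D.a ∈ (S : Subgroup G) ∧
    (S : Subgroup G) ≤ centralizer ({D.a} : Set G) := by
  haveI : Fact (Nat.Prime 2) := ⟨Nat.prime_two⟩
  obtain ⟨T⟩ : Nonempty (Sylow 2 (centralizer ({D.a} : Set G))) := inferInstance
  obtain ⟨hq27, -, -⟩ := D.q_facts
  have hT : Nat.card (T : Subgroup (centralizer ({D.a} : Set G))) = 8 := by
    have ho : ¬ 2 ∣ q := by have := D.q_facts.2.1; omega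
    rw [T.card_eq_multiplicity, D.card_centralizer_a, Nat.factorization_mul (by omega)
      (Nat.mul_ne_zero (by omega) (by omega)), Finsupp.add_apply, Nat.factorization_eq_zero_of_not_dvd ho,
      mul_comm (q + 1), D.factorization_two]
    norm_num
  set S₀ := (T : Subgroup (centralizer ({D.a} : Set G))).map (centralizer ({D.a} : Set G)).subtype
  have hS₀ : Nat.card S₀ = 2 ^ (Nat.card G).factorization 2 := by
    rw [card_map_of_injective (subtype_injective _), hT, D.factorization_G]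
    norm_num
  refine ⟨Sylow.ofCard S₀ hS₀, ?_, map_subtype_le _⟩
  refine ⟨⟨D.a, mem_centralizer_singleton_iff.2 rfl⟩, ?_, rfl⟩
  set aC : centralizer ({D.a} : Set G) := ⟨D.a, mem_centralizer_singleton_iff.2 rfl⟩
  have hn : (zpowers aC).Normal := ⟨fun x hx g => by
    obtain ⟨k, rfl⟩ := mem_zpowers_iff.1 hx
    have : Commute g aC := Subtype.ext (mem_centralizer_singleton_iff.1 g.2)
    rw [(this.zpow_right k).eq, mul_inv_cancel_right]
    exact zpow_mem (mem_zpowers aC) k⟩
  have hp : IsPGroup 2 (zpowers aC) := IsPGroup.of_card (n := 1) (by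
    rw [Nat.card_zpowers, show aC = ⟨D.a, _⟩ from rfl, orderOf_mk, D.orderOf_a]; rfl)
  exact (T.3 (hp.to_sup_of_normal_left T.2) le_sup_right).le ((le_sup_left : zpowers aC ≤ zpowers aC ⊔ _) (mem_zpowers aC))

theorem sq_of_centralizer {g : G} (hg : g * D.a = D.a * g) (h8 : g ^ 8 = 1) : g * g = 1 := by
  obtain ⟨ι, hinj, hcomm, hdec, -⟩ := D.exists_emb
  have ha2 : D.a * D.a = 1 := by
    rw [← pow_two]
    exact orderOf_dvd_iff_pow_eq_one.1 D.orderOf_a.dvd
  obtain ⟨x, rfl | rfl⟩ := hdec g hg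
  · rw [← map_pow] at h8
    rw [← map_mul, D.sq_of_pow_eight (hinj (h8.trans (map_one ι).symm)), map_one]
  · have hc : Commute D.a (ι x) := (hcomm x).symm
    rw [hc.mul_pow, show D.a ^ 8 = (D.a * D.a) ^ 4 by rw [← pow_two, ← pow_mul], ha2, one_pow, one_mul,
      ← map_pow] at h8
    calc D.a * ι x * (D.a * ι x) = (D.a * D.a) * (ι x * ι x) := by
          rw [mul_assoc, ← mul_assoc (ι x), hcomm x]; group
      _ = 1 := by rw [ha2, ← map_mul, D.sq_of_pow_eight (hinj (h8.trans (map_one ι).symm)), map_one, one_mul]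

theorem sylow_two (S : Sylow 2 G) :
    Nat.card (S : Subgroup G) = 8 ∧ ∀ x ∈ (S : Subgroup G), x * x = 1 := by
  haveI : Fact (Nat.Prime 2) := ⟨Nat.prime_two⟩
  refine ⟨D.card_sylow_two S, fun x hx => ?_⟩
  obtain ⟨S₁, -, hS₁⟩ := D.exists_sylow_a
  obtain ⟨g, hg⟩ := MulAction.exists_smul_eq G S S₁
  have hx' : g * x * g⁻¹ ∈ (S₁ : Subgroup G) := by
    rw [← hg, Sylow.coe_subgroup_smul]
    exact ⟨x, hx, rfl⟩
  have h8 : (g * x * g⁻¹) ^ 8 = 1 := by
    rw [← D.card_sylow_two S₁]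
    exact orderOf_dvd_iff_pow_eq_one.1 (orderOf_dvd_natCard _ hx')
  have := D.sq_of_centralizer (mem_centralizer_singleton_iff.1 (hS₁ hx')) h8
  rw [show g * x * g⁻¹ * (g * x * g⁻¹) = g * (x * x) * g⁻¹ by group] at this
  exact conj_eq_one_iff.1 this

theorem sylow_two_comm (S : Sylow 2 G) {x y : G} (hx : x ∈ (S : Subgroup G)) (hy : y ∈ (S : Subgroup G)) :
    x * y = y * x := by
  have h := (D.sylow_two S).2
  have e1 := eq_inv_of_mul_eq_one_left (h _ (mul_mem hx hy))
  rw [mul_inv_rev, ← eq_inv_of_mul_eq_one_left (h _ hx), ← eq_inv_of_mul_eq_one_left (h _ hy)] at e1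
  exact e1

theorem index_two_false (M : Subgroup G) (hM : M.Normal) (hi : M.index = 2) : False := by
  haveI := D.simple
  obtain ⟨hq27, -, -⟩ := D.q_facts
  rcases hM.eq_bot_or_eq_top with h | h <;> rw [h] at hi
  · rw [index_bot, D.card] at hi
    have h1 : 2 ≤ q ^ 3 * (q - 1) :=
      le_trans (by omega : 2 ≤ q - 1) (Nat.le_mul_of_pos_left _ (by positivity))
    have h2 : 2 ≤ q ^ 3 + 1 := by have : 0 < q ^ 3 := by positivity
                                  omega
    nlinarith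
  · rw [index_top] at hi
    omega

/-- All involutions are conjugate. -/
theorem isConj_a {t : G} (ht : orderOf t = 2) : IsConj D.a t := by
  haveI : Fact (Nat.Prime 2) := ⟨Nat.prime_two⟩
  obtain ⟨S, haS, hS⟩ := D.exists_sylow_a
  obtain ⟨ι, hinj, hcomm, hdec, hne⟩ := D.exists_emb
  have hS2 := (D.sylow_two S).2
  set M := (S : Subgroup G) ⊓ ι.range with hM
  have haM : D.a ∉ M := fun h => by
    obtain ⟨x, hx⟩ := (mem_inf.1 h).2
    exact hne x hx
  have hform : ∀ g ∈ (S : Subgroup G), g ∈ M ∨ D.a * g ∈ M := by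
    intro g hg
    obtain ⟨x, rfl | hx⟩ := hdec g (mem_centralizer_singleton_iff.1 (hS hg))
    · exact Or.inl ⟨hg, x, rfl⟩
    · refine Or.inr ⟨mul_mem haS hg, x, ?_⟩
      rw [hx, ← mul_assoc, hS2 _ haS, one_mul]
  have hidx : M.relIndex (S : Subgroup G) = 2 := by
    rw [relIndex, index_eq_two_iff]
    refine ⟨⟨D.a, haS⟩, fun b => ?_⟩
    have hb := hform b b.2
    simp only [mem_subgroupOf, Subgroup.coe_mul]
    rw [D.sylow_two_comm S b.2 haS]
    refine (xor_iff_or_and_not_and _ _).2 ⟨hb.symm, fun hh => haM ?_⟩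
    have := mul_mem hh.1 (inv_mem hh.2)
    rwa [mul_inv_cancel_right] at this
  -- the involutions of `M` form one class
  have hMcls : ∀ x ∈ M, x ≠ 1 → ∀ y ∈ M, y ≠ 1 → IsConj x y := by
    rintro _ ⟨hxS, x, rfl⟩ hx1 _ ⟨hyS, y, rfl⟩ hy1
    have ho : ∀ z, ι z ∈ (S : Subgroup G) → ι z ≠ 1 → orderOf z = 2 := fun z hz hz1 => by
      refine orderOf_eq_prime (hinj ?_) fun h => hz1 (by rw [h, map_one])
      rw [map_pow, map_one, pow_two, hS2 _ hz]
    exact ι.map_isConj (D.lfacts.inv_conj x y (ho x hxS hx1) (ho y hyS hy1))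
  have key : ∀ u : G, u ∈ (S : Subgroup G) → u ∉ M → ∃ y ∈ M, y ≠ 1 ∧ IsConj u y := by
    intro u hu huM
    have hu1 : u ≠ 1 := fun h => huM (h ▸ one_mem M)
    have hu2 : orderOf u = 2 := orderOf_eq_prime (by rw [pow_two, hS2 _ hu]) hu1
    rcases Cfsg.Agent.S0111.result S M inf_le_left hidx u hu2 hu huM with ⟨N, hN, hi, -⟩ | ⟨g, hg⟩
    · exact (D.index_two_false N hN hi).elim
    · exact ⟨_, hg, fun e => hu1 (conj_eq_one_iff.1 e), isConj_iff.2 ⟨g, rfl⟩⟩
  -- move `t` into `S`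
  have hp : IsPGroup 2 (zpowers t) := IsPGroup.of_card (n := 1) (by rw [Nat.card_zpowers, ht, pow_one])
  obtain ⟨R, hR⟩ := hp.exists_le_sylow
  obtain ⟨g, hg⟩ := MulAction.exists_smul_eq G R S
  have htS : g * t * g⁻¹ ∈ (S : Subgroup G) := by
    rw [← hg, Sylow.coe_subgroup_smul]
    exact ⟨t, hR (mem_zpowers t), rfl⟩
  have ht1 : g * t * g⁻¹ ≠ 1 := fun h => by
    rw [conj_eq_one_iff.1 h, orderOf_one] at ht
    omega
  refine IsConj.trans ?_ (isConj_iff.2 ⟨g, rfl⟩ : IsConj t (g * t * g⁻¹)).symm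
  obtain ⟨y, hy, hy1, hay⟩ := key D.a haS haM
  refine hay.trans ?_
  by_cases htM : g * t * g⁻¹ ∈ M
  · exact hMcls y hy hy1 _ htM ht1
  · obtain ⟨z, hz, hz1, htz⟩ := key _ htS htM
    exact (hMcls y hy hy1 z hz hz1).trans htz.symm

theorem card_involutions : Nat.card {t : G // orderOf t = 2} = q ^ 2 * (q ^ 2 - q + 1) := by
  have h1 : {t : G | orderOf t = 2} = MulAction.orbit (ConjAct G) D.a := by
    ext t
    rw [ConjAct.mem_orbit_conjAct, Set.mem_setOf_eq]
    refine ⟨fun h => (D.isConj_a h).symm, fun h => ?_⟩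
    obtain ⟨c, hc⟩ := isConj_iff.1 h
    rw [← D.orderOf_a, ← hc, ← MulAut.conj_apply, MulEquiv.orderOf_eq]
  have h2 : (centralizer ({D.a} : Set G)).index = q ^ 2 * (q ^ 2 - q + 1) := by
    obtain ⟨hq27, -, -⟩ := D.q_facts
    have h := (centralizer ({D.a} : Set G)).card_mul_index
    rw [D.card_centralizer_a, D.card_eq] at h
    refine Nat.eq_of_mul_eq_mul_left (Nat.mul_pos (by omega) (Nat.mul_pos (by omega) (by omega))) (h.trans ?_)
    ring
  show Nat.card ↥{t : G | orderOf t = 2} = _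
  rw [h1, Nat.card_coe_set_eq, ← MulAction.index_stabilizer]
  rw [← h2, centralizer_eq_comap_stabilizer]
  exact (index_comap_of_surjective _ ConjAct.toConjAct.surjective).symm

theorem a_sq : D.a * D.a = 1 := by
  rw [← pow_two]
  exact orderOf_dvd_iff_pow_eq_one.1 D.orderOf_a.dvd

/-- The part of a Sylow 2-subgroup through `a` inside the simple factor. -/
theorem split_sylow {S : Sylow 2 G} (haS : D.a ∈ (S : Subgroup G))
    (hS : (S : Subgroup G) ≤ centralizer ({D.a} : Set G)) {ι : L →* G}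
    (hdec : ∀ g, g * D.a = D.a * g → ∃ x, g = ι x ∨ g = D.a * ι x) (hne : ∀ x, ι x ≠ D.a) :
    ∃ m₁ m₂, m₁ ∈ (S : Subgroup G) ⊓ ι.range ∧ m₂ ∈ (S : Subgroup G) ⊓ ι.range ∧ m₁ ≠ 1 ∧ m₂ ≠ 1 ∧
      m₁ ≠ m₂ ∧ (∀ m ∈ (S : Subgroup G) ⊓ ι.range, m = 1 ∨ m = m₁ ∨ m = m₂ ∨ m = m₁ * m₂) ∧
      Nat.card ((S : Subgroup G) ⊓ ι.range : Subgroup G) = 4 ∧
      ∀ g ∈ (S : Subgroup G), g ∈ (S : Subgroup G) ⊓ ι.range ∨ D.a * g ∈ (S : Subgroup G) ⊓ ι.range := by
  have hS2 := (D.sylow_two S).2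
  set M := (S : Subgroup G) ⊓ ι.range with hM
  have haM : D.a ∉ M := fun h => by
    obtain ⟨x, hx⟩ := (mem_inf.1 h).2
    exact hne x hx
  have hform : ∀ g ∈ (S : Subgroup G), g ∈ M ∨ D.a * g ∈ M := by
    intro g hg
    obtain ⟨x, rfl | hx⟩ := hdec g (mem_centralizer_singleton_iff.1 (hS hg))
    · exact Or.inl ⟨hg, x, rfl⟩
    · refine Or.inr ⟨mul_mem haS hg, x, ?_⟩
      rw [hx, ← mul_assoc, hS2 _ haS, one_mul]
  have hbij : Function.Bijective fun z : Bool × M =>
      (⟨(if z.1 then D.a else 1) * z.2, mul_mem (by split; exact haS; exact one_mem _) z.2.2.1⟩ :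
        (S : Subgroup G)) := by
    constructor
    · rintro ⟨b, x⟩ ⟨c, y⟩ e
      have e' : (if b then D.a else 1) * (x : G) = (if c then D.a else 1) * y := congrArg Subtype.val e
      cases b <;> cases c <;> simp only [if_true, if_false, one_mul, Bool.false_eq_true] at e'
      · exact Prod.ext rfl (Subtype.ext e')
      · exact absurd (eq_mul_inv_of_mul_eq e'.symm ▸ mul_mem x.2 (inv_mem y.2)) haM
      · exact absurd (eq_mul_inv_of_mul_eq e' ▸ mul_mem y.2 (inv_mem x.2)) haM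
      · exact Prod.ext rfl (Subtype.ext (mul_left_cancel e'))
    · rintro ⟨g, hg⟩
      rcases hform g hg with h | h
      · exact ⟨(false, ⟨g, h⟩), Subtype.ext (one_mul g)⟩
      · exact ⟨(true, ⟨_, h⟩), Subtype.ext (by show D.a * (D.a * g) = g; rw [← mul_assoc, D.a_sq, one_mul])⟩
  have hM4 : Nat.card M = 4 := by
    have := Nat.card_eq_of_bijective _ hbij
    rw [Nat.card_prod, Nat.card_eq_fintype_card, Fintype.card_bool, D.card_sylow_two S] at this
    omega
  have hN : (M : Set G).ncard = 4 := by rw [← Nat.card_coe_set_eq]; exact hM4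
  obtain ⟨m₁, h1, h1'⟩ := Set.exists_ne_of_one_lt_ncard (by rw [hN]; norm_num : 1 < (M : Set G).ncard) 1
  have hlt : ({1, m₁} : Set G).ncard < (M : Set G).ncard := by
    rw [Set.ncard_pair h1'.symm, hN]; norm_num
  obtain ⟨m₂, h2, h2'⟩ := Set.exists_mem_notMem_of_ncard_lt_ncard hlt
  simp only [Set.mem_insert_iff, Set.mem_singleton_iff, not_or] at h2'
  refine ⟨m₁, m₂, h1, h2, h1', h2'.1, Ne.symm h2'.2, ?_, hM4, hform⟩
  have hsub : ({1, m₁, m₂, m₁ * m₂} : Set G) ⊆ M := by
    simp only [Set.insert_subset_iff, Set.singleton_subset_iff]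
    exact ⟨one_mem M, h1, h2, mul_mem (show m₁ ∈ M from h1) h2⟩
  have e3 : m₁ * m₂ ≠ 1 := fun h => h2'.2 (by
    rw [← one_mul m₂, ← hS2 m₁ (mem_inf.1 h1).1, mul_assoc, h, mul_one])
  have e4 : m₁ ≠ m₁ * m₂ := fun h => h2'.1 (left_eq_mul.1 h)
  have e5 : m₂ ≠ m₁ * m₂ := fun h => h1' (right_eq_mul.1 h)
  have hc : ({1, m₁, m₂, m₁ * m₂} : Set G).ncard = 4 := by
    rw [Set.ncard_insert_of_notMem, Set.ncard_insert_of_notMem, Set.ncard_pair e5] <;>
      simp [Ne.symm h1', h2'.2, Ne.symm h2'.2, Ne.symm h2'.1, Ne.symm e3, e4]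
  have heq := Set.eq_of_subset_of_ncard_le hsub (by rw [hc, hN])
  intro m hm
  have : m ∈ ({1, m₁, m₂, m₁ * m₂} : Set G) := heq ▸ hm
  simpa using this

omit [Group L] [Finite L] D in
/-- Orbit-stabiliser for conjugation. -/
theorem card_eq_orbit_mul (N : Subgroup G) (a : G) :
    Nat.card N = {x | ∃ n ∈ N, n * a * n⁻¹ = x}.ncard *
      Nat.card (N ⊓ centralizer ({a} : Set G) : Subgroup G) := by
  rw [card_eq_card_quotient_mul_card_subgroup ((centralizer ({a} : Set G)).subgroupOf N),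
    ← Nat.card_coe_set_eq, ← inf_subgroupOf_left (centralizer ({a} : Set G)) N,
    Nat.card_congr (subgroupOfEquivOfLe
      (inf_le_left : N ⊓ centralizer ({a} : Set G) ≤ N)).toEquiv]
  congr 1
  have key : ∀ n m : N, n⁻¹ * m ∈ (N ⊓ centralizer ({a} : Set G)).subgroupOf N ↔
      (n : G) * a * (n : G)⁻¹ = m * a * (m : G)⁻¹ := by
    intro n m
    rw [mem_subgroupOf, mem_inf, and_iff_right (SetLike.coe_mem _), mem_centralizer_singleton_iff,
      Subgroup.coe_mul, InvMemClass.coe_inv]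
    constructor <;> intro h
    · calc (n : G) * a * (n : G)⁻¹ = n * (a * ((n : G)⁻¹ * m)) * (m : G)⁻¹ := by group
        _ = n * ((n : G)⁻¹ * m * a) * (m : G)⁻¹ := by rw [h]
        _ = m * a * (m : G)⁻¹ := by group
    · calc (n : G)⁻¹ * m * a = (n : G)⁻¹ * (m * a * (m : G)⁻¹) * m := by group
        _ = (n : G)⁻¹ * (n * a * (n : G)⁻¹) * m := by rw [h]
        _ = a * ((n : G)⁻¹ * m) := by group
  refine Nat.card_eq_of_bijective (Quotient.lift (fun n : N =>
    (⟨n * a * (n : G)⁻¹, n, n.2, rfl⟩ : {x | ∃ n ∈ N, n * a * n⁻¹ = x}))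
      fun n m h => Subtype.ext ((key n m).1 (QuotientGroup.leftRel_apply.1 h))) ⟨?_, ?_⟩
  · rintro ⟨n⟩ ⟨m⟩ h
    exact Quotient.sound (QuotientGroup.leftRel_apply.2 ((key n m).2 (congrArg Subtype.val h)))
  · rintro ⟨_, n, hn, rfl⟩
    exact ⟨Quotient.mk _ ⟨n, hn⟩, rfl⟩

theorem normalizer_sylow_two₀ {S : Sylow 2 G} (haS : D.a ∈ (S : Subgroup G))
    (hS : (S : Subgroup G) ≤ centralizer ({D.a} : Set G)) :
    centralizer ((S : Subgroup G) : Set G) = S ∧
      Nat.card (normalizer ((S : Subgroup G) : Set G)) = 168 := by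
  haveI : Fact (Nat.Prime 2) := ⟨Nat.prime_two⟩
  obtain ⟨ι, hinj, hcomm, hdec, hne⟩ := D.exists_emb
  obtain ⟨hq27, hq8, hq3⟩ := D.q_facts
  obtain ⟨m₁, m₂, h1, h2, h1', h2', h12, hM, hM4, hform⟩ := D.split_sylow haS hS hdec hne
  have hS2 := (D.sylow_two S).2
  have hSc : (S : Subgroup G) ≤ centralizer ((S : Subgroup G) : Set G) := fun x hx =>
    mem_centralizer_iff.2 fun y hy => D.sylow_two_comm S hy hx
  have absorb : ∀ z ∈ normalizer ((S : Subgroup G) : Set G), ∀ k : ℕ, z ^ 2 ^ k = 1 → z ∈ (S : Subgroup G) := by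
    intro z hz k hk
    obtain ⟨i, -, hi⟩ := (Nat.dvd_prime_pow Nat.prime_two).1 (orderOf_dvd_of_pow_eq_one hk)
    have hp : IsPGroup 2 (zpowers z) := IsPGroup.of_card (n := i) (by rw [Nat.card_zpowers, hi])
    exact (S.3 (hp.to_sup_of_normal_right' S.2 (zpowers_le.2 hz)) le_sup_right).le
      ((le_sup_left : zpowers z ≤ zpowers z ⊔ _) (mem_zpowers z))
  have hCS : centralizer ((S : Subgroup G) : Set G) = S := by
    refine le_antisymm (fun z hz => ?_) hSc
    have hzN : z ∈ normalizer ((S : Subgroup G) : Set G) := centralizer_le_normalizer _ hz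
    have hzc : ∀ y ∈ (S : Subgroup G), y * z = z * y := mem_centralizer_iff.1 hz
    refine absorb z hzN 1 ?_
    obtain ⟨x, hx⟩ := hdec z (hzc _ haS).symm
    obtain ⟨v₁, hv₁⟩ := (mem_inf.1 h1).2
    obtain ⟨v₂, hv₂⟩ := (mem_inf.1 h2).2
    have hxc : ∀ v, ι v ∈ (S : Subgroup G) → v * x = x * v := fun v hv => hinj (by
      have hh := hzc _ hv
      rw [map_mul, map_mul]
      rcases hx with rfl | rfl
      · exact hh
      · rw [← mul_assoc, hcomm v, mul_assoc, mul_assoc] at hh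
        exact mul_left_cancel hh)
    have hx2 : x * x = 1 := by
      have hv : ∀ v m, ι v = m → m ∈ (S : Subgroup G) → m ≠ 1 → orderOf v = 2 := by
        rintro v m rfl hm hm1
        refine orderOf_eq_prime (hinj ?_) fun h => hm1 (by rw [h, map_one])
        rw [map_pow, map_one, pow_two, hS2 _ hm]
      have o1 := hv v₁ m₁ hv₁ (mem_inf.1 h1).1 h1'
      have o2 := hv v₂ m₂ hv₂ (mem_inf.1 h2).1 h2'
      rcases Nat.lt_or_ge (orderOf x) 3 with hlt | hge
      · rw [← pow_two]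
        refine orderOf_dvd_iff_pow_eq_one.1 ?_
        have := orderOf_pos x
        interval_cases orderOf x <;> norm_num
      exfalso
      have c1 := hxc v₁ (hv₁ ▸ (mem_inf.1 h1).1)
      have c2 := hxc v₂ (hv₂ ▸ (mem_inf.1 h2).1)
      by_cases hd : orderOf x ∣ 3
      · have h3 : orderOf x = 3 := le_antisymm (Nat.le_of_dvd (by norm_num) hd) hge
        have h' := orderOf_dvd_natCard _ (mem_centralizer_singleton_iff.2 c1.symm :
          x ∈ centralizer ({v₁} : Set L))
        rw [D.lfacts.inv_cent v₁ o1, h3] at h'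
        omega
      · obtain ⟨y, -, hC, -⟩ := D.lfacts.tor x hge hd
        have e1 : v₁ ∈ zpowers y := hC ▸ mem_centralizer_singleton_iff.2 c1
        have e2 : v₂ ∈ zpowers y := hC ▸ mem_centralizer_singleton_iff.2 c2
        refine h12 ?_
        rw [← hv₁, ← hv₂]
        haveI := Fintype.ofFinite (zpowers y)
        have := IsCyclic.card_orderOf_eq_totient (α := zpowers y) (d := 2)
        refine congrArg ι ?_
        by_contra hne12
        have hdvd : 2 ∣ Fintype.card (zpowers y) := by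
          rw [← Nat.card_eq_fintype_card, ← o1]; exact orderOf_dvd_natCard _ e1
        have hle : 1 < (Finset.univ.filter fun z : zpowers y => orderOf z = 2).card :=
          Finset.one_lt_card.2 ⟨(⟨v₁, e1⟩ : zpowers y), Finset.mem_filter.2
          ⟨Finset.mem_univ _, (orderOf_mk _ _).trans o1⟩, ⟨v₂, e2⟩, Finset.mem_filter.2
          ⟨Finset.mem_univ _, (orderOf_mk _ _).trans o2⟩, fun e => hne12 (congrArg Subtype.val e)⟩
        rw [this hdvd, Nat.totient_two] at hle
        omega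
    rcases hx with rfl | rfl
    · rw [pow_one, pow_two, ← map_mul, hx2, map_one]
    · rw [pow_one, (Commute.mul_pow (hcomm x).symm 2), pow_two, pow_two, D.a_sq, ← map_mul, hx2, map_one,
        one_mul]
  refine ⟨hCS, ?_⟩
  set N := normalizer ((S : Subgroup G) : Set G) with hN
  set K := N ⊓ centralizer ({D.a} : Set G) with hK
  have hSK : (S : Subgroup G) ≤ K := le_inf le_normalizer hS
  have hNmem : ∀ n ∈ N, ∀ s, s ∈ (S : Subgroup G) ↔ n * s * n⁻¹ ∈ (S : Subgroup G) := fun n hn =>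
    mem_normalizer_iff.1 hn
  -- the orbit of `a` under `N`
  have horb : {x | ∃ n ∈ N, n * D.a * n⁻¹ = x} = ((S : Subgroup G) : Set G) \ {1} := by
    ext x
    refine ⟨?_, fun hx => ?_⟩
    · rintro ⟨n, hn, rfl⟩
      exact ⟨(hNmem n hn _).1 haS, fun e => D.a_ne (conj_eq_one_iff.1 e)⟩
    · obtain ⟨g, hg⟩ := isConj_iff.1 (D.isConj_a (orderOf_eq_prime
        (by rw [pow_two, hS2 _ hx.1]) hx.2))
      obtain ⟨n, hn, he⟩ := S.conj_eq_normalizer_conj_of_mem_centralizer D.a g⁻¹ (hSc haS)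
        (by rw [inv_inv, hg]; exact hSc hx.1)
      exact ⟨n⁻¹, inv_mem hn, by rw [inv_inv, ← he, inv_inv, hg]⟩
  have hNK : Nat.card N = 7 * Nat.card K := by
    rw [card_eq_orbit_mul N D.a, horb, Set.ncard_sdiff (Set.singleton_subset_iff.2 (one_mem _)),
      Set.ncard_singleton, ← Nat.card_coe_set_eq]
    show (Nat.card (S : Subgroup G) - 1) * _ = _
    rw [D.card_sylow_two S]
  -- the orbit of `m₁` under `K`
  have hKconj : ∀ k ∈ K, ∀ m ∈ (S : Subgroup G) ⊓ ι.range, k * m * k⁻¹ ∈ (S : Subgroup G) ⊓ ι.range := by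
    rintro k hk m ⟨hmS, x, rfl⟩
    refine ⟨(hNmem k (mem_inf.1 hk).1 _).1 hmS, ?_⟩
    obtain ⟨y, rfl | rfl⟩ := hdec k (mem_centralizer_singleton_iff.1 (mem_inf.1 hk).2)
    · exact ⟨y * x * y⁻¹, by simp⟩
    · refine ⟨y * x * y⁻¹, ?_⟩
      rw [map_mul, map_mul, map_inv,
        show D.a * ι y * ι x * (D.a * ι y)⁻¹ = D.a * (ι y * ι x * (ι y)⁻¹) * D.a⁻¹ by group]
      rw [← map_inv, ← map_mul, ← map_mul, ← hcomm, mul_inv_cancel_right]
  have horb' : {x | ∃ n ∈ K, n * m₁ * n⁻¹ = x} =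
      (((S : Subgroup G) ⊓ ι.range : Subgroup G) : Set G) \ {1} := by
    ext x
    refine ⟨?_, fun hx => ?_⟩
    · rintro ⟨n, hn, rfl⟩
      exact ⟨hKconj n hn _ h1, fun e => h1' (conj_eq_one_iff.1 e)⟩
    · obtain ⟨u, hu⟩ := (mem_inf.1 hx.1).2
      obtain ⟨v, hv⟩ := (mem_inf.1 h1).2
      have ho : ∀ z m, ι z = m → m ∈ (S : Subgroup G) → m ≠ 1 → orderOf z = 2 := by
        rintro z m rfl hm hm1
        refine orderOf_eq_prime (hinj ?_) fun h => hm1 (by rw [h, map_one])
        rw [map_pow, map_one, pow_two, hS2 _ hm]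
      obtain ⟨g, hg⟩ := isConj_iff.1 (D.lfacts.inv_conj v u (ho v m₁ hv (mem_inf.1 h1).1 h1')
        (ho u x hu (mem_inf.1 hx.1).1 hx.2))
      set C := centralizer ({D.a} : Set G) with hC
      have hgC : ι g ∈ C := mem_centralizer_singleton_iff.2 (hcomm g)
      have hcc : ∀ y : C, (y : G) ∈ (S : Subgroup G) → y ∈ centralizer ((S.subtype hS : Subgroup C) : Set C) :=
        fun y hy => mem_centralizer_iff.2 fun z hz => Subtype.ext (D.sylow_two_comm S hz hy)
      obtain ⟨n, hn, he⟩ := (S.subtype hS).conj_eq_normalizer_conj_of_mem_centralizer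
        ⟨m₁, hS (mem_inf.1 h1).1⟩ ⟨ι g, hgC⟩⁻¹ (hcc _ (mem_inf.1 h1).1) (hcc _ (by
          show ((ι g)⁻¹)⁻¹ * m₁ * (ι g)⁻¹ ∈ _
          rw [inv_inv, ← hv, ← map_inv, ← map_mul, ← map_mul, hg, hu]
          exact (mem_inf.1 hx.1).1))
      refine ⟨((n⁻¹ : C) : G), mem_inf.2 ⟨?_, (n⁻¹ : C).2⟩, ?_⟩
      · rw [hN, mem_normalizer_iff]
        intro s
        by_cases hs : s ∈ C
        · have := mem_normalizer_iff.1 (inv_mem hn) ⟨s, hs⟩
          simpa [Sylow.coe_subtype, mem_subgroupOf] using this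
        · refine iff_of_false (fun h => hs (hS h)) fun h => hs ?_
          have := mul_mem (mul_mem n.2 (hS h)) (inv_mem n.2)
          simpa [mul_assoc] using this
      · have := congrArg (fun y : C => (y : G)) he
        simp only [Subgroup.coe_mul, InvMemClass.coe_inv, inv_inv] at this ⊢
        rw [← this, ← hv, ← map_inv, ← map_mul, ← map_mul, hg, hu]
  -- the stabiliser of `m₁`
  have hstab : K ⊓ centralizer ({m₁} : Set G) = S := by
    refine le_antisymm (fun k hk => ?_) (le_inf hSK fun s hs =>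
      mem_centralizer_singleton_iff.2 (D.sylow_two_comm S hs (mem_inf.1 h1).1))
    obtain ⟨hkK, hk1⟩ := mem_inf.1 hk
    rw [mem_centralizer_singleton_iff] at hk1
    have hka := mem_centralizer_singleton_iff.1 (mem_inf.1 hkK).2
    have hfix : ∀ j : G, j * D.a = D.a * j → j * m₁ = m₁ * j → j * m₂ = m₂ * j →
        j ∈ centralizer ((S : Subgroup G) : Set G) := by
      intro j ja j1 j2
      have key : ∀ m ∈ (S : Subgroup G) ⊓ ι.range, m * j = j * m := by
        intro m hm
        rcases hM m hm with rfl | rfl | rfl | rfl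
        · rw [one_mul, mul_one]
        · exact j1.symm
        · exact j2.symm
        · rw [mul_assoc, ← j2, ← mul_assoc, ← j1, mul_assoc]
      refine mem_centralizer_iff.2 fun s hs => ?_
      rcases hform s hs with h | h
      · exact key s h
      · have := key _ h
        rw [mul_assoc, ← mul_assoc j, ja, mul_assoc] at this
        exact mul_left_cancel this
    have hk2 : k * m₂ * k⁻¹ = m₂ ∨ k * m₂ * k⁻¹ = m₁ * m₂ := by
      rcases hM _ (hKconj k hkK m₂ h2) with e | e | e | e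
      · exact absurd (conj_eq_one_iff.1 e) h2'
      · refine absurd ?_ h12
        have e' : k * m₂ = m₁ * k := mul_inv_eq_iff_eq_mul.1 e
        exact (mul_left_cancel (e'.trans hk1.symm)).symm
      · exact Or.inl e
      · exact Or.inr e
    refine hCS.le (hfix k hka hk1 ?_)
    rcases hk2 with e | e
    · exact mul_inv_eq_iff_eq_mul.1 e
    · exfalso
      have hkk : k * k ∈ (S : Subgroup G) := by
        refine hCS.le (hfix _ (by rw [mul_assoc, hka, ← mul_assoc, hka, mul_assoc])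
          (by rw [mul_assoc, hk1, ← mul_assoc, hk1, mul_assoc]) (mul_inv_eq_iff_eq_mul.1 ?_))
        calc k * k * m₂ * (k * k)⁻¹ = k * (k * m₂ * k⁻¹) * k⁻¹ := by group
          _ = k * (m₁ * m₂) * k⁻¹ := by rw [e]
          _ = (k * m₁ * k⁻¹) * (k * m₂ * k⁻¹) := by group
          _ = m₁ * (m₁ * m₂) := by rw [e, hk1, mul_inv_cancel_right]
          _ = m₂ := by rw [← mul_assoc, hS2 _ (mem_inf.1 h1).1, one_mul]
      have hkS := absorb k (mem_inf.1 hkK).1 2 (by
        rw [show (2 : ℕ) ^ 2 = 2 * 2 from rfl, pow_mul, pow_two, pow_two, hS2 _ hkk])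
      rw [D.sylow_two_comm S hkS (mem_inf.1 h2).1, mul_inv_cancel_right] at e
      exact h1' (mul_eq_right.1 e.symm)
  rw [hNK, card_eq_orbit_mul K m₁, horb', hstab, D.card_sylow_two S,
    Set.ncard_sdiff (Set.singleton_subset_iff.2 (one_mem _)), Set.ncard_singleton, ← Nat.card_coe_set_eq]
  show 7 * ((Nat.card ((S : Subgroup G) ⊓ ι.range : Subgroup G) - 1) * 8) = 168
  rw [hM4]

/-- `C(S) = S` and `|N(S)| = 168`. -/
theorem normalizer_sylow_two (S : Sylow 2 G) :
    centralizer ((S : Subgroup G) : Set G) = S ∧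
      Nat.card (normalizer ((S : Subgroup G) : Set G)) = 168 := by
  haveI : Fact (Nat.Prime 2) := ⟨Nat.prime_two⟩
  obtain ⟨S₁, ha, hS₁⟩ := D.exists_sylow_a
  obtain ⟨hC, hN⟩ := D.normalizer_sylow_two₀ ha hS₁
  obtain ⟨g, rfl⟩ := MulAction.exists_smul_eq G S₁ S
  have hmap : ((g • S₁ : Sylow 2 G) : Subgroup G) = (S₁ : Subgroup G).map (MulAut.conj g).toMonoidHom := rfl
  constructor
  · refine le_antisymm (fun z hz => ?_) fun z hz => mem_centralizer_iff.2 fun y hy =>
      D.sylow_two_comm _ hy hz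
    have h1 : g⁻¹ * z * g ∈ (S₁ : Subgroup G) := hC.le (mem_centralizer_iff.2 fun y hy => by
      have := mem_centralizer_iff.1 hz (g * y * g⁻¹) (by rw [hmap]; exact ⟨y, hy, rfl⟩)
      calc y * (g⁻¹ * z * g) = g⁻¹ * ((g * y * g⁻¹) * z) * g := by group
        _ = g⁻¹ * (z * (g * y * g⁻¹)) * g := by rw [this]
        _ = g⁻¹ * z * g * y := by group)
    rw [hmap]
    exact ⟨_, h1, by show g * (g⁻¹ * z * g) * g⁻¹ = z; group⟩
  · rw [← hN, hmap, ← map_equiv_normalizer_eq, card_map_of_injective (MulEquiv.injective _)]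

end Data

end Cfsg.Agent.ReeTori
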