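/-
The torus of order `q + 1` in groups with the local data of a small Ree group.

* `eq_of_card_cyclic`, `normalizer_le_centralizer`, `normalizer_le_of_cyclic` : generalities
* `Torus` : the properties of the torus `T = E × Y`
* `exists_torus`
* `exists_conj_mem_torus`, `centralizer_torus`
-/
import Cfsg.Agent.Lib.ReeTori.Involution
import Cfsg.Agent.Lib.Coprime.Generation

set_option autoImplicit false

namespace Cfsg.Agent.ReeTori

open Subgroup
open scoped Pointwise

section General

variable {G : Type*} [Group G]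

/-- A cyclic subgroup has at most one subgroup of each order. -/
theorem eq_of_card_cyclic [Finite G] {A B C : Subgroup G} (hA : IsCyclic A) (hB : B ≤ A) (hC : C ≤ A)
    (h : Nat.card B = Nat.card C) : B = C := by
  classical
  haveI := hA
  letI := Fintype.ofFinite A
  have key : ∀ M : Subgroup A,
      Finset.univ.filter (fun x => x ∈ M) = Finset.univ.filter (fun x : A => x ^ Nat.card M = 1) := by
    intro M
    refine Finset.eq_of_subset_of_card_le (fun x hx => ?_) ?_
    · simp only [Finset.mem_filter, Finset.mem_univ, true_and] at hx ⊢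
      exact congrArg Subtype.val (pow_card_eq_one' (x := (⟨x, hx⟩ : M)))
    · refine (IsCyclic.card_pow_eq_one_le Nat.card_pos).trans (le_of_eq ?_)
      rw [← Fintype.card_subtype, Nat.card_eq_fintype_card]
  have h' : B.subgroupOf A = C.subgroupOf A := by
    ext x
    have h1 := Finset.ext_iff.1 (key (B.subgroupOf A)) x
    have h2 := Finset.ext_iff.1 (key (C.subgroupOf A)) x
    simp only [Finset.mem_filter, Finset.mem_univ, true_and] at h1 h2
    rw [h1, h2, Nat.card_congr (subgroupOfEquivOfLe hB).toEquiv,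
      Nat.card_congr (subgroupOfEquivOfLe hC).toEquiv, h]
  rwa [subgroupOf_inj, inf_eq_left.2 hB, inf_eq_left.2 hC] at h'

theorem normalizer_le_centralizer (A : Subgroup G) :
    normalizer (A : Set G) ≤ normalizer (centralizer (A : Set G) : Set G) := by
  intro g hg
  rw [mem_normalizer_iff]
  intro x
  rw [mem_centralizer_iff, mem_centralizer_iff]
  constructor <;> intro h y hy
  · have := h (g⁻¹ * y * g) (by
      have h' := (mem_normalizer_iff.1 (inv_mem hg) y).1 hy
      rwa [inv_inv] at h')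
    calc y * (g * x * g⁻¹) = g * ((g⁻¹ * y * g) * x) * g⁻¹ := by group
      _ = g * (x * (g⁻¹ * y * g)) * g⁻¹ := by rw [this]
      _ = g * x * g⁻¹ * y := by group
  · have := h (g * y * g⁻¹) ((mem_normalizer_iff.1 hg y).1 hy)
    calc y * x = g⁻¹ * ((g * y * g⁻¹) * (g * x * g⁻¹)) * g := by group
      _ = g⁻¹ * ((g * x * g⁻¹) * (g * y * g⁻¹)) * g := by rw [this]
      _ = x * y := by group

theorem normalizer_le_of_cyclic [Finite G] {A A₀ : Subgroup G} (hA : IsCyclic A) (h : A₀ ≤ A) :
    normalizer (A : Set G) ≤ normalizer (A₀ : Set G) := by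
  intro g hg
  have hmap : A₀.map (MulAut.conj g).toMonoidHom = A₀ := by
    refine eq_of_card_cyclic hA ?_ h (card_map_of_injective (MulEquiv.injective _))
    rintro _ ⟨x, hx, rfl⟩
    exact (mem_normalizer_iff.1 hg x).1 (h hx)
  rw [mem_normalizer_iff]
  intro x
  conv_rhs => rw [← hmap]
  exact ⟨fun hx => ⟨x, hx, rfl⟩, fun ⟨y, hy, e⟩ => (MulEquiv.injective (MulAut.conj g) e) ▸ hy⟩

theorem pow_six_fix {α : Type*} (f : α → α) (hf : Function.Injective f) (s : Finset α)
    (hs : s.card ≤ 3) (hmaps : ∀ x ∈ s, f x ∈ s) {x : α} (hx : x ∈ s) : f^[6] x = x := by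
  have hmem : ∀ k, f^[k] x ∈ s := fun k => by
    induction k with
    | zero => exact hx
    | succ k ih => rw [Function.iterate_succ_apply']; exact hmaps _ ih
  obtain ⟨i, hi, j, hj, hij, he⟩ := Finset.exists_ne_map_eq_of_card_lt_of_maps_to
    (s := Finset.range 4) (t := s) (f := fun k => f^[k] x) (by rw [Finset.card_range]; omega)
    (fun k _ => hmem k)
  rw [Finset.mem_range] at hi hj
  have key : ∀ i j, i < j → j < 4 → f^[i] x = f^[j] x → f^[6] x = x := by
    intro i j hlt hj e
    have h1 : f^[j - i] x = x := by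
      refine (hf.iterate i) ?_
      rw [← Function.iterate_add_apply, show i + (j - i) = j by omega, e]
    obtain ⟨k, hk⟩ : (j - i) ∣ 6 := by
      have : j - i = 1 ∨ j - i = 2 ∨ j - i = 3 := by omega
      rcases this with h | h | h <;> rw [h] <;> norm_num
    rw [hk, Function.iterate_mul]
    exact Function.iterate_fixed h1 k
  rcases Nat.lt_or_ge i j with h | h
  · exact key i j h hj he
  · exact key j i (by omega) hi he.symm

theorem pow_mem_of_two_three {G : Type*} [Group G] {C : Subgroup G} {n : G} {r : ℕ} (h6 : n ^ 6 ∈ C)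
    (hr : n ^ r ∈ C) (hco : Nat.Coprime 6 r) : n ∈ C := by
  have h1 := Nat.gcd_eq_gcd_ab 6 r
  rw [hco] at h1
  have h2 : n = n ^ (((6 : ℕ) : ℤ) * Nat.gcdA 6 r + (r : ℤ) * Nat.gcdB 6 r) := by
    rw [← h1, Nat.cast_one, zpow_one]
  rw [h2, zpow_add, zpow_mul, zpow_mul, zpow_natCast, zpow_natCast]
  exact mul_mem (zpow_mem h6 _) (zpow_mem hr _)

/-- Burnside's transfer, followed by generation by centralisers. -/
theorem le_of_transfer {G : Type*} [Group G] [Finite G] {K E T : Subgroup G} [IsMulCommutative E]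
    (hEK : E ≤ K) (hET : E ≤ T) (P : Sylow 2 K) (hP : (P : Subgroup K) = E.subgroupOf K)
    (hE4 : Nat.card E = 4) (hnc : ¬ IsCyclic E)
    (hN : ∀ n ∈ K, (∀ e ∈ E, n * e * n⁻¹ ∈ E) → ∀ e ∈ E, e * n = n * e)
    (hC : ∀ e ∈ E, e ≠ 1 → K ⊓ centralizer ({e} : Set G) ≤ T) : K ≤ T := by
  haveI : Fact (Nat.Prime 2) := ⟨Nat.prime_two⟩
  have hNP : normalizer (P : Set K) ≤ centralizer (P : Set K) := by
    intro n hn
    rw [mem_centralizer_iff]
    intro e he
    refine Subtype.ext (hN n n.2 (fun x hx => ?_) e (hP.le he))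
    exact hP.le ((mem_normalizer_iff.1 hn ⟨x, hEK hx⟩).1 (hP.ge hx))
  have hcompl := MonoidHom.ker_transferSylow_isComplement' P hNP
  have hd := MonoidHom.not_dvd_card_ker_transferSylow P hNP
  have hn : (MonoidHom.transferSylow P hNP).ker.Normal := inferInstance
  generalize (MonoidHom.transferSylow P hNP).ker = R at hcompl hd hn
  have hnorm : E ≤ normalizer (R.map K.subtype : Set G) := by
    intro e he
    rw [mem_normalizer_iff]
    intro x
    constructor
    · rintro ⟨z, hz, rfl⟩
      exact ⟨_, hn.conj_mem z hz ⟨e, hEK he⟩, rfl⟩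
    · rintro ⟨z, hz, hz'⟩
      refine ⟨_, hn.conj_mem z hz ⟨e, hEK he⟩⁻¹, ?_⟩
      show e⁻¹ * (z : G) * (e⁻¹)⁻¹ = x
      rw [show ((z : G)) = e * x * e⁻¹ from hz']
      group
  have hcop : (Nat.card (R.map K.subtype)).Coprime (Nat.card E) := by
    rw [card_map_of_injective (subtype_injective _), hE4, show (4 : ℕ) = 2 ^ 2 from rfl]
    exact (Nat.Coprime.pow_left 2 ((Nat.Prime.coprime_iff_not_dvd Nat.prime_two).2 hd)).symm
  have hK1T : R.map K.subtype ≤ T := Cfsg.Agent.Coprime.le_of_noncyclic hnc hnorm hcop.symm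
    fun e he he1 => le_trans (inf_le_inf_right _ (map_subtype_le _)) (hC e he he1)
  intro x hx
  obtain ⟨⟨k₁, p₁⟩, hkp⟩ := hcompl.2 ⟨x, hx⟩
  have hxe : x = ((k₁ : K) : G) * ((p₁ : K) : G) := (congrArg Subtype.val hkp).symm
  rw [hxe]
  exact mul_mem (hK1T ⟨_, k₁.2, rfl⟩) (hET (hP.le p₁.2))

end General

namespace Data

variable {G : Type*} [Group G] {L : Type*} [Group L] {q : ℕ}

/-- The properties of the torus `T = E × Y` of order `q + 1`. -/
structure Torus (D : Data G L q) (T E Y : Subgroup G) : Prop where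
  comm : ∀ x ∈ T, ∀ y ∈ T, x * y = y * x
  card : Nat.card T = q + 1
  E_le : E ≤ T
  Y_le : Y ≤ T
  card_E : Nat.card E = 4
  card_Y : Nat.card Y = (q + 1) / 4
  Y_cyclic : IsCyclic Y
  sq : ∀ x ∈ T, x * x ∈ Y
  mem_E : ∀ x, x ∈ E ↔ x ∈ T ∧ x * x = 1
  cent : ∀ y ∈ Y, y ≠ 1 → centralizer ({y} : Set G) = T
  card_CE : Nat.card (centralizer (E : Set G)) = 2 * (q + 1)
  N_E : normalizer (E : Set G) = normalizer (T : Set G)
  N_Y : normalizer (Y : Set G) = normalizer (T : Set G)
  card_N : Nat.card (normalizer (T : Set G)) = 6 * (q + 1)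
  four : ∀ t u : G, orderOf t = 2 → orderOf u = 2 → t * u = u * t → t ≠ u →
    ∃ g : G, g * t * g⁻¹ ∈ E ∧ g * u * g⁻¹ ∈ E

variable [Finite G] [Finite L] (D : Data G L q)
include D

theorem pow_eight_of_two {x : G} (S : Subgroup G) (hS : IsPGroup 2 S) (hx : x ∈ S) {y : G} (hy : y ∈ S) :
    x * y = y * x := by
  haveI : Fact (Nat.Prime 2) := ⟨Nat.prime_two⟩
  obtain ⟨R, hR⟩ := hS.exists_le_sylow
  exact D.sylow_two_comm R (hR hx) (hR hy)

set_option maxHeartbeats 1600000 in
theorem exists_torus : ∃ T E Y : Subgroup G, D.Torus T E Y := by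
  haveI : Fact (Nat.Prime 2) := ⟨Nat.prime_two⟩
  haveI : Fact (Nat.Prime 3) := ⟨Nat.prime_three⟩
  obtain ⟨ι, hinj, hcomm, hdec, hne⟩ := D.exists_emb
  obtain ⟨hq27, hq8, hq3⟩ := D.q_facts
  obtain ⟨-, l₀, hl₀⟩ := D.lfacts.exists_tor
  set k := (q + 1) / 4 with hkdef
  have hk2 : (q + 1) / 2 = 2 * k := by omega
  have hkodd : k % 2 = 1 := by omega
  rw [hk2] at hl₀
  have ha1 := D.a_ne
  have hcom : Commute D.a (ι l₀) := (hcomm l₀).symm
  -- the subgroups
  set T := zpowers D.a ⊔ (zpowers l₀).map ι with hTdef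
  have hmemT : ∀ x, x ∈ T ↔ ∃ i : ℤ, x = ι (l₀ ^ i) ∨ x = D.a * ι (l₀ ^ i) := by
    intro x
    constructor
    · intro hx
      have hle : zpowers D.a ≤ centralizer ((zpowers l₀).map ι : Set G) := by
        refine zpowers_le.2 (mem_centralizer_iff.2 ?_)
        rintro _ ⟨l, -, rfl⟩
        exact hcomm l
      rw [hTdef, ← SetLike.mem_coe, coe_mul_of_left_le_normalizer_right _ _
        (hle.trans (centralizer_le_normalizer _))] at hx
      obtain ⟨s, hs, _, ⟨_, ⟨i, rfl⟩, rfl⟩, rfl⟩ := hx
      obtain ⟨j, rfl⟩ := hs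
      refine ⟨i, ?_⟩
      rcases Int.even_or_odd j with ⟨u, rfl⟩ | ⟨u, rfl⟩
      · left
        show D.a ^ (u + u) * ι (l₀ ^ i) = _
        rw [← two_mul, zpow_mul, zpow_two, D.a_sq, one_zpow, one_mul]
      · right
        show D.a ^ (2 * u + 1) * ι (l₀ ^ i) = _
        rw [zpow_add_one, zpow_mul, zpow_two, D.a_sq, one_zpow, one_mul]
    · rintro ⟨i, rfl | rfl⟩
      · exact mem_sup_right ⟨_, zpow_mem (mem_zpowers l₀) i, rfl⟩
      · exact mul_mem (mem_sup_left (mem_zpowers _)) (mem_sup_right ⟨_, zpow_mem (mem_zpowers l₀) i, rfl⟩)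
  have haT : D.a ∈ T := mem_sup_left (mem_zpowers _)
  have hcommT : ∀ x ∈ T, ∀ y ∈ T, x * y = y * x := by
    intro x hx y hy
    obtain ⟨i, hi⟩ := (hmemT x).1 hx
    obtain ⟨j, hj⟩ := (hmemT y).1 hy
    have c0 : Commute (ι (l₀ ^ i)) (ι (l₀ ^ j)) := ((Commute.refl l₀).zpow_zpow i j).map ι
    have c1 : ∀ l, Commute D.a (ι l) := fun l => (hcomm l).symm
    show Commute x y
    rcases hi with rfl | rfl <;> rcases hj with rfl | rfl
    · exact c0
    · exact (c1 _).symm.mul_right c0
    · exact (c1 _).mul_left c0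
    · exact ((Commute.refl _).mul_right (c1 _)).mul_left ((c1 _).symm.mul_right c0)
  have hTa : T ≤ centralizer ({D.a} : Set G) := fun x hx =>
    mem_centralizer_singleton_iff.2 (hcommT x hx _ haT)
  have hcardT : Nat.card T = q + 1 := by
    let φ : Bool × zpowers l₀ → T := fun z => ⟨(if z.1 then D.a else 1) * ι z.2,
      mul_mem (by split; exact haT; exact one_mem _) (mem_sup_right ⟨_, z.2.2, rfl⟩)⟩
    have hφ : Function.Bijective φ := by
      constructor
      · rintro ⟨b, x⟩ ⟨c, y⟩ e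
        have e' : (if b then D.a else 1) * ι x = (if c then D.a else 1) * ι y := congrArg Subtype.val e
        cases b <;> cases c <;> simp only [if_true, if_false, one_mul, Bool.false_eq_true] at e'
        · exact Prod.ext rfl (Subtype.ext (hinj e'))
        · exact absurd (by rw [map_mul, map_inv, e', mul_inv_cancel_right]) (hne ((x : L) * (y : L)⁻¹))
        · exact absurd (by rw [map_mul, map_inv, ← e', mul_inv_cancel_right]) (hne ((y : L) * (x : L)⁻¹))
        · exact Prod.ext rfl (Subtype.ext (hinj (mul_left_cancel e')))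
      · rintro ⟨x, hx⟩
        obtain ⟨i, rfl | rfl⟩ := (hmemT x).1 hx
        · exact ⟨(false, ⟨_, zpow_mem (mem_zpowers l₀) i⟩), Subtype.ext (one_mul _)⟩
        · exact ⟨(true, ⟨_, zpow_mem (mem_zpowers l₀) i⟩), rfl⟩
    rw [← Nat.card_eq_of_bijective φ hφ, Nat.card_prod, Nat.card_eq_fintype_card, Fintype.card_bool,
      Nat.card_zpowers, hl₀]
    omega
  set c := ι (l₀ ^ k) with hcdef
  have hlk : orderOf (l₀ ^ k) = 2 := by
    rw [orderOf_pow_of_dvd (by omega) (hl₀ ▸ Dvd.intro_left 2 rfl), hl₀, Nat.mul_div_cancel _ (by omega)]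
  have hco : orderOf c = 2 := by rw [hcdef, orderOf_injective ι hinj, hlk]
  have hc1 : c ≠ 1 := fun h => by rw [h, orderOf_one] at hco; omega
  have hc2 : c * c = 1 := by rw [← pow_two, ← hco, pow_orderOf_eq_one]
  have hcT : c ∈ T := mem_sup_right ⟨_, pow_mem (mem_zpowers l₀) k, rfl⟩
  have hac : D.a ≠ c := fun h => hne _ h.symm
  have hac' : D.a * c ≠ 1 := fun h => hac (by
    rw [← mul_one D.a, ← hc2, ← mul_assoc, h, one_mul])
  -- `E`
  let E : Subgroup G :=
    { carrier := {x | x ∈ T ∧ x * x = 1}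
      one_mem' := ⟨one_mem T, one_mul 1⟩
      mul_mem' := fun {x y} hx hy => ⟨mul_mem hx.1 hy.1, by
        rw [mul_assoc, ← mul_assoc y, hcommT y hy.1 x hx.1, mul_assoc, hy.2, mul_one, hx.2]⟩
      inv_mem' := fun {x} hx => ⟨inv_mem hx.1, by rw [← mul_inv_rev, hx.2, inv_one]⟩ }
  have hmemE : ∀ x, x ∈ E ↔ x ∈ T ∧ x * x = 1 := fun x => Iff.rfl
  have haE : D.a ∈ E := ⟨haT, D.a_sq⟩
  have hcE : c ∈ E := ⟨hcT, hc2⟩
  have hEset : (E : Set G) = {1, D.a, c, D.a * c} := by
    ext x
    constructor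
    · rintro ⟨hxT, hx2⟩
      have hkey : ∀ i : ℤ, ι (l₀ ^ i) * ι (l₀ ^ i) = 1 → ι (l₀ ^ i) = 1 ∨ ι (l₀ ^ i) = c := by
        intro i hi
        rw [← map_mul, ← zpow_add, ← map_one ι] at hi
        have hd : ((2 * k : ℕ) : ℤ) ∣ i + i := by
          rw [← hl₀]; exact orderOf_dvd_iff_zpow_eq_one.2 (hinj hi)
        obtain ⟨j, hj⟩ := hd
        have hi' : i = (k : ℤ) * j := by push_cast at hj; linarith
        rcases Int.even_or_odd j with ⟨u, rfl⟩ | ⟨u, rfl⟩
        · left
          rw [hi', show (k : ℤ) * (u + u) = ((2 * k : ℕ) : ℤ) * u by push_cast; ring, zpow_mul,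
            zpow_natCast, ← hl₀, pow_orderOf_eq_one, one_zpow, map_one]
        · right
          rw [hi', show (k : ℤ) * (2 * u + 1) = ((2 * k : ℕ) : ℤ) * u + k by push_cast; ring, zpow_add,
            zpow_mul, zpow_natCast, zpow_natCast, ← hl₀, pow_orderOf_eq_one, one_zpow, one_mul]
      obtain ⟨i, rfl | rfl⟩ := (hmemT x).1 hxT
      · rcases hkey i hx2 with e | e <;> rw [e] <;> simp
      · have hx' : ι (l₀ ^ i) * ι (l₀ ^ i) = 1 := by
          calc ι (l₀ ^ i) * ι (l₀ ^ i) = (D.a * D.a) * (ι (l₀ ^ i) * ι (l₀ ^ i)) := by rw [D.a_sq, one_mul]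
            _ = D.a * (D.a * ι (l₀ ^ i)) * ι (l₀ ^ i) := by group
            _ = D.a * (ι (l₀ ^ i) * D.a) * ι (l₀ ^ i) := by rw [hcomm]
            _ = D.a * ι (l₀ ^ i) * (D.a * ι (l₀ ^ i)) := by group
            _ = 1 := hx2
        rcases hkey i hx' with e | e <;> rw [e] <;> simp
    · simp only [Set.mem_insert_iff, Set.mem_singleton_iff]
      rintro (rfl | rfl | rfl | rfl)
      exacts [one_mem E, haE, hcE, mul_mem haE hcE]
  have hE4 : Nat.card E = 4 := by
    show Nat.card (E : Set G) = 4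
    rw [hEset, Nat.card_coe_set_eq, Set.ncard_insert_of_notMem, Set.ncard_insert_of_notMem,
      Set.ncard_pair] <;> simp [ha1, Ne.symm ha1, hc1, Ne.symm hc1, hac, Ne.symm hac', hc1.symm]
  -- `Y`
  set Y := zpowers (ι (l₀ ^ 2)) with hYdef
  have hYk : Nat.card Y = k := by
    rw [hYdef, Nat.card_zpowers, orderOf_injective ι hinj, orderOf_pow_of_dvd two_ne_zero
      (hl₀ ▸ Dvd.intro k rfl), hl₀, Nat.mul_div_cancel_left _ two_pos]
  have hYT : Y ≤ T := zpowers_le.2 (mem_sup_right ⟨_, pow_mem (mem_zpowers l₀) 2, rfl⟩)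
  have hsq : ∀ x ∈ T, x * x ∈ Y := by
    intro x hx
    have h0 : ∀ i : ℤ, ι (l₀ ^ i) * ι (l₀ ^ i) ∈ Y := fun i => by
      refine ⟨i, ?_⟩
      show ι (l₀ ^ 2) ^ i = _
      rw [← map_zpow, ← map_mul, ← zpow_add, ← zpow_natCast, ← zpow_mul, ← two_mul, Nat.cast_two]
    obtain ⟨i, rfl | rfl⟩ := (hmemT x).1 hx
    · exact h0 i
    · rw [show D.a * ι (l₀ ^ i) * (D.a * ι (l₀ ^ i)) = ι (l₀ ^ i) * ι (l₀ ^ i) by
        calc D.a * ι (l₀ ^ i) * (D.a * ι (l₀ ^ i)) = D.a * (ι (l₀ ^ i) * D.a) * ι (l₀ ^ i) := by group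
          _ = (D.a * D.a) * (ι (l₀ ^ i) * ι (l₀ ^ i)) := by rw [hcomm]; group
          _ = _ := by rw [D.a_sq, one_mul]]
      exact h0 i
  -- centralisers of elements of `Y` inside `C(a)`
  have hlocal : ∀ e y : G, orderOf e = 2 → y * e = e * y → (orderOf y).Prime → orderOf y ∣ k →
      Nat.card (centralizer ({y} : Set G) ⊓ centralizer ({e} : Set G) : Subgroup G) ≤ q + 1 := by
    intro e y he hye hp hpk
    obtain ⟨g, hg⟩ := isConj_iff.1 (D.isConj_a he)
    have hy' : g⁻¹ * y * g * D.a = D.a * (g⁻¹ * y * g) := by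
      have e1 : D.a = g⁻¹ * e * g := by rw [← hg]; group
      rw [e1]
      calc g⁻¹ * y * g * (g⁻¹ * e * g) = g⁻¹ * (y * e) * g := by group
        _ = g⁻¹ * (e * y) * g := by rw [hye]
        _ = g⁻¹ * e * g * (g⁻¹ * y * g) := by group
    have hoy : orderOf (g⁻¹ * y * g) = orderOf y := by
      rw [show g⁻¹ * y * g = MulAut.conj g⁻¹ y by simp, MulEquiv.orderOf_eq]
    have hp2 : orderOf y ≠ 2 := fun h => by rw [h] at hpk; omega
    obtain ⟨x, hx⟩ := hdec _ hy'
    have hx' : g⁻¹ * y * g = ι x := by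
      rcases hx with h | h
      · exact h
      exfalso
      have hpow : (g⁻¹ * y * g) ^ orderOf y = 1 := by rw [← hoy, pow_orderOf_eq_one]
      rw [h, (show Commute D.a (ι x) from (hcomm x).symm).mul_pow] at hpow
      obtain ⟨u, hu⟩ := hp.odd_of_ne_two hp2
      rw [hu, pow_add, pow_mul, pow_two, D.a_sq, one_pow, one_mul, pow_one, ← map_pow] at hpow
      exact hne _ (eq_inv_of_mul_eq_one_left hpow ▸ map_inv ι _ : ι ((x ^ (2 * u + 1))⁻¹) = D.a).symm.symm
    have hox : orderOf x = orderOf y := by rw [← hoy, hx', orderOf_injective ι hinj]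
    have hnd : ¬ orderOf x ∣ 3 := fun h => by
      have := (Nat.prime_dvd_prime_iff_eq (hox ▸ hp) Nat.prime_three).1 h
      rw [hox] at this
      rw [this] at hpk
      omega
    obtain ⟨z, hxz, hC, hz⟩ := D.lfacts.tor x (by have := hp.two_le; omega) hnd
    have hz' : orderOf z = 2 * k := by
      rcases hz with h | h
      · exfalso
        have h1 : orderOf x ∣ (q - 1) / 2 := by
          obtain ⟨i, rfl⟩ := hxz
          exact h ▸ orderOf_dvd_of_pow_eq_one (by
            show (z ^ i) ^ orderOf z = 1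
            rw [← zpow_natCast, ← zpow_mul, mul_comm, zpow_mul, zpow_natCast, pow_orderOf_eq_one, one_zpow])
        rw [hox] at h1
        have h2 : orderOf y ∣ (q + 1) / 2 - (q - 1) / 2 := Nat.dvd_sub (hk2 ▸ hpk.mul_left 2) h1
        rw [show (q + 1) / 2 - (q - 1) / 2 = 1 by omega] at h2
        exact hp.one_lt.ne' (Nat.dvd_one.1 h2)
      · rw [h, hk2]
    -- transport
    let ψ : Bool × zpowers z → G := fun w => g * ((if w.1 then D.a else 1) * ι w.2) * g⁻¹
    have hsub : ((centralizer ({y} : Set G) ⊓ centralizer ({e} : Set G) : Subgroup G) : Set G) ⊆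
        Set.range ψ := by
      intro v hv
      obtain ⟨hv1, hv2⟩ := mem_inf.1 hv
      rw [mem_centralizer_singleton_iff] at hv1 hv2
      have h1 : g⁻¹ * v * g * D.a = D.a * (g⁻¹ * v * g) := by
        have e1 : D.a = g⁻¹ * e * g := by rw [← hg]; group
        rw [e1]
        calc g⁻¹ * v * g * (g⁻¹ * e * g) = g⁻¹ * (v * e) * g := by group
          _ = g⁻¹ * (e * v) * g := by rw [hv2]
          _ = g⁻¹ * e * g * (g⁻¹ * v * g) := by group
      have h2 : g⁻¹ * v * g * ι x = ι x * (g⁻¹ * v * g) := by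
        rw [← hx']
        calc g⁻¹ * v * g * (g⁻¹ * y * g) = g⁻¹ * (v * y) * g := by group
          _ = g⁻¹ * (y * v) * g := by rw [hv1]
          _ = g⁻¹ * y * g * (g⁻¹ * v * g) := by group
      obtain ⟨u, hu⟩ := hdec _ h1
      have hux : u ∈ zpowers z := hC ▸ mem_centralizer_singleton_iff.2 (hinj (by
        rw [map_mul, map_mul]
        rcases hu with hu | hu <;> rw [hu] at h2
        · exact h2
        · rw [mul_assoc, ← mul_assoc (ι x), hcomm x, mul_assoc] at h2
          exact mul_left_cancel h2))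
      rcases hu with hu | hu
      · refine ⟨(false, ⟨u, hux⟩), ?_⟩
        show g * (1 * ι u) * g⁻¹ = v
        rw [one_mul, ← hu]; group
      · refine ⟨(true, ⟨u, hux⟩), ?_⟩
        show g * (D.a * ι u) * g⁻¹ = v
        rw [← hu]; group
    refine (Set.ncard_le_ncard hsub).trans' (by rw [← Nat.card_coe_set_eq]; rfl) |>.trans ?_
    rw [← Set.image_univ]
    refine (Set.ncard_image_le).trans ?_
    rw [Set.ncard_univ, Nat.card_prod, Nat.card_eq_fintype_card, Fintype.card_bool, Nat.card_zpowers, hz']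
    omega
  -- centralisers of elements of prime order in `Y`
  have hprime : ∀ y ∈ Y, (orderOf y).Prime → centralizer ({y} : Set G) = T := by
    intro y hy hp
    have hpk : orderOf y ∣ k := hYk ▸ orderOf_dvd_natCard _ hy
    set K := centralizer ({y} : Set G) with hK
    have hTK : T ≤ K := fun x hx => mem_centralizer_singleton_iff.2 (hcommT x hx y (hYT hy))
    have hCe : ∀ e ∈ E, e ≠ 1 → K ⊓ centralizer ({e} : Set G) = T := by
      intro e he he1
      refine (eq_of_le_of_card_ge (le_inf hTK fun x hx =>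
        mem_centralizer_singleton_iff.2 (hcommT x hx e he.1)) ?_).symm
      rw [hcardT]
      exact hlocal e y (orderOf_eq_prime (by rw [pow_two]; exact he.2) he1) (hcommT y (hYT hy) e he.1) hp hpk
    have hEK : E ≤ K := fun x hx => hTK hx.1
    -- `E` is a Sylow 2-subgroup of `K`
    have habs : ∀ S : Subgroup G, IsPGroup 2 S → E ≤ S → S ≤ K → S ≤ E := by
      intro S hS hES hSK x hx
      have hxT : x ∈ T := (hCe D.a haE ha1).le (mem_inf.2 ⟨hSK hx,
        mem_centralizer_singleton_iff.2 (D.pow_eight_of_two S hS hx (hES haE))⟩)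
      refine ⟨hxT, ?_⟩
      obtain ⟨R, hR⟩ := hS.exists_le_sylow
      exact (D.sylow_two R).2 x (hR hx)
    have h3K : ¬ 3 ∣ Nat.card K := by
      intro h
      obtain ⟨u, hu⟩ := exists_prime_orderOf_dvd_card' 3 h
      have huo : orderOf (u : G) = 3 := by rw [orderOf_coe, hu]
      obtain ⟨R, hR⟩ := (IsPGroup.of_card (n := 1) (by rw [Nat.card_zpowers, huo, pow_one]) :
        IsPGroup 3 (zpowers (u : G))).exists_le_sylow
      obtain ⟨g, hg⟩ := MulAction.exists_smul_eq G R D.P
      have huP : g * u * g⁻¹ ∈ (D.P : Subgroup G) := by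
        rw [← hg, Sylow.coe_subgroup_smul]
        exact ⟨u, hR (mem_zpowers _), rfl⟩
      have hu1 : g * (u : G) * g⁻¹ ≠ 1 := fun e => by
        rw [conj_eq_one_iff.1 e, orderOf_one] at huo; omega
      have hyu := mem_centralizer_singleton_iff.1 u.2
      have hyN := D.centralizer_three huP hu1 (g := g * y * g⁻¹) (by
        calc g * y * g⁻¹ * (g * u * g⁻¹) = g * (y * u) * g⁻¹ := by group
          _ = g * (u * y) * g⁻¹ := by rw [hyu]
          _ = _ := by group)
      have hd := orderOf_dvd_natCard _ hyN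
      rw [← MulAut.conj_apply, MulEquiv.orderOf_eq, D.sylow_regular.2.2] at hd
      have hd4 : orderOf y ∣ q + 1 := hpk.trans ⟨4, by omega⟩
      rcases (hp.dvd_mul.1 hd) with h' | h'
      · have := hp.dvd_of_dvd_pow h'
        have h1 := Nat.dvd_sub hd4 this
        rw [show q + 1 - q = 1 by omega] at h1
        exact hp.one_lt.ne' (Nat.dvd_one.1 h1)
      · have h1 := Nat.dvd_sub hd4 h'
        rw [show q + 1 - (q - 1) = 2 by omega] at h1
        have := (Nat.prime_dvd_prime_iff_eq hp Nat.prime_two).1 h1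
        rw [this] at hpk
        omega
    have hnE : ∀ n ∈ K, (∀ e ∈ E, n * e * n⁻¹ ∈ E) → n ∈ T := by
      intro n hn hnorm
      classical
      haveI := Fintype.ofFinite G
      have h6 : ∀ e ∈ E, n ^ 6 * e = e * n ^ 6 := by
        intro e he
        by_cases he1 : e = 1
        · rw [he1, mul_one, one_mul]
        have h := pow_six_fix (fun x => n * x * n⁻¹) (fun x y h => mul_left_cancel (mul_right_cancel h))
          (Finset.univ.filter fun x => x ∈ E ∧ x ≠ 1) (by
            refine Nat.le_of_lt_succ ?_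
            have h4 : (Finset.univ.filter fun x => x ∈ E).card = 4 := by
              rw [← Fintype.card_subtype, ← Nat.card_eq_fintype_card]; exact hE4
            show (Finset.univ.filter fun x => x ∈ E ∧ x ≠ 1).card < 4
            rw [← h4]
            refine Finset.card_lt_card (Finset.ssubset_iff_of_subset ?_ |>.2 ⟨1, ?_, ?_⟩)
            · intro x hx
              simp only [Finset.mem_filter, Finset.mem_univ, true_and] at hx ⊢
              exact hx.1
            · simp
            · simp)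
          (fun x hx => by
            simp only [Finset.mem_filter, Finset.mem_univ, true_and] at hx ⊢
            exact ⟨hnorm x hx.1, fun h => hx.2 (conj_eq_one_iff.1 h)⟩)
          (x := e) (by simp [he, he1])
        have e6 : (fun x => n * x * n⁻¹)^[6] e = n ^ 6 * e * (n ^ 6)⁻¹ := by
          simp only [Function.iterate_succ_apply', Function.iterate_zero, id, pow_succ, pow_zero, one_mul,
            mul_inv_rev, mul_assoc]
        rw [e6] at h
        exact mul_inv_eq_iff_eq_mul.1 h
      have h6' : n ^ 6 ∈ T :=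
        (hCe D.a haE ha1).le (mem_inf.2 ⟨pow_mem hn 6, mem_centralizer_singleton_iff.2 (h6 _ haE)⟩)
      obtain ⟨i, r, hr, ho⟩ := Nat.exists_eq_two_pow_mul_odd (orderOf_pos n).ne'
      -- the 2-part lies in `E`
      have hr' : n ^ r ∈ T := by
        have hp2 : IsPGroup 2 (zpowers (n ^ r)) := IsPGroup.of_card (n := i) (by
          rw [Nat.card_zpowers, orderOf_pow_of_dvd (Nat.pos_iff_ne_zero.1 hr.pos) (ho ▸ dvd_mul_left r _),
            ho, Nat.mul_div_cancel _ hr.pos])
        have hEp : IsPGroup 2 E := IsPGroup.of_card (n := 2) (by rw [hE4]; rfl)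
        have hnN : n ∈ normalizer (E : Set G) := by
          refine Subgroup.mem_normalizer_fintype (fun x hx => hnorm x hx)
        have hsup : IsPGroup 2 (zpowers (n ^ r) ⊔ E : Subgroup G) :=
          hp2.to_sup_of_normal_right' hEp (zpowers_le.2 (pow_mem hnN r))
        exact (habs _ hsup le_sup_right (sup_le (zpowers_le.2 (pow_mem hn r)) hEK)
          ((le_sup_left : zpowers (n ^ r) ≤ zpowers (n ^ r) ⊔ E) (mem_zpowers _))).1
      refine pow_mem_of_two_three h6' hr' ?_
      refine Nat.Coprime.mul_left (k := r) (m := 2) (n := 3) (Nat.coprime_two_left.2 hr) ?_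
      refine (Nat.Prime.coprime_iff_not_dvd Nat.prime_three).2 fun h => h3K ?_
      exact h.trans ((Dvd.intro_left _ ho.symm).trans (orderOf_dvd_natCard _ hn))
    -- Burnside transfer
    have hSyl : ∃ P : Sylow 2 K, (P : Subgroup K) = E.subgroupOf K := by
      refine ⟨⟨E.subgroupOf K, ?_, fun {S} hS hle => ?_⟩, rfl⟩
      · exact IsPGroup.of_card (n := 2) (by rw [Nat.card_congr (subgroupOfEquivOfLe hEK).toEquiv, hE4]; rfl)
      · refine le_antisymm (fun x hx => ?_) hle
        exact habs (S.map K.subtype) (hS.map _) (fun e he => ⟨⟨e, hEK he⟩, hle he, rfl⟩)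
          (map_subtype_le _) ⟨x, hx, rfl⟩
    obtain ⟨P, hP⟩ := hSyl
    haveI : IsMulCommutative E := ⟨⟨fun x y => Subtype.ext (hcommT x x.2.1 y y.2.1)⟩⟩
    have hnc : ¬ IsCyclic E := by
      intro h
      have hd := IsCyclic.exponent_eq_card (α := E)
      have : Monoid.exponent E ∣ 2 := Monoid.exponent_dvd_of_forall_pow_eq_one fun x => Subtype.ext (by
        show ((x : G)) ^ 2 = 1
        rw [pow_two]; exact x.2.2)
      rw [hd, hE4] at this
      omega
    exact le_antisymm (le_of_transfer hEK (fun x hx => hx.1) P hP hE4 hnc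
      (fun n hn hnorm e he => hcommT e he.1 n (hnE n hn hnorm)) fun e he he1 => (hCe e he he1).le) hTK
  have hcent : ∀ y ∈ Y, y ≠ 1 → centralizer ({y} : Set G) = T := by
    intro y hy hy1
    refine le_antisymm ?_ fun x hx => mem_centralizer_singleton_iff.2 (hcommT x hx y (hYT hy))
    obtain ⟨p, hp, hpd⟩ := Nat.exists_prime_and_dvd (mt orderOf_eq_one_iff.1 hy1)
    have ho : orderOf (y ^ (orderOf y / p)) = p := orderOf_pow_orderOf_div (orderOf_pos y).ne' hpd
    rw [← hprime _ (pow_mem hy _) (ho.symm ▸ hp)]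
    intro x hx
    exact mem_centralizer_singleton_iff.2
      ((show Commute x y from mem_centralizer_singleton_iff.1 hx).pow_right _).eq
  have hy0 : ι (l₀ ^ 2) ≠ 1 := fun h => by
    have : Nat.card Y = 1 := by rw [hYdef, Nat.card_zpowers, h, orderOf_one]
    omega
  -- `C(E)`
  have hCE : centralizer (E : Set G) = centralizer ({D.a} : Set G) ⊓ centralizer ({c} : Set G) := by
    refine le_antisymm (fun x hx => mem_inf.2 ⟨mem_centralizer_singleton_iff.2 (mem_centralizer_iff.1 hx _ haE).symm,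
      mem_centralizer_singleton_iff.2 (mem_centralizer_iff.1 hx _ hcE).symm⟩) fun x hx => mem_centralizer_iff.2 ?_
    obtain ⟨h1, h2⟩ := mem_inf.1 hx
    rw [mem_centralizer_singleton_iff] at h1 h2
    rw [hEset]
    simp only [Set.mem_insert_iff, Set.mem_singleton_iff]
    rintro _ (rfl | rfl | rfl | rfl)
    · rw [one_mul, mul_one]
    · exact h1.symm
    · exact h2.symm
    · rw [mul_assoc, ← h2, ← mul_assoc, ← h1, mul_assoc]
  have hCEcard : Nat.card (centralizer (E : Set G)) = 2 * (q + 1) := by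
    let φ : Bool × centralizer ({l₀ ^ k} : Set L) → centralizer (E : Set G) := fun z =>
      ⟨(if z.1 then D.a else 1) * ι z.2, by
        rw [hCE]
        refine mul_mem (by split; exact mem_inf.2 ⟨mem_centralizer_singleton_iff.2 rfl,
          mem_centralizer_singleton_iff.2 (hcomm _).symm⟩; exact one_mem _) (mem_inf.2
          ⟨mem_centralizer_singleton_iff.2 (hcomm _), mem_centralizer_singleton_iff.2 ?_⟩)
        rw [hcdef, ← map_mul, ← map_mul, mem_centralizer_singleton_iff.1 z.2.2]⟩
    have hφ : Function.Bijective φ := by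
      constructor
      · rintro ⟨b, x⟩ ⟨d, y⟩ e
        have e' : (if b then D.a else 1) * ι x = (if d then D.a else 1) * ι y := congrArg Subtype.val e
        cases b <;> cases d <;> simp only [if_true, if_false, one_mul, Bool.false_eq_true] at e'
        · exact Prod.ext rfl (Subtype.ext (hinj e'))
        · exact absurd (by rw [map_mul, map_inv, e', mul_inv_cancel_right]) (hne ((x : L) * (y : L)⁻¹))
        · exact absurd (by rw [map_mul, map_inv, ← e', mul_inv_cancel_right]) (hne ((y : L) * (x : L)⁻¹))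
        · exact Prod.ext rfl (Subtype.ext (hinj (mul_left_cancel e')))
      · rintro ⟨x, hx⟩
        rw [hCE] at hx
        obtain ⟨h1, h2⟩ := mem_inf.1 hx
        rw [mem_centralizer_singleton_iff] at h1 h2
        obtain ⟨u, hu⟩ := hdec x h1
        have huC : u ∈ centralizer ({l₀ ^ k} : Set L) := mem_centralizer_singleton_iff.2 (hinj (by
          rw [map_mul, map_mul]
          rcases hu with hu | hu <;> rw [hu] at h2
          · exact h2
          · rw [mul_assoc, ← mul_assoc c, show c * D.a = D.a * c from hcomm _, mul_assoc] at h2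
            exact mul_left_cancel h2))
        rcases hu with hu | hu
        · exact ⟨(false, ⟨u, huC⟩), Subtype.ext ((one_mul _).trans hu.symm)⟩
        · exact ⟨(true, ⟨u, huC⟩), Subtype.ext hu.symm⟩
    rw [← Nat.card_eq_of_bijective φ hφ, Nat.card_prod, Nat.card_eq_fintype_card, Fintype.card_bool,
      D.lfacts.inv_cent _ hlk]
  have hTCE : T ≤ centralizer (E : Set G) := fun x hx => mem_centralizer_iff.2 fun e he => hcommT e he.1 x hx
  have hodd : ∀ x ∈ centralizer (E : Set G), Odd (orderOf x) → x ∈ T := by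
    intro x hx ho
    haveI : (T.subgroupOf (centralizer (E : Set G))).Normal := by
      refine normal_of_index_eq_two ?_
      have h := (T.subgroupOf (centralizer (E : Set G))).card_mul_index
      rw [Nat.card_congr (subgroupOfEquivOfLe hTCE).toEquiv, hcardT, hCEcard] at h
      nlinarith
    have h2 : (T.subgroupOf (centralizer (E : Set G))).index = 2 := by
      have h := (T.subgroupOf (centralizer (E : Set G))).card_mul_index
      rw [Nat.card_congr (subgroupOfEquivOfLe hTCE).toEquiv, hcardT, hCEcard] at h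
      nlinarith
    have hmem := (T.subgroupOf (centralizer (E : Set G))).pow_index_mem ⟨x, hx⟩
    rw [h2] at hmem
    have hx2 : x ^ 2 ∈ T := hmem
    obtain ⟨u, hu⟩ := ho
    have : x = (x ^ 2) ^ (u + 1) := by
      rw [← pow_mul, show 2 * (u + 1) = orderOf x + 1 by omega, pow_add, pow_orderOf_eq_one, one_mul, pow_one]
    rw [this]
    exact pow_mem hx2 _
  have hoddT : ∀ x ∈ T, Odd (orderOf x) → x ∈ Y := by
    intro x hx ⟨u, hu⟩
    have : x = (x * x) ^ (u + 1) := by
      rw [← pow_two, ← pow_mul, show 2 * (u + 1) = orderOf x + 1 by omega, pow_add, pow_orderOf_eq_one,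
        one_mul, pow_one]
    rw [this]
    exact pow_mem (hsq x hx) _
  have hYodd : ∀ x ∈ Y, Odd (orderOf x) := fun x hx =>
    Odd.of_dvd_nat (Nat.odd_iff.2 hkodd) (hYk ▸ orderOf_dvd_natCard _ hx)
  have hcY : centralizer (Y : Set G) = T := by
    refine le_antisymm ?_ fun x hx => mem_centralizer_iff.2 fun y hy => hcommT y (hYT hy) x hx
    rw [← hcent _ (mem_zpowers _) hy0]
    exact centralizer_le (Set.singleton_subset_iff.2 (mem_zpowers _))
  have hNYT : normalizer (Y : Set G) ≤ normalizer (T : Set G) := hcY ▸ normalizer_le_centralizer Y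
  have hNTY : normalizer (T : Set G) ≤ normalizer (Y : Set G) := by
    intro g hg
    refine Subgroup.mem_normalizer_fintype fun x hx => ?_
    refine hoddT _ ((mem_normalizer_iff.1 hg x).1 (hYT hx)) ?_
    rw [← MulAut.conj_apply, MulEquiv.orderOf_eq]
    exact hYodd x hx
  have hNTE : normalizer (T : Set G) ≤ normalizer (E : Set G) := by
    intro g hg
    refine Subgroup.mem_normalizer_fintype fun x hx => ⟨(mem_normalizer_iff.1 hg x).1 hx.1, ?_⟩
    rw [show g * x * g⁻¹ * (g * x * g⁻¹) = g * (x * x) * g⁻¹ by group, hx.2, mul_one, mul_inv_cancel]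
  have hNEY : normalizer (E : Set G) ≤ normalizer (Y : Set G) := by
    intro g hg
    refine Subgroup.mem_normalizer_fintype fun x hx => ?_
    have hxC : g * x * g⁻¹ ∈ centralizer (E : Set G) :=
      (mem_normalizer_iff.1 (normalizer_le_centralizer E hg) x).1 (hTCE (hYT hx))
    have ho : Odd (orderOf (g * x * g⁻¹)) := by
      rw [← MulAut.conj_apply, MulEquiv.orderOf_eq]; exact hYodd x hx
    exact hoddT _ (hodd _ hxC ho) ho
  have hfour : ∀ t u : G, orderOf t = 2 → orderOf u = 2 → t * u = u * t → t ≠ u →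
      ∃ g : G, g * t * g⁻¹ = D.a ∧ (g * u * g⁻¹ = c ∨ g * u * g⁻¹ = D.a * c) := by
    intro t u ht hu htu hne'
    obtain ⟨g, hg⟩ := isConj_iff.1 (D.isConj_a ht).symm
    have hu2 : g * u * g⁻¹ * (g * u * g⁻¹) = 1 := by
      rw [show g * u * g⁻¹ * (g * u * g⁻¹) = g * (u * u) * g⁻¹ by group, ← pow_two, ← hu,
        pow_orderOf_eq_one, mul_one, mul_inv_cancel]
    have huc : g * u * g⁻¹ * D.a = D.a * (g * u * g⁻¹) := by
      rw [← hg]
      calc g * u * g⁻¹ * (g * t * g⁻¹) = g * (u * t) * g⁻¹ := by group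
        _ = g * (t * u) * g⁻¹ := by rw [htu]
        _ = _ := by group
    obtain ⟨x, hx⟩ := hdec _ huc
    have hx2 : ι x * ι x = 1 := by
      rcases hx with hx | hx <;> rw [hx] at hu2
      · exact hu2
      · rw [← hu2, show D.a * ι x * (D.a * ι x) = D.a * (ι x * D.a) * ι x by group, hcomm, ← mul_assoc D.a,
          D.a_sq, one_mul]
    have hx1 : x ≠ 1 := by
      rintro rfl
      rw [map_one, mul_one] at hx
      rcases hx with hx | hx
      · rw [conj_eq_one_iff.1 hx, orderOf_one] at hu; omega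
      · exact hne' (mul_left_cancel (mul_right_cancel (hg.trans hx.symm)))
    obtain ⟨h, hh⟩ := isConj_iff.1 (D.lfacts.inv_conj x (l₀ ^ k) (orderOf_eq_prime (hinj (by
      rw [map_pow, pow_two, hx2, map_one])) hx1) hlk)
    refine ⟨ι h * g, ?_, ?_⟩
    · rw [show ι h * g * t * (ι h * g)⁻¹ = ι h * (g * t * g⁻¹) * (ι h)⁻¹ by group, hg, hcomm,
        mul_inv_cancel_right]
    · rw [show ι h * g * u * (ι h * g)⁻¹ = ι h * (g * u * g⁻¹) * (ι h)⁻¹ by group]
      rcases hx with hx | hx <;> rw [hx]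
      · left; rw [← map_inv, ← map_mul, ← map_mul, hh]
      · right
        rw [← mul_assoc, hcomm, mul_assoc D.a, mul_assoc D.a, ← map_inv, ← map_mul, ← map_mul, hh]
  have hstab : normalizer (E : Set G) ⊓ centralizer ({D.a} : Set G) = centralizer (E : Set G) := by
    refine le_antisymm (fun n hn => ?_) (le_inf (centralizer_le_normalizer _) (hCE ▸ inf_le_left))
    obtain ⟨hn1, hn2⟩ := mem_inf.1 hn
    rw [hCE]
    refine mem_inf.2 ⟨hn2, mem_centralizer_singleton_iff.2 (mul_inv_eq_iff_eq_mul.1 ?_)⟩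
    have hnc : n * c * n⁻¹ ∈ (E : Set G) := (mem_normalizer_iff.1 hn1 c).1 hcE
    rw [mem_centralizer_singleton_iff] at hn2
    obtain ⟨y, hy⟩ := hdec n hn2
    have hrange : n * c * n⁻¹ = ι (y * l₀ ^ k * y⁻¹) := by
      rw [map_mul, map_mul, map_inv, ← hcdef]
      rcases hy with hy | hy <;> rw [hy]
      rw [show D.a * ι y * c * (D.a * ι y)⁻¹ = D.a * (ι y * c * (ι y)⁻¹) * D.a⁻¹ by group, hcdef,
        ← map_inv, ← map_mul, ← map_mul, ← hcomm, mul_inv_cancel_right]
    rw [hEset] at hnc
    simp only [Set.mem_insert_iff, Set.mem_singleton_iff] at hnc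
    rcases hnc with h | h | h | h
    · exact absurd (conj_eq_one_iff.1 h) hc1
    · exact absurd (hrange.symm.trans h) (hne _)
    · exact h
    · exfalso
      refine hne ((y * l₀ ^ k * y⁻¹) * (l₀ ^ k)⁻¹) ?_
      rw [map_mul, map_inv, ← hrange, h, ← hcdef, mul_inv_cancel_right]
  have hNE : Nat.card (normalizer (E : Set G)) = 6 * (q + 1) := by
    obtain ⟨n, hn1, hn2⟩ := hfour c D.a hco D.orderOf_a (hcomm _) (Ne.symm hac)
    have hnE : n ∈ normalizer (E : Set G) := by
      refine Subgroup.mem_normalizer_fintype fun x hx => ?_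
      rw [hEset] at hx
      have h1 : n * c * n⁻¹ ∈ E := hn1 ▸ haE
      have h2 : n * D.a * n⁻¹ ∈ E := by
        rcases hn2 with h | h <;> rw [h]
        exacts [hcE, mul_mem haE hcE]
      simp only [Set.mem_insert_iff, Set.mem_singleton_iff] at hx
      rcases hx with rfl | rfl | rfl | rfl
      · rw [mul_one, mul_inv_cancel]; exact one_mem E
      · exact h2
      · exact h1
      · rw [show n * (D.a * c) * n⁻¹ = (n * D.a * n⁻¹) * (n * c * n⁻¹) by group]
        exact mul_mem h2 h1
    have hn3 : n * D.a * n⁻¹ = D.a * c := by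
      refine hn2.resolve_left fun hswap => ?_
      -- a transposition would be induced by a 2-element
      obtain ⟨i, r, hr, ho⟩ := Nat.exists_eq_two_pow_mul_odd (orderOf_pos n).ne'
      have hp2 : IsPGroup 2 (zpowers (n ^ r)) := IsPGroup.of_card (n := i) (by
        rw [Nat.card_zpowers, orderOf_pow_of_dvd (Nat.pos_iff_ne_zero.1 hr.pos) (ho ▸ dvd_mul_left r _),
          ho, Nat.mul_div_cancel _ hr.pos])
      have hEp : IsPGroup 2 E := IsPGroup.of_card (n := 2) (by rw [hE4]; rfl)
      have hsup : IsPGroup 2 (zpowers (n ^ r) ⊔ E : Subgroup G) :=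
        hp2.to_sup_of_normal_right' hEp (zpowers_le.2 (pow_mem hnE r))
      have hcm := D.pow_eight_of_two _ hsup (mem_sup_left (mem_zpowers (n ^ r))) (mem_sup_right haE)
      obtain ⟨u, rfl⟩ := hr
      have hsq2 : ∀ j : ℕ, n ^ (2 * j) * D.a = D.a * n ^ (2 * j) := by
        intro j
        rw [pow_mul]
        refine (Commute.pow_left ?_ j).eq
        show n ^ 2 * D.a = D.a * n ^ 2
        refine mul_inv_eq_iff_eq_mul.1 ?_
        rw [pow_two, show n * n * D.a * (n * n)⁻¹ = n * (n * D.a * n⁻¹) * n⁻¹ by group, hswap, hn1]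
      rw [pow_succ', mul_assoc, hsq2 u, ← mul_assoc, ← mul_assoc] at hcm
      have : n * D.a = D.a * n := mul_right_cancel hcm
      exact hac (by rw [← hswap, this, mul_inv_cancel_right])
    have horb : {x | ∃ g ∈ normalizer (E : Set G), g * D.a * g⁻¹ = x} = (E : Set G) \ {1} := by
      ext x
      constructor
      · rintro ⟨g, hg, rfl⟩
        exact ⟨(mem_normalizer_iff.1 hg _).1 haE, fun e => ha1 (conj_eq_one_iff.1 e)⟩
      · rintro ⟨hx, hx1⟩
        rw [hEset] at hx
        simp only [Set.mem_insert_iff, Set.mem_singleton_iff] at hx hx1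
        rcases hx with rfl | rfl | rfl | rfl
        · exact absurd rfl hx1
        · exact ⟨1, one_mem _, by group⟩
        · refine ⟨n * n, mul_mem hnE hnE, ?_⟩
          rw [show n * n * D.a * (n * n)⁻¹ = n * (n * D.a * n⁻¹) * n⁻¹ by group, hn3,
            show n * (D.a * c) * n⁻¹ = (n * D.a * n⁻¹) * (n * c * n⁻¹) by group, hn3, hn1,
            mul_assoc, hcomm, ← mul_assoc, D.a_sq, one_mul]
        · exact ⟨n, hnE, hn3⟩
    rw [card_eq_orbit_mul (normalizer (E : Set G)) D.a, horb, hstab, hCEcard,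
      Set.ncard_sdiff (Set.singleton_subset_iff.2 (one_mem _)), Set.ncard_singleton, ← Nat.card_coe_set_eq]
    show (Nat.card E - 1) * _ = _
    rw [hE4]; ring
  have hET : normalizer (E : Set G) = normalizer (T : Set G) := le_antisymm (hNEY.trans hNYT) hNTE
  exact ⟨T, E, Y, ⟨hcommT, hcardT, fun x hx => hx.1, hYT, hE4, hYk, isCyclic_zpowers _, hsq, hmemE,
    hcent, hCEcard, hET, le_antisymm hNYT hNTY, hET ▸ hNE, fun t u ht hu htu hne' => by
      obtain ⟨g, h1, h2⟩ := hfour t u ht hu htu hne'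
      refine ⟨g, h1 ▸ haE, ?_⟩
      rcases h2 with h | h <;> rw [h]
      exacts [hcE, mul_mem haE hcE]⟩⟩

variable {D} {T E Y : Subgroup G}

omit [Finite G] [Finite L] in
theorem Torus.centralizer_torus (hT : D.Torus T E Y) {x : G} (hx : x ∈ T) (hx2 : x * x ≠ 1) :
    centralizer ({x} : Set G) = T := by
  refine le_antisymm ?_ fun y hy => mem_centralizer_singleton_iff.2 (hT.comm y hy x hx)
  rw [← hT.cent _ (hT.sq x hx) hx2]
  intro y hy
  have h := mem_centralizer_singleton_iff.1 hy
  exact mem_centralizer_singleton_iff.2 (by rw [← mul_assoc, h, mul_assoc, h, mul_assoc])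

omit [Finite L] in
/-- An element of prime order `p ≥ 3` dividing `q + 1` is conjugate into `Y`. -/
theorem Torus.exists_conj_Y (hT : D.Torus T E Y) {p : ℕ} (hp : p.Prime) (hp2 : p ≠ 2) (hpd : p ∣ q + 1)
    {x : G} (hx : orderOf x = p) : ∃ g : G, g * x * g⁻¹ ∈ Y := by
  haveI := Fact.mk hp
  obtain ⟨hq27, hq8, hq3⟩ := D.q_facts
  have hp3 : p ≠ 3 := fun h => by rw [h] at hpd; omega
  have n1 : ¬ p ∣ q := fun h => by
    have := Nat.dvd_sub hpd h
    rw [show q + 1 - q = 1 by omega] at this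
    exact hp.one_lt.ne' (Nat.dvd_one.1 this)
  have n2 : ¬ p ∣ q - 1 := fun h => by
    have := Nat.dvd_sub hpd h
    rw [show q + 1 - (q - 1) = 2 by omega] at this
    exact hp2 ((Nat.prime_dvd_prime_iff_eq hp Nat.prime_two).1 this)
  have n3 : ¬ p ∣ q ^ 2 - q + 1 := fun h => by
    have e : q ^ 2 - q + 1 = (q - 2) * (q + 1) + 3 := by
      have : q ≤ q ^ 2 := Nat.le_self_pow (by norm_num) q
      zify [this, (by omega : 2 ≤ q)]
      ring
    rw [e] at h
    have := (Nat.dvd_add_right (hpd.mul_left (q - 2))).1 h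
    exact hp3 ((Nat.prime_dvd_prime_iff_eq hp Nat.prime_three).1 this)
  have hfac : (Nat.card G).factorization p = ((q + 1) / 4).factorization p := by
    have n4 : ¬ p ∣ 4 := fun h => hp2 ((Nat.prime_dvd_prime_iff_eq hp Nat.prime_two).1
      (hp.dvd_of_dvd_pow (m := 2) (n := 2) (by norm_num; exact h)))
    have h4 : q + 1 = 4 * ((q + 1) / 4) := by omega
    rw [D.card_eq, Nat.factorization_mul (by positivity) (Nat.mul_ne_zero
      (Nat.mul_ne_zero (by omega) (by omega)) (by omega)), Finsupp.add_apply,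
      Nat.factorization_eq_zero_of_not_dvd (fun h => n1 (hp.dvd_of_dvd_pow h)),
      Nat.factorization_mul (Nat.mul_ne_zero (by omega) (by omega)) (by omega), Finsupp.add_apply,
      Nat.factorization_mul (by omega) (by omega), Finsupp.add_apply,
      Nat.factorization_eq_zero_of_not_dvd n2, Nat.factorization_eq_zero_of_not_dvd n3]
    conv_lhs => rw [h4, Nat.factorization_mul (by norm_num) (by omega), Finsupp.add_apply,
      Nat.factorization_eq_zero_of_not_dvd n4]
    simp
  obtain ⟨R⟩ : Nonempty (Sylow p Y) := inferInstance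
  have hR : Nat.card ((R : Subgroup Y).map Y.subtype) = p ^ (Nat.card G).factorization p := by
    rw [card_map_of_injective (subtype_injective _), R.card_eq_multiplicity, hT.card_Y, hfac]
  obtain ⟨S, hS⟩ := (IsPGroup.of_card (n := 1) (by rw [Nat.card_zpowers, hx, pow_one]) :
    IsPGroup p (zpowers x)).exists_le_sylow
  obtain ⟨g, hg⟩ := MulAction.exists_smul_eq G S (Sylow.ofCard _ hR)
  refine ⟨g, map_subtype_le (R : Subgroup Y) ?_⟩
  have : g * x * g⁻¹ ∈ ((g • S : Sylow p G) : Subgroup G) := by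
    rw [Sylow.coe_subgroup_smul]; exact ⟨x, hS (mem_zpowers x), rfl⟩
  rw [hg] at this
  exact this

omit [Finite L] in
/-- An element whose order has a prime divisor `p ≥ 3` of `q + 1` is conjugate into `T`. -/
theorem Torus.exists_conj_T (hT : D.Torus T E Y) {p : ℕ} (hp : p.Prime) (hp2 : p ≠ 2) (hpd : p ∣ q + 1)
    {x : G} (hx : p ∣ orderOf x) : ∃ g : G, g * x * g⁻¹ ∈ T := by
  have ho : orderOf (x ^ (orderOf x / p)) = p := orderOf_pow_orderOf_div (orderOf_pos x).ne' hx
  obtain ⟨g, hg⟩ := hT.exists_conj_Y hp hp2 hpd ho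
  refine ⟨g, ?_⟩
  rw [← hT.cent _ hg (fun h => by rw [conj_eq_one_iff.1 h, orderOf_one] at ho; exact hp.one_lt.ne ho)]
  exact mem_centralizer_singleton_iff.2 (((Commute.self_pow x _).map (MulAut.conj g).toMonoidHom).eq)

end Data

end Cfsg.Agent.ReeTori
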