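/-
The cyclic Hall subgroups belonging to the primes dividing `q² - q + 1`.

* `centralizer_conj`, `exists_conj_mem_of_factorization` : generalities
* `Q_coprime`
* `exists_conj_H`
* `regular` : `C(z)` for `z` of prime order dividing `q² - q + 1`
* `regular_normalizer`
-/
import Cfsg.Agent.Lib.ReeTori.Torus

set_option autoImplicit false

namespace Cfsg.Agent.ReeTori

open Subgroup
open scoped Pointwise

variable {G : Type*} [Group G]

theorem centralizer_conj (g x : G) :
    centralizer ({g * x * g⁻¹} : Set G) = (centralizer ({x} : Set G)).map (MulAut.conj g).toMonoidHom := by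
  ext y
  rw [mem_centralizer_singleton_iff]
  constructor
  · intro h
    refine ⟨g⁻¹ * y * g, mem_centralizer_singleton_iff.2 ?_, by
      show g * (g⁻¹ * y * g) * g⁻¹ = y; group⟩
    calc g⁻¹ * y * g * x = g⁻¹ * (y * (g * x * g⁻¹)) * g := by group
      _ = g⁻¹ * (g * x * g⁻¹ * y) * g := by rw [h]
      _ = x * (g⁻¹ * y * g) := by group
  · rintro ⟨u, hu, rfl⟩
    have hu' := mem_centralizer_singleton_iff.1 hu
    show g * u * g⁻¹ * (g * x * g⁻¹) = g * x * g⁻¹ * (g * u * g⁻¹)
    calc g * u * g⁻¹ * (g * x * g⁻¹) = g * (u * x) * g⁻¹ := by group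
      _ = g * (x * u) * g⁻¹ := by rw [hu']
      _ = _ := by group

theorem orderOf_conj (g x : G) : orderOf (g * x * g⁻¹) = orderOf x :=
  MulEquiv.orderOf_eq (MulAut.conj g) x

theorem exists_conj_mem_of_factorization [Finite G] {p : ℕ} (hp : p.Prime) (A : Subgroup G)
    (hfac : (Nat.card G).factorization p ≤ (Nat.card A).factorization p) {x : G} (hx : orderOf x = p) :
    ∃ g : G, g * x * g⁻¹ ∈ A := by
  haveI := Fact.mk hp
  obtain ⟨R⟩ : Nonempty (Sylow p A) := inferInstance
  have hR : Nat.card ((R : Subgroup A).map A.subtype) = p ^ (Nat.card G).factorization p := by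
    rw [card_map_of_injective (subtype_injective _), R.card_eq_multiplicity,
      le_antisymm ((Nat.factorization_le_iff_dvd Nat.card_pos.ne' Nat.card_pos.ne').2
        (card_subgroup_dvd_card A) p) hfac]
  obtain ⟨S, hS⟩ := (IsPGroup.of_card (n := 1) (by rw [Nat.card_zpowers, hx, pow_one]) :
    IsPGroup p (zpowers x)).exists_le_sylow
  obtain ⟨g, hg⟩ := MulAction.exists_smul_eq G S (Sylow.ofCard _ hR)
  refine ⟨g, map_subtype_le (R : Subgroup A) ?_⟩
  have : g * x * g⁻¹ ∈ ((g • S : Sylow p G) : Subgroup G) := by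
    rw [Sylow.coe_subgroup_smul]; exact ⟨x, hS (mem_zpowers x), rfl⟩
  rw [hg] at this
  exact this

namespace Data

variable {L : Type*} [Group L] {q : ℕ} (D : Data G L q)
include D

theorem Q_coprime : Nat.Coprime (q ^ 2 - q + 1) (q ^ 3 * ((q - 1) * (q + 1))) := by
  obtain ⟨hq27, hq8, hq3⟩ := D.q_facts
  have hle : q ≤ q ^ 2 := Nat.le_self_pow (by norm_num) q
  have e1 : q ^ 2 - q + 1 = q * (q - 1) + 1 := by zify [hle, (by omega : 1 ≤ q)]; ring
  have e2 : q ^ 2 - q + 1 = (q - 2) * (q + 1) + 3 := by zify [hle, (by omega : 2 ≤ q)]; ring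
  refine Nat.coprime_of_dvd fun k hk hQ hX => ?_
  rcases hk.dvd_mul.1 hX with h | h
  · rw [e1] at hQ
    exact hk.not_dvd_one ((Nat.dvd_add_right ((hk.dvd_of_dvd_pow h).mul_right _)).1 hQ)
  rcases hk.dvd_mul.1 h with h | h
  · rw [e1] at hQ
    exact hk.not_dvd_one ((Nat.dvd_add_right (h.mul_left _)).1 hQ)
  · rw [e2] at hQ
    have := (Nat.dvd_add_right (h.mul_left _)).1 hQ
    rw [(Nat.prime_dvd_prime_iff_eq hk Nat.prime_three).1 this] at h
    omega

theorem not_dvd_of_dvd_Q {p : ℕ} (hp : p.Prime) (hpQ : p ∣ q ^ 2 - q + 1) :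
    ¬ p ∣ q ∧ ¬ p ∣ q - 1 ∧ ¬ p ∣ q + 1 ∧ p ≠ 2 ∧ p ≠ 3 := by
  obtain ⟨hq27, hq8, hq3⟩ := D.q_facts
  have h := Nat.Coprime.coprime_dvd_left hpQ D.Q_coprime
  have key : ¬ p ∣ q ^ 3 * ((q - 1) * (q + 1)) := (Nat.Prime.coprime_iff_not_dvd hp).1 h
  have n1 : ¬ p ∣ q := fun h => key ((dvd_pow h (by norm_num)).mul_right _)
  refine ⟨n1, fun h => key ((h.mul_right _).mul_left _), fun h => key ((h.mul_left _).mul_left _), ?_, ?_⟩
  · rintro rfl
    exact key (((show 2 ∣ q + 1 by omega).mul_left _).mul_left _)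
  · rintro rfl
    exact n1 (Nat.dvd_of_mod_eq_zero hq3)

variable [Finite G] [Finite L]

omit [Finite L] in
/-- An element of odd prime order dividing `q - 1` is conjugate into `H`. -/
theorem exists_conj_H {p : ℕ} (hp : p.Prime) (hp2 : p ≠ 2) (hpd : p ∣ q - 1) {x : G}
    (hx : orderOf x = p) : ∃ g : G, g * x * g⁻¹ ∈ D.H := by
  obtain ⟨hq27, hq8, hq3⟩ := D.q_facts
  refine exists_conj_mem_of_factorization hp D.H ?_ hx
  have n1 : ¬ p ∣ q := fun h => by
    have := Nat.dvd_sub h hpd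
    rw [show q - (q - 1) = 1 by omega] at this
    exact hp.not_dvd_one this
  have n2 : ¬ p ∣ q + 1 := fun h => by
    have := Nat.dvd_sub h hpd
    rw [show q + 1 - (q - 1) = 2 by omega] at this
    exact hp2 ((Nat.prime_dvd_prime_iff_eq hp Nat.prime_two).1 this)
  have n3 : ¬ p ∣ q ^ 2 - q + 1 := fun h => (D.not_dvd_of_dvd_Q hp h).2.1 hpd
  rw [D.card_eq, D.H_card, Nat.factorization_mul (by positivity) (Nat.mul_ne_zero
      (Nat.mul_ne_zero (by omega) (by omega)) (by omega)), Finsupp.add_apply,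
    Nat.factorization_eq_zero_of_not_dvd (fun h => n1 (hp.dvd_of_dvd_pow h)),
    Nat.factorization_mul (Nat.mul_ne_zero (by omega) (by omega)) (by omega), Finsupp.add_apply,
    Nat.factorization_mul (by omega) (by omega), Finsupp.add_apply,
    Nat.factorization_eq_zero_of_not_dvd n2, Nat.factorization_eq_zero_of_not_dvd n3]
  simp

omit [Finite L] in
/-- Centralisers of elements of odd prime order dividing `q - 1`. -/
theorem exists_centralizer_H {p : ℕ} (hp : p.Prime) (hp2 : p ≠ 2) (hpd : p ∣ q - 1) {x : G}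
    (hx : p ∣ orderOf x) :
    ∃ g : G, g * x * g⁻¹ ∈ D.H ∧ (orderOf x = p → centralizer ({g * x * g⁻¹} : Set G) = D.H) := by
  have ho : orderOf (x ^ (orderOf x / p)) = p := orderOf_pow_orderOf_div (orderOf_pos x).ne' hx
  obtain ⟨g, hg⟩ := D.exists_conj_H hp hp2 hpd ho
  have hne : ∀ y : G, orderOf y = p → y * y ≠ 1 := fun y hy h => by
    have := (Nat.prime_dvd_prime_iff_eq hp Nat.prime_two).1
      (hy ▸ orderOf_dvd_of_pow_eq_one (by rwa [pow_two]))
    exact hp2 this
  have hC := D.centralizer_H hg (hne _ ((orderOf_conj _ _).trans ho))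
  have hxH : g * x * g⁻¹ ∈ D.H := hC.le (mem_centralizer_singleton_iff.2
    ((Commute.self_pow x _).map (MulAut.conj g).toMonoidHom).eq)
  exact ⟨g, hxH, fun h => D.centralizer_H hxH (hne _ ((orderOf_conj _ _).trans h))⟩

/-- The centraliser of an element of prime order dividing `q² - q + 1`. -/
theorem regular {p : ℕ} (hp : p.Prime) (hpQ : p ∣ q ^ 2 - q + 1) {z : G} (hz : orderOf z = p) :
    IsCyclic (centralizer ({z} : Set G)) ∧
      Nat.card (centralizer ({z} : Set G)) ∣ q ^ 2 - q + 1 ∧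
      (∀ x ∈ centralizer ({z} : Set G), x ≠ 1 → centralizer ({x} : Set G) = centralizer ({z} : Set G)) ∧
      (Nat.card G).factorization p ≤ (Nat.card (centralizer ({z} : Set G))).factorization p := by
  haveI := Fact.mk hp
  haveI : Fact (Nat.Prime 3) := ⟨Nat.prime_three⟩
  obtain ⟨hq27, hq8, hq3⟩ := D.q_facts
  obtain ⟨nq, nm, np, np2, np3⟩ := D.not_dvd_of_dvd_Q hp hpQ
  set A := centralizer ({z} : Set G) with hA
  have hcyc := (D.seven p hp hpQ z hz).1
  have hzA : z ∈ A := mem_centralizer_singleton_iff.2 rfl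
  have hcard : Nat.card A ∣ q ^ 2 - q + 1 := by
    refine Nat.Coprime.dvd_of_dvd_mul_left ?_ ((card_subgroup_dvd_card A).trans (dvd_of_eq
      (D.card_eq.trans (mul_assoc (q ^ 3) ((q - 1) * (q + 1)) (q ^ 2 - q + 1)).symm)))
    refine Nat.coprime_of_dvd fun l hl hlA hlX => ?_
    haveI := Fact.mk hl
    obtain ⟨u₀, hu₀⟩ := exists_prime_orderOf_dvd_card' (G := A) l hlA
    obtain ⟨u, huA⟩ := u₀
    rw [orderOf_mk] at hu₀
    have huz : u * z = z * u := mem_centralizer_singleton_iff.1 huA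
    have hz' : ∀ g : G, g * z * g⁻¹ ∈ centralizer ({g * u * g⁻¹} : Set G) := fun g => by
      rw [centralizer_conj]
      exact ⟨z, mem_centralizer_singleton_iff.2 huz.symm, rfl⟩
    have hord : ∀ (g : G) (S : Subgroup G), g * z * g⁻¹ ∈ S → p ∣ Nat.card S := fun g S h => by
      have := orderOf_dvd_natCard _ h
      rwa [orderOf_conj, hz] at this
    by_cases hl2 : l = 2
    · subst hl2
      obtain ⟨g, hg⟩ := isConj_iff.1 (D.isConj_a hu₀).symm
      have := hord g _ (hg ▸ hz' g)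
      rw [D.card_centralizer_a] at this
      rcases hp.dvd_mul.1 this with h | h
      · exact nq h
      · rcases hp.dvd_mul.1 h with h | h
        exacts [np h, nm h]
    rcases hl.dvd_mul.1 hlX with h | h
    · obtain ⟨m, -, hqm⟩ := D.q_pow
      have hl3 : l = 3 := (Nat.prime_dvd_prime_iff_eq hl Nat.prime_three).1
        (hl.dvd_of_dvd_pow (hqm ▸ hl.dvd_of_dvd_pow h))
      subst hl3
      obtain ⟨R, hR⟩ := (IsPGroup.of_card (n := 1) (by rw [Nat.card_zpowers, hu₀, pow_one]) :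
        IsPGroup 3 (zpowers u)).exists_le_sylow
      obtain ⟨g, hg⟩ := MulAction.exists_smul_eq G R D.P
      have huP : g * u * g⁻¹ ∈ (D.P : Subgroup G) := by
        rw [← hg, Sylow.coe_subgroup_smul]
        exact ⟨u, hR (mem_zpowers u), rfl⟩
      have := hord g _ (D.centralizer_three huP
        (fun h => by rw [conj_eq_one_iff.1 h, orderOf_one] at hu₀; omega)
        (mem_centralizer_singleton_iff.1 (hz' g)))
      rw [D.sylow_regular.2.2] at this
      rcases hp.dvd_mul.1 this with h | h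
      exacts [nq (hp.dvd_of_dvd_pow h), nm h]
    rcases hl.dvd_mul.1 h with h | h
    · obtain ⟨g, -, hg⟩ := D.exists_centralizer_H hl hl2 h (dvd_of_eq hu₀.symm)
      exact nm (D.H_card ▸ hord g _ (hg hu₀ ▸ hz' g))
    · obtain ⟨T, E, Y, hT⟩ := D.exists_torus
      obtain ⟨g, hg⟩ := hT.exists_conj_Y hl hl2 h hu₀
      refine np (hT.card ▸ hord g T ?_)
      rw [← hT.cent _ hg (fun h => by rw [conj_eq_one_iff.1 h, orderOf_one] at hu₀; exact hl.one_lt.ne hu₀)]
      exact hz' g
  have hcent : ∀ x ∈ A, x ≠ 1 → centralizer ({x} : Set G) = A := by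
    intro x hx hx1
    haveI := hcyc
    obtain ⟨g₀, hg₀⟩ := IsCyclic.exists_generator (α := A)
    have hab : ∀ y ∈ A, ∀ y' ∈ A, y * y' = y' * y := fun y hy y' hy' => by
      obtain ⟨i, hi⟩ := hg₀ ⟨y, hy⟩
      obtain ⟨j, hj⟩ := hg₀ ⟨y', hy'⟩
      exact congrArg Subtype.val
        (show (⟨y, hy⟩ : A) * ⟨y', hy'⟩ = ⟨y', hy'⟩ * ⟨y, hy⟩ by rw [← hi, ← hj]; exact (zpow_mul_comm g₀ i j))
    refine le_antisymm ?_ fun y hy => mem_centralizer_singleton_iff.2 (hab y hy x hx)
    obtain ⟨r, hr, hrd⟩ := Nat.exists_prime_and_dvd (mt orderOf_eq_one_iff.1 hx1)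
    have ho : orderOf (x ^ (orderOf x / r)) = r := orderOf_pow_orderOf_div (orderOf_pos x).ne' hrd
    have hrQ : r ∣ q ^ 2 - q + 1 := (hrd.trans (orderOf_dvd_natCard _ hx)).trans hcard
    haveI := (D.seven r hr hrQ _ ho).1
    obtain ⟨g₁, hg₁⟩ := IsCyclic.exists_generator (α := centralizer ({x ^ (orderOf x / r)} : Set G))
    intro y hy
    have hy' : y ∈ centralizer ({x ^ (orderOf x / r)} : Set G) := mem_centralizer_singleton_iff.2
      ((show Commute y x from mem_centralizer_singleton_iff.1 hy).pow_right _).eq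
    have hz'' : z ∈ centralizer ({x ^ (orderOf x / r)} : Set G) :=
      mem_centralizer_singleton_iff.2 (hab z hzA _ (pow_mem hx _))
    obtain ⟨i, hi⟩ := hg₁ ⟨y, hy'⟩
    obtain ⟨j, hj⟩ := hg₁ ⟨z, hz''⟩
    refine mem_centralizer_singleton_iff.2 (congrArg Subtype.val
      (show (⟨y, hy'⟩ : centralizer ({x ^ (orderOf x / r)} : Set G)) * ⟨z, hz''⟩ = ⟨z, hz''⟩ * ⟨y, hy'⟩ by
        rw [← hi, ← hj]; exact (zpow_mul_comm g₁ i j)))
  refine ⟨hcyc, hcard, hcent, ?_⟩
  obtain ⟨R, hR⟩ := (IsPGroup.of_card (n := 1) (by rw [Nat.card_zpowers, hz, pow_one]) :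
    IsPGroup p (zpowers z)).exists_le_sylow
  haveI : Nontrivial (R : Subgroup G) :=
    ⟨⟨⟨z, hR (mem_zpowers z)⟩, 1, fun h => by
      have := congrArg Subtype.val h
      simp only [OneMemClass.coe_one] at this
      rw [this, orderOf_one] at hz
      exact hp.one_lt.ne hz⟩⟩
  haveI : Nontrivial (center (R : Subgroup G)) := R.2.center_nontrivial
  obtain ⟨⟨w, hw⟩, hw1⟩ := exists_ne (1 : center (R : Subgroup G))
  have hw1' : (w : G) ≠ 1 := fun h => hw1 (Subtype.ext (Subtype.ext h))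
  have hwA : (w : G) ∈ A := mem_centralizer_singleton_iff.2
    (congrArg Subtype.val ((mem_center_iff.1 hw) ⟨z, hR (mem_zpowers z)⟩)).symm
  have hle : (R : Subgroup G) ≤ A := by
    rw [← hcent _ hwA hw1']
    intro y hy
    exact mem_centralizer_singleton_iff.2 (congrArg Subtype.val ((mem_center_iff.1 hw) ⟨y, hy⟩))
  exact (hp.pow_dvd_iff_le_factorization Nat.card_pos.ne').1
    (R.card_eq_multiplicity ▸ card_dvd_of_le hle)

/-- The normaliser of `C(z)`. -/
theorem regular_normalizer {p : ℕ} (hp : p.Prime) (hpQ : p ∣ q ^ 2 - q + 1) {z : G} (hz : orderOf z = p) :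
    (∃ e, e ∣ 6 ∧ Nat.card (normalizer (centralizer ({z} : Set G) : Set G)) =
      e * Nat.card (centralizer ({z} : Set G))) ∧
    ∀ A₀ : Subgroup G, A₀ ≤ centralizer ({z} : Set G) → A₀ ≠ ⊥ →
      normalizer (A₀ : Set G) = normalizer (centralizer ({z} : Set G) : Set G) := by
  haveI := Fact.mk hp
  obtain ⟨hcyc, -, hcent, -⟩ := D.regular hp hpQ hz
  set A := centralizer ({z} : Set G) with hA
  haveI := hcyc
  have hzA : z ∈ A := mem_centralizer_singleton_iff.2 rfl
  have hN : ∀ A₀ : Subgroup G, A₀ ≤ A → A₀ ≠ ⊥ → normalizer (A₀ : Set G) = normalizer (A : Set G) := by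
    intro A₀ hle hne
    refine le_antisymm ?_ (normalizer_le_of_cyclic hcyc hle)
    haveI := (nontrivial_iff_ne_bot A₀).2 hne
    obtain ⟨⟨x, hx⟩, hx1⟩ := exists_ne (1 : A₀)
    have hC : centralizer (A₀ : Set G) = A := by
      refine le_antisymm ?_ fun y hy => mem_centralizer_iff.2 fun u hu => ?_
      · rw [← hcent x (hle hx) fun h => hx1 (Subtype.ext h)]
        exact centralizer_le (Set.singleton_subset_iff.2 hx)
      · by_cases hu1 : u = 1
        · rw [hu1, one_mul, mul_one]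
        · exact (mem_centralizer_singleton_iff.1 ((hcent u (hle hu) hu1).ge hy)).symm
    exact hC ▸ normalizer_le_centralizer A₀
  refine ⟨?_, hN⟩
  set Z := zpowers z with hZ
  have hZA : Z ≤ A := zpowers_le.2 hzA
  have hNZ : normalizer (Z : Set G) = normalizer (A : Set G) := hN Z hZA fun h => by
    have : Nat.card Z = 1 := by rw [h, card_bot]
    rw [hZ, Nat.card_zpowers, hz] at this
    exact hp.one_lt.ne' this
  have hCZ : centralizer (Z : Set G) = A := by
    refine le_antisymm (centralizer_le (Set.singleton_subset_iff.2 (mem_zpowers z))) fun y hy =>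
      mem_centralizer_iff.2 ?_
    rintro _ ⟨k, rfl⟩
    exact ((show Commute y z from mem_centralizer_singleton_iff.1 hy).zpow_right k).eq.symm
  have hAN : A ≤ normalizer (A : Set G) := le_normalizer
  set φ := Z.normalizerMonoidHom
  haveI : IsCyclic (MulAut Z) := by
    haveI : IsCyclic Z := isCyclic_zpowers z
    have hcZ : Nat.card Z = p := by rw [hZ, Nat.card_zpowers, hz]
    haveI : Fact (Nat.card Z).Prime := ⟨hcZ ▸ hp⟩
    exact isCyclic_of_surjective (IsCyclic.mulAutMulEquiv Z).symm.toMonoidHom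
      (IsCyclic.mulAutMulEquiv Z).symm.surjective
  have h6 : Monoid.exponent φ.range ∣ 6 := by
    refine Monoid.exponent_dvd_of_forall_pow_eq_one ?_
    rintro ⟨_, g, rfl⟩
    refine Subtype.ext ?_
    show φ g ^ 6 = 1
    rw [← map_pow, ← MonoidHom.mem_ker, normalizerMonoidHom_ker, mem_subgroupOf, hCZ]
    exact (D.seven p hp hpQ z hz).2 g g.2
  rw [IsCyclic.exponent_eq_card] at h6
  refine ⟨Nat.card φ.range, h6, ?_⟩
  rw [← hNZ, ← index_ker, normalizerMonoidHom_ker, hCZ, mul_comm, ← Nat.card_congr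
    (subgroupOfEquivOfLe (hNZ ▸ hAN : A ≤ normalizer (Z : Set G))).toEquiv]
  exact ((A.subgroupOf (normalizer (Z : Set G))).card_mul_index).symm

/-- Any two such centralisers for the same prime are conjugate. -/
theorem regular_conj {p : ℕ} (hp : p.Prime) (hpQ : p ∣ q ^ 2 - q + 1) {z z' : G} (hz : orderOf z = p)
    (hz' : orderOf z' = p) : ∃ g : G, g * z' * g⁻¹ ∈ centralizer ({z} : Set G) ∧
      centralizer ({g * z' * g⁻¹} : Set G) = centralizer ({z} : Set G) := by
  obtain ⟨-, -, hcent, hfac⟩ := D.regular hp hpQ hz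
  obtain ⟨g, hg⟩ := exists_conj_mem_of_factorization hp _ hfac hz'
  refine ⟨g, hg, hcent _ hg fun h => ?_⟩
  rw [conj_eq_one_iff.1 h, orderOf_one] at hz'
  exact hp.one_lt.ne hz'

end Data

end Cfsg.Agent.ReeTori
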