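/-
Element counts in groups with the local data of a small Ree group.

* `card_family` : elements conjugate into a TI subgroup
* `classify`
* `card_order_three`, `card_order_nine`, `card_order_six`, `card_H_type`, `card_T_type`
* `exists_regular` : exactly two classes of subgroups `C(z)`, of orders `q ∓ r + 1`
-/
import Cfsg.Agent.Lib.ReeTori.Regular

set_option autoImplicit false

namespace Cfsg.Agent.ReeTori

open Subgroup
open scoped Pointwise

variable {G : Type*} [Group G]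

theorem card_family [Finite G] (B : Subgroup G) (Q : ℕ → Prop)
    (hcover : ∀ g : G, Q (orderOf g) → ∃ h : G, h * g * h⁻¹ ∈ B)
    (hTI : ∀ x ∈ B, Q (orderOf x) → ∀ h : G, h * x * h⁻¹ ∈ B → h ∈ normalizer (B : Set G)) :
    Nat.card {g : G // Q (orderOf g)} =
      (normalizer (B : Set G)).index * Nat.card {x : B // Q (orderOf (x : G))} := by
  let φ : (G ⧸ normalizer (B : Set G)) × {x : B // Q (orderOf (x : G))} → {g : G // Q (orderOf g)} :=
    fun z => ⟨z.1.out * ((z.2 : B) : G) * z.1.out⁻¹, by rw [orderOf_conj]; exact z.2.2⟩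
  have hφ : Function.Bijective φ := by
    constructor
    · rintro ⟨c, x⟩ ⟨d, y⟩ h
      have h' : c.out * ((x : B) : G) * c.out⁻¹ = d.out * ((y : B) : G) * d.out⁻¹ :=
        congrArg Subtype.val h
      have hn : d.out⁻¹ * c.out ∈ normalizer (B : Set G) := by
        refine hTI _ (x : B).2 x.2 _ ?_
        rw [show d.out⁻¹ * c.out * ((x : B) : G) * (d.out⁻¹ * c.out)⁻¹ =
          d.out⁻¹ * (c.out * ((x : B) : G) * c.out⁻¹) * d.out by group, h',
          show d.out⁻¹ * (d.out * ((y : B) : G) * d.out⁻¹) * d.out = ((y : B) : G) by group]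
        exact (y : B).2
      have hcd : d = c := by
        rw [← QuotientGroup.out_eq' c, ← QuotientGroup.out_eq' d, QuotientGroup.eq]
        exact hn
      subst hcd
      exact Prod.ext rfl (Subtype.ext (Subtype.ext (mul_left_cancel (mul_right_cancel h'))))
    · rintro ⟨g, hg⟩
      obtain ⟨h, hh⟩ := hcover g hg
      obtain ⟨n, hn⟩ := QuotientGroup.mk_out_eq_mul (normalizer (B : Set G)) h⁻¹
      have hxB : (n : G)⁻¹ * (h * g * h⁻¹) * n ∈ B := by
        have := (mem_normalizer_iff.1 (inv_mem n.2) (h * g * h⁻¹)).1 hh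
        rwa [inv_inv] at this
      refine ⟨(QuotientGroup.mk h⁻¹, ⟨⟨_, hxB⟩, ?_⟩), Subtype.ext ?_⟩
      · show Q (orderOf ((n : G)⁻¹ * (h * g * h⁻¹) * n))
        rw [show (n : G)⁻¹ * (h * g * h⁻¹) * n = ((n : G)⁻¹ * h) * g * ((n : G)⁻¹ * h)⁻¹ by group,
          orderOf_conj]
        exact hg
      · show (QuotientGroup.mk h⁻¹ : G ⧸ normalizer (B : Set G)).out * ((n : G)⁻¹ * (h * g * h⁻¹) * n) *
          (QuotientGroup.mk h⁻¹ : G ⧸ normalizer (B : Set G)).out⁻¹ = g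
        rw [hn]
        group
  rw [← Nat.card_eq_of_bijective φ hφ, Nat.card_prod, index_eq_card]

theorem mem_normalizer_of_centralizer [Finite G] {B : Subgroup G} {x h : G}
    (h1 : centralizer ({x} : Set G) = B) (h2 : centralizer ({h * x * h⁻¹} : Set G) = B) :
    h ∈ normalizer (B : Set G) := by
  rw [mem_normalizer_iff]
  intro y
  conv_rhs => rw [← h2, centralizer_conj, h1]
  exact ⟨fun hy => ⟨y, hy, rfl⟩, fun ⟨z, hz, e⟩ => MulEquiv.injective (MulAut.conj h) e ▸ hz⟩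

theorem card_subtype_split {α : Type*} [Finite α] (S : α → Prop) :
    Nat.card α = Nat.card {x // S x} + Nat.card {x // ¬ S x} := by
  classical
  rw [← Nat.card_sum]
  exact Nat.card_congr (Equiv.sumCompl S).symm

namespace Data

variable {L : Type*} [Group L] {q : ℕ} [Finite G] [Finite L] (D : Data G L q)
include D

omit [Finite G] [Finite L] in
theorem L_no_nine {x : L} : orderOf x ≠ 9 := by
  obtain ⟨hq27, hq8, hq3⟩ := D.q_facts
  intro h
  rcases D.lfacts.orders x with h' | h' | h' <;> rw [h] at h' <;> omega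

/-- Elements of `C(a)` of odd order lie in `ι L`. -/
theorem mem_range_of_odd {ι : L →* G} (hcomm : ∀ x, ι x * D.a = D.a * ι x)
    (hdec : ∀ g, g * D.a = D.a * g → ∃ x, g = ι x ∨ g = D.a * ι x) (hne : ∀ x, ι x ≠ D.a)
    {g : G} (hg : g * D.a = D.a * g) (ho : Odd (orderOf g)) : ∃ x, g = ι x := by
  obtain ⟨x, h | h⟩ := hdec g hg
  · exact ⟨x, h⟩
  exfalso
  have hpow := pow_orderOf_eq_one g
  obtain ⟨u, hu⟩ := ho
  rw [hu, h, (show Commute D.a (ι x) from (hcomm x).symm).mul_pow, pow_succ D.a, pow_mul, pow_two,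
    D.a_sq, one_pow, one_mul, ← map_pow] at hpow
  exact hne _ ((map_inv ι _).trans (eq_inv_of_mul_eq_one_left hpow).symm)

theorem classify (g : G) :
    orderOf g = 1 ∨ orderOf g = 2 ∨ orderOf g = 3 ∨ orderOf g = 6 ∨ orderOf g = 9 ∨
      (3 ≤ orderOf g ∧ orderOf g ∣ q - 1 ∧ ∃ h : G, h * g * h⁻¹ ∈ D.H) ∨
      (3 ≤ orderOf g ∧ orderOf g ∣ (q + 1) / 2) ∨
      (orderOf g ≠ 1 ∧ ∃ p z, p.Prime ∧ p ∣ q ^ 2 - q + 1 ∧ orderOf z = p ∧ g ∈ centralizer ({z} : Set G)) := by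
  haveI : Fact (Nat.Prime 2) := ⟨Nat.prime_two⟩
  haveI : Fact (Nat.Prime 3) := ⟨Nat.prime_three⟩
  obtain ⟨hq27, hq8, hq3⟩ := D.q_facts
  have hop := orderOf_pos g
  by_cases hbig : ∃ p, p.Prime ∧ p ∣ orderOf g ∧ p ≠ 2 ∧ p ≠ 3
  · obtain ⟨p, hp, hpo, hp2, hp3⟩ := hbig
    have h3 : 3 ≤ orderOf g := le_trans (by have := hp.two_le; omega) (Nat.le_of_dvd hop hpo)
    have hG := hpo.trans (orderOf_dvd_natCard g)
    rw [D.card_eq] at hG
    rcases hp.dvd_mul.1 hG with h | h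
    · obtain ⟨m, -, hqm⟩ := D.q_pow
      exact absurd ((Nat.prime_dvd_prime_iff_eq hp Nat.prime_three).1
        (hp.dvd_of_dvd_pow (hqm ▸ hp.dvd_of_dvd_pow h))) hp3
    rcases hp.dvd_mul.1 h with h | h
    rcases hp.dvd_mul.1 h with h | h
    · obtain ⟨x, hx, -⟩ := D.exists_centralizer_H hp hp2 h hpo
      refine Or.inr (Or.inr (Or.inr (Or.inr (Or.inr (Or.inl ⟨h3, ?_, x, hx⟩)))))
      rw [← orderOf_conj x g, ← D.H_card]
      exact orderOf_dvd_natCard _ hx
    · obtain ⟨T, E, Y, hT⟩ := D.exists_torus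
      obtain ⟨x, hx⟩ := hT.exists_conj_T hp hp2 h hpo
      refine Or.inr (Or.inr (Or.inr (Or.inr (Or.inr (Or.inr (Or.inl ⟨h3, ?_⟩))))))
      rw [← orderOf_conj x g, show (q + 1) / 2 = 2 * ((q + 1) / 4) by omega]
      refine orderOf_dvd_of_pow_eq_one ?_
      rw [pow_mul, pow_two, ← hT.card_Y]
      exact orderOf_dvd_iff_pow_eq_one.1 (orderOf_dvd_natCard _ (hT.sq _ hx))
    · refine Or.inr (Or.inr (Or.inr (Or.inr (Or.inr (Or.inr (Or.inr ⟨by omega, p, g ^ (orderOf g / p),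
        hp, h, orderOf_pow_orderOf_div hop.ne' hpo, ?_⟩))))))
      exact mem_centralizer_singleton_iff.2 (Commute.self_pow g _).eq
  · have hp2 : ∀ x : G, ∀ k, orderOf x = 2 ^ k → x * x = 1 := by
      intro x k hk
      obtain ⟨S, hS⟩ := (IsPGroup.of_card (n := k) (by rw [Nat.card_zpowers, hk]) :
        IsPGroup 2 (zpowers x)).exists_le_sylow
      exact (D.sylow_two S).2 x (hS (mem_zpowers x))
    have hp3 : ∀ x : G, ∀ k, orderOf x = 3 ^ k → x ^ 9 = 1 := by
      intro x k hk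
      obtain ⟨S, hS⟩ := (IsPGroup.of_card (n := k) (by rw [Nat.card_zpowers, hk]) :
        IsPGroup 3 (zpowers x)).exists_le_sylow
      obtain ⟨y, hy⟩ := MulAction.exists_smul_eq G S D.P
      have := D.pow_nine (y * x * y⁻¹) (by
        rw [← hy, Sylow.coe_subgroup_smul]; exact ⟨x, hS (mem_zpowers x), rfl⟩)
      rw [conj_pow] at this
      exact conj_eq_one_iff.1 this
    have h18 : orderOf g ∣ 18 := by
      refine (Nat.dvd_iff_prime_pow_dvd_dvd 18 (orderOf g)).2 fun p k hp hpk => ?_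
      rcases Nat.eq_zero_or_pos k with rfl | hk
      · simp
      have ho : orderOf (g ^ (orderOf g / p ^ k)) = p ^ k := orderOf_pow_orderOf_div hop.ne' hpk
      have hp23 : p = 2 ∨ p = 3 := by
        by_contra hc
        exact hbig ⟨p, hp, (dvd_pow_self p hk.ne').trans hpk, fun e => hc (Or.inl e), fun e => hc (Or.inr e)⟩
      rcases hp23 with rfl | rfl
      · have := orderOf_dvd_of_pow_eq_one (n := 2) ((pow_two _).trans (hp2 _ k ho))
        rw [ho] at this
        exact this.trans (by norm_num)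
      · have := orderOf_dvd_of_pow_eq_one (hp3 _ k ho)
        rw [ho] at this
        exact this.trans (by norm_num)
    have hne : orderOf g ≠ 18 := by
      intro h
      obtain ⟨ι, hinj, hcomm, hdec, hne⟩ := D.exists_emb
      have ht : orderOf (g ^ 9) = 2 := by rw [orderOf_pow_of_dvd (by norm_num) (h ▸ by norm_num), h]
      obtain ⟨c, hc⟩ := isConj_iff.1 (D.isConj_a ht).symm
      have hu : orderOf (c * g ^ 2 * c⁻¹) = 9 := by
        rw [orderOf_conj, orderOf_pow_of_dvd (by norm_num) (h ▸ by norm_num), h]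
      obtain ⟨x, hx⟩ := D.mem_range_of_odd hcomm hdec hne (g := c * g ^ 2 * c⁻¹) (by
        rw [← hc]
        exact (((Commute.refl g).pow_pow 2 9).map (MulAut.conj c).toMonoidHom).eq) (hu ▸ by decide)
      rw [hx, orderOf_injective ι hinj] at hu
      exact D.L_no_nine hu
    have hmem : orderOf g ∈ Nat.divisors 18 := Nat.mem_divisors.2 ⟨h18, by norm_num⟩
    rw [show Nat.divisors 18 = {1, 2, 3, 6, 9, 18} by decide] at hmem
    simp only [Finset.mem_insert, Finset.mem_singleton] at hmem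
    omega

theorem card_three_type {n : ℕ} (hn : n = 3 ∨ n = 9) :
    Nat.card {g : G // orderOf g = n} =
      (q ^ 3 + 1) * Nat.card {u : (D.P : Subgroup G) // orderOf (u : G) = n} := by
  haveI : Fact (Nat.Prime 3) := ⟨Nat.prime_three⟩
  rw [card_family (D.P : Subgroup G) (fun k => k = n),
    show (normalizer ((D.P : Subgroup G) : Set G)).index = Nat.card (Sylow 3 G) from
      (Sylow.card_eq_index_normalizer D.P).symm, D.sylow_regular.1]
  · intro g hg
    obtain ⟨k, hk⟩ : ∃ k, orderOf g = 3 ^ k := by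
      rcases hn with rfl | rfl
      exacts [⟨1, hg⟩, ⟨2, hg⟩]
    obtain ⟨S, hS⟩ := (IsPGroup.of_card (n := k) (by rw [Nat.card_zpowers, hk]) :
      IsPGroup 3 (zpowers g)).exists_le_sylow
    obtain ⟨y, hy⟩ := MulAction.exists_smul_eq G S D.P
    exact ⟨y, by rw [← hy, Sylow.coe_subgroup_smul]; exact ⟨g, hS (mem_zpowers g), rfl⟩⟩
  · intro x hx hxo h hh
    refine (Sylow.smul_eq_iff_mem_normalizer (P := D.P)).1 ?_
    by_contra hne
    have := mem_bot.1 ((D.ti _ _ hne).le (mem_inf.2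
      ⟨by rw [Sylow.coe_subgroup_smul]; exact ⟨x, hx, rfl⟩, hh⟩))
    rw [conj_eq_one_iff.1 this, orderOf_one] at hxo
    omega

theorem card_order_three : Nat.card {g : G // orderOf g = 3} = (q ^ 3 + 1) * (q ^ 2 - 1) := by
  rw [D.card_three_type (Or.inl rfl), ← D.card_three]
  congr 1
  exact Nat.card_congr (Equiv.subtypeEquivRight fun u => by rw [orderOf_coe])

theorem card_P_nine : Nat.card {u : (D.P : Subgroup G) // orderOf (u : G) = 9} = q ^ 3 - q ^ 2 := by
  have h1 := card_subtype_split (fun u : (D.P : Subgroup G) => orderOf (u : G) = 9)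
  have h2 := card_subtype_split (fun u : {u : (D.P : Subgroup G) // ¬ orderOf (u : G) = 9} =>
    orderOf ((u : (D.P : Subgroup G)) : G) = 3)
  have e1 : Nat.card {u : {u : (D.P : Subgroup G) // ¬ orderOf (u : G) = 9} //
      orderOf ((u : (D.P : Subgroup G)) : G) = 3} = q ^ 2 - 1 := by
    rw [← D.card_three]
    refine Nat.card_congr ((Equiv.subtypeSubtypeEquivSubtypeInter (fun u : (D.P : Subgroup G) =>
      ¬ orderOf (u : G) = 9) (fun u => orderOf (u : G) = 3)).trans (Equiv.subtypeEquivRight fun u => ?_))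
    rw [orderOf_coe]
    exact ⟨fun h => h.2, fun h => ⟨by omega, h⟩⟩
  have e2 : Nat.card {u : {u : (D.P : Subgroup G) // ¬ orderOf (u : G) = 9} //
      ¬ orderOf ((u : (D.P : Subgroup G)) : G) = 3} = 1 := by
    refine Nat.card_eq_one_iff_unique.2 ⟨⟨fun x y => ?_⟩, ⟨⟨⟨1, by simp⟩, by simp⟩⟩⟩
    have hone : ∀ z : {u : {u : (D.P : Subgroup G) // ¬ orderOf (u : G) = 9} //
        ¬ orderOf ((u : (D.P : Subgroup G)) : G) = 3}, ((z.1.1 : (D.P : Subgroup G)) : G) = 1 := by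
      rintro ⟨⟨⟨u, hu⟩, h9⟩, h3⟩
      obtain ⟨i, hi, ho⟩ := (Nat.dvd_prime_pow Nat.prime_three).1
        (show orderOf u ∣ 3 ^ 2 from orderOf_dvd_of_pow_eq_one (D.pow_nine u hu))
      interval_cases i
      · exact orderOf_eq_one_iff.1 ho
      · exact absurd ho h3
      · exact absurd ho h9
    exact Subtype.ext (Subtype.ext (Subtype.ext ((hone x).trans (hone y).symm)))
  have hq : 1 ≤ q ^ 2 := Nat.one_le_pow _ _ (by have := D.q_facts.1; omega)
  have := D.card_P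
  omega

theorem card_order_nine : Nat.card {g : G // orderOf g = 9} = (q ^ 3 + 1) * (q ^ 3 - q ^ 2) := by
  rw [D.card_three_type (Or.inr rfl), D.card_P_nine]

theorem card_three_centralizer {t : G} (ht : orderOf t = 2) :
    Nat.card {u : G // orderOf u = 3 ∧ Commute t u} = (q + 1) * (q - 1) := by
  obtain ⟨c, hc⟩ := isConj_iff.1 (D.isConj_a ht)
  obtain ⟨ι, hinj, hcomm, hdec, hne⟩ := D.exists_emb
  rw [← D.lfacts.three]
  symm
  refine Nat.card_eq_of_bijective
    (fun x => ⟨c * ι x.1 * c⁻¹, by rw [orderOf_conj, orderOf_injective ι hinj]; exact x.2,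
      hc ▸ ((show Commute D.a (ι x.1) from (hcomm x.1).symm).map (MulAut.conj c).toMonoidHom)⟩) ⟨?_, ?_⟩
  · intro x y h
    exact Subtype.ext (hinj (mul_left_cancel (mul_right_cancel (congrArg Subtype.val h))))
  · rintro ⟨u, hu, hcu⟩
    have h1 : c⁻¹ * u * c * D.a = D.a * (c⁻¹ * u * c) := by
      calc c⁻¹ * u * c * D.a = c⁻¹ * (u * (c * D.a * c⁻¹)) * c := by group
        _ = c⁻¹ * (c * D.a * c⁻¹ * u) * c := by rw [hc, hcu.eq]
        _ = D.a * (c⁻¹ * u * c) := by group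
    have ho : orderOf (c⁻¹ * u * c) = 3 := by
      have h := orderOf_conj c⁻¹ u
      rw [inv_inv] at h
      exact h.trans hu
    obtain ⟨x, hx⟩ := D.mem_range_of_odd hcomm hdec hne h1 (ho ▸ by decide)
    refine ⟨⟨x, by rw [← orderOf_injective ι hinj, ← hx, ho]⟩, Subtype.ext ?_⟩
    show c * ι x * c⁻¹ = u
    rw [← hx]; group

theorem card_order_six :
    Nat.card {g : G // orderOf g = 6} = q ^ 2 * (q ^ 2 - q + 1) * ((q + 1) * (q - 1)) := by
  haveI := Fintype.ofFinite {t : G // orderOf t = 2}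
  have h : Nat.card {g : G // orderOf g = 6} =
      Nat.card (Σ t : {t : G // orderOf t = 2}, {u : G // orderOf u = 3 ∧ Commute (t : G) u}) := by
    symm
    refine Nat.card_eq_of_bijective (fun z => ⟨(z.1 : G) * z.2, ?_⟩) ⟨?_, ?_⟩
    · rw [Commute.orderOf_mul_eq_mul_orderOf_of_coprime z.2.2.2 (by rw [z.1.2, z.2.2.1]; norm_num),
        z.1.2, z.2.2.1]
    · rintro ⟨⟨t, ht⟩, u, hu, hc⟩ ⟨⟨t', ht'⟩, u', hu', hc'⟩ h
      have h' : t * u = t' * u' := congrArg Subtype.val h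
      have hcube : ∀ s v : G, orderOf s = 2 → orderOf v = 3 → Commute s v → (s * v) ^ 3 = s := by
        intro s v hs hv hsv
        rw [hsv.mul_pow, show v ^ 3 = 1 by rw [← hv, pow_orderOf_eq_one], mul_one, pow_succ,
          show s ^ 2 = 1 by rw [← hs, pow_orderOf_eq_one], one_mul]
      obtain rfl : t = t' := by rw [← hcube t u ht hu hc, h', hcube t' u' ht' hu' hc']
      obtain rfl : u = u' := mul_left_cancel h'
      rfl
    · rintro ⟨g, hg⟩
      refine ⟨⟨⟨g ^ 3, ?_⟩, ⟨g ^ 4, ?_, (Commute.refl g).pow_pow _ _⟩⟩, Subtype.ext ?_⟩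
      · rw [orderOf_pow_of_dvd (by norm_num) (hg ▸ by norm_num), hg]
      · rw [orderOf_pow' g (by norm_num), hg]; rfl
      · show g ^ 3 * g ^ 4 = g
        rw [← pow_add, show 3 + 4 = orderOf g + 1 by omega, pow_succ, pow_orderOf_eq_one, one_mul]
  rw [h, Nat.card_sigma, Finset.sum_congr rfl (fun t _ => D.card_three_centralizer t.2), Finset.sum_const,
    Finset.card_univ, smul_eq_mul, ← Nat.card_eq_fintype_card, D.card_involutions]

omit [Finite L] in
theorem sq_ne_one {x : G} (h : 3 ≤ orderOf x) : x * x ≠ 1 := fun e => by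
  have := Nat.le_of_dvd two_pos (orderOf_dvd_of_pow_eq_one (x := x) (n := 2) (by rwa [pow_two]))
  omega

theorem card_le_two_H : Nat.card {x : D.H // ¬ 3 ≤ orderOf (x : G)} = 2 := by
  have hcyc := D.H_cyclic
  have ha1 := D.a_ne
  refine Nat.card_eq_of_bijective (fun b : Bool => (⟨⟨if b then D.a else 1,
    by split; exact D.a_mem; exact one_mem _⟩, by
      show ¬ 3 ≤ orderOf (if b then D.a else 1)
      cases b
      · simp
      · simp [D.orderOf_a]⟩ : {x : D.H // ¬ 3 ≤ orderOf (x : G)})) ⟨?_, ?_⟩ |>.symm.trans (by simp)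
  · intro b c h
    have h' := congrArg (fun z : {x : D.H // ¬ 3 ≤ orderOf (x : G)} => ((z.1 : D.H) : G)) h
    cases b <;> cases c <;> simp_all [ha1.symm]
  · rintro ⟨⟨x, hx⟩, hx3⟩
    simp only [not_le] at hx3
    have hp := orderOf_pos x
    by_cases h1 : x = 1
    · exact ⟨false, by simp [h1]⟩
    · have h2 : orderOf x = 2 := by
        have := mt orderOf_eq_one_iff.1 h1
        omega
      have he := eq_of_card_cyclic hcyc (zpowers_le.2 hx) (zpowers_le.2 D.a_mem)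
        (by rw [Nat.card_zpowers, Nat.card_zpowers, h2, D.orderOf_a])
      obtain ⟨k, hk⟩ := (he ▸ mem_zpowers x : x ∈ zpowers D.a)
      have hk' : x = D.a := by
        rcases Int.even_or_odd k with ⟨u, rfl⟩ | ⟨u, rfl⟩
        · exfalso; apply h1; rw [← hk]; show D.a ^ (u + u) = 1
          rw [← two_mul, zpow_mul, zpow_two, D.a_sq, one_zpow]
        · rw [← hk]; show D.a ^ (2 * u + 1) = D.a
          rw [zpow_add_one, zpow_mul, zpow_two, D.a_sq, one_zpow, one_mul]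
      exact ⟨true, by simp [hk']⟩

theorem not_three_dvd : ¬ 3 ∣ q - 1 ∧ ¬ 3 ∣ (q + 1) / 2 := by
  obtain ⟨hq27, hq8, hq3⟩ := D.q_facts
  constructor <;> omega

theorem exclusive {n : ℕ} (hn : n ≠ 1) :
    (3 ≤ n → n ∣ q - 1 → ¬ n ∣ (q + 1) / 2) ∧ (n ∣ q ^ 2 - q + 1 → ¬ n ∣ q - 1 ∧ ¬ n ∣ (q + 1) / 2 ∧
      n ≠ 2 ∧ n ≠ 3 ∧ n ≠ 6 ∧ n ≠ 9) := by
  obtain ⟨hq27, hq8, hq3⟩ := D.q_facts
  constructor
  · intro h3 h1 h2
    have h2' : n ∣ q + 1 := h2.trans ⟨2, by omega⟩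
    have h := Nat.dvd_sub h2' h1
    rw [show q + 1 - (q - 1) = 2 by omega] at h
    have := Nat.le_of_dvd two_pos h
    omega
  · intro hQ
    obtain ⟨p, hp, hpn⟩ := Nat.exists_prime_and_dvd hn
    obtain ⟨n1, n2, n3, n4, n5⟩ := D.not_dvd_of_dvd_Q hp (hpn.trans hQ)
    refine ⟨fun h => n2 (hpn.trans h), fun h => n3 ((hpn.trans h).trans ⟨2, by omega⟩), ?_, ?_, ?_, ?_⟩ <;>
      intro e <;> subst e
    · exact n4 ((Nat.prime_dvd_prime_iff_eq hp Nat.prime_two).1 hpn)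
    · exact n5 ((Nat.prime_dvd_prime_iff_eq hp Nat.prime_three).1 hpn)
    · rcases hp.dvd_mul.1 (show p ∣ 2 * 3 from hpn) with h | h
      exacts [n4 ((Nat.prime_dvd_prime_iff_eq hp Nat.prime_two).1 h),
        n5 ((Nat.prime_dvd_prime_iff_eq hp Nat.prime_three).1 h)]
    · exact n5 ((Nat.prime_dvd_prime_iff_eq hp Nat.prime_three).1 (hp.dvd_of_dvd_pow (m := 3) (n := 2) hpn))

theorem exists_conj_H_type {g : G} (h3 : 3 ≤ orderOf g) (hd : orderOf g ∣ q - 1) :
    ∃ h : G, h * g * h⁻¹ ∈ D.H := by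
  obtain ⟨n1, n2⟩ := D.not_three_dvd
  rcases D.classify g with h | h | h | h | h | ⟨-, -, h⟩ | ⟨-, h⟩ | ⟨h1, p, z, hp, hpQ, hz, hg⟩
  · omega
  · omega
  · exact absurd (h ▸ hd) n1
  · exact absurd ((by norm_num : 3 ∣ 6).trans (h ▸ hd)) n1
  · exact absurd ((by norm_num : 3 ∣ 9).trans (h ▸ hd)) n1
  · exact h
  · exact absurd h ((D.exclusive (by omega)).1 h3 hd)
  · exact absurd hd ((D.exclusive h1).2
      ((orderOf_dvd_natCard _ hg).trans (D.regular hp hpQ hz).2.1)).1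

theorem card_H_type_of {P : ℕ → Prop} (hP : ∀ n, P n → 3 ≤ n ∧ n ∣ q - 1) :
    Nat.card {g : G // P (orderOf g)} =
      (normalizer (D.H : Set G)).index * Nat.card {x : D.H // P (orderOf (x : G))} := by
  refine card_family D.H P (fun g hg => D.exists_conj_H_type (hP _ hg).1 (hP _ hg).2) fun x hx hxP h hh => ?_
  exact mem_normalizer_of_centralizer (D.centralizer_H hx (sq_ne_one D (hP _ hxP).1))
    (D.centralizer_H hh (sq_ne_one D ((orderOf_conj h x).symm ▸ (hP _ hxP).1)))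

theorem card_H_type :
    Nat.card {g : G // 3 ≤ orderOf g ∧ orderOf g ∣ q - 1} = (normalizer (D.H : Set G)).index * (q - 3) := by
  obtain ⟨hq27, -, -⟩ := D.q_facts
  rw [D.card_H_type_of (P := fun n => 3 ≤ n ∧ n ∣ q - 1) fun n h => h]
  congr 1
  have h1 := card_subtype_split (fun x : D.H => 3 ≤ orderOf (x : G))
  rw [D.card_le_two_H, D.H_card] at h1
  have h2 : Nat.card {x : D.H // 3 ≤ orderOf (x : G) ∧ orderOf (x : G) ∣ q - 1} =
      Nat.card {x : D.H // 3 ≤ orderOf (x : G)} :=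
    Nat.card_congr (Equiv.subtypeEquivRight fun x =>
      ⟨fun h => h.1, fun h => ⟨h, D.H_card ▸ orderOf_dvd_natCard _ x.2⟩⟩)
  omega

variable {T E Y : Subgroup G}

omit [Finite L] in
theorem orderOf_dvd_torus (hT : D.Torus T E Y) {x : G} (hx : x ∈ T) : orderOf x ∣ (q + 1) / 2 := by
  have hq8 := D.q_facts.2.1
  rw [show (q + 1) / 2 = 2 * ((q + 1) / 4) by omega]
  refine orderOf_dvd_of_pow_eq_one ?_
  rw [pow_mul, pow_two, ← hT.card_Y]
  exact orderOf_dvd_iff_pow_eq_one.1 (orderOf_dvd_natCard _ (hT.sq _ hx))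

theorem exists_conj_T_type (hT : D.Torus T E Y) {g : G} (h3 : 3 ≤ orderOf g)
    (hd : orderOf g ∣ (q + 1) / 2) : ∃ h : G, h * g * h⁻¹ ∈ T := by
  obtain ⟨hq27, hq8, -⟩ := D.q_facts
  have hp : ∃ p, p.Prime ∧ p ≠ 2 ∧ p ∣ orderOf g := by
    by_contra hc
    obtain ⟨k, hk⟩ : ∃ k, orderOf g = 2 ^ k := ⟨_, Nat.eq_prime_pow_of_unique_prime_dvd
      (orderOf_pos g).ne' fun {d} hd hdo => by_contra fun h => hc ⟨d, hd, h, hdo⟩⟩
    rcases Nat.lt_or_ge k 2 with h | h
    · interval_cases k <;> omega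
    · have : 4 ∣ (q + 1) / 2 := ((pow_dvd_pow 2 h).trans (hk ▸ hd))
      omega
  obtain ⟨p, hp, hp2, hpo⟩ := hp
  exact hT.exists_conj_T hp hp2 ((hpo.trans hd).trans ⟨2, by omega⟩) hpo

theorem card_T_type_of (hT : D.Torus T E Y) {P : ℕ → Prop} (hP : ∀ n, P n → 3 ≤ n ∧ n ∣ (q + 1) / 2) :
    Nat.card {g : G // P (orderOf g)} =
      (normalizer (T : Set G)).index * Nat.card {x : T // P (orderOf (x : G))} := by
  refine card_family T P (fun g hg => D.exists_conj_T_type hT (hP _ hg).1 (hP _ hg).2) fun x hx hxP h hh => ?_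
  exact mem_normalizer_of_centralizer (hT.centralizer_torus hx (sq_ne_one D (hP _ hxP).1))
    (hT.centralizer_torus hh (sq_ne_one D ((orderOf_conj h x).symm ▸ (hP _ hxP).1)))

theorem card_T_type (hT : D.Torus T E Y) :
    Nat.card {g : G // 3 ≤ orderOf g ∧ orderOf g ∣ (q + 1) / 2} =
      (normalizer (T : Set G)).index * (q - 3) := by
  obtain ⟨hq27, -, -⟩ := D.q_facts
  rw [D.card_T_type_of hT (P := fun n => 3 ≤ n ∧ n ∣ (q + 1) / 2) fun n h => h]
  congr 1
  have h1 := card_subtype_split (fun x : T => 3 ≤ orderOf (x : G))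
  have h2 : Nat.card {x : T // 3 ≤ orderOf (x : G) ∧ orderOf (x : G) ∣ (q + 1) / 2} =
      Nat.card {x : T // 3 ≤ orderOf (x : G)} :=
    Nat.card_congr (Equiv.subtypeEquivRight fun x =>
      ⟨fun h => h.1, fun h => ⟨h, D.orderOf_dvd_torus hT x.2⟩⟩)
  have h3 : Nat.card {x : T // ¬ 3 ≤ orderOf (x : G)} = 4 := by
    rw [← hT.card_E]
    refine Nat.card_eq_of_bijective (fun x => ⟨((x.1 : T) : G), (hT.mem_E _).2 ⟨x.1.2, ?_⟩⟩) ⟨?_, ?_⟩
    · have hx : orderOf ((x.1 : T) : G) ∣ 2 := by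
        have h0 := x.2
        have := orderOf_pos ((x.1 : T) : G)
        interval_cases orderOf ((x.1 : T) : G) <;> norm_num
      rw [← pow_two]
      exact orderOf_dvd_iff_pow_eq_one.1 hx
    · intro x y h
      exact Subtype.ext (Subtype.ext (congrArg (fun z : E => (z : G)) h))
    · rintro ⟨x, hx⟩
      obtain ⟨hxT, hx2⟩ := (hT.mem_E x).1 hx
      exact ⟨⟨⟨x, hxT⟩, fun h => sq_ne_one D h hx2⟩, rfl⟩
  rw [hT.card, h3] at h1
  omega

/-- The subgroups `C(z)`, `z` of prime order dividing `q² - q + 1`. -/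
def IsReg (_ : Data G L q) (A : Subgroup G) : Prop :=
  ∃ p z, p.Prime ∧ p ∣ q ^ 2 - q + 1 ∧ orderOf z = p ∧ A = centralizer ({z} : Set G)

/-- A `Reg` subgroup is determined, up to conjugation, by any prime divisor of its order. -/
theorem reg_prime {A : Subgroup G} (hA : D.IsReg A) {p : ℕ} (hp : p.Prime) (hpA : p ∣ Nat.card A) :
    p ∣ q ^ 2 - q + 1 ∧ ∃ z ∈ A, orderOf z = p ∧ centralizer ({z} : Set G) = A := by
  haveI := Fact.mk hp
  obtain ⟨r, y, hr, hrQ, hy, rfl⟩ := hA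
  obtain ⟨-, hcard, hcent, -⟩ := D.regular hr hrQ hy
  obtain ⟨z, hz⟩ := exists_prime_orderOf_dvd_card' (G := centralizer ({y} : Set G)) p hpA
  refine ⟨hpA.trans hcard, z, z.2, (orderOf_coe z).trans hz, hcent _ z.2 fun h => ?_⟩
  rw [← orderOf_coe, h, orderOf_one] at hz
  exact hp.one_lt.ne hz

theorem reg_basic {A : Subgroup G} (hA : D.IsReg A) :
    IsCyclic A ∧ Nat.card A ∣ q ^ 2 - q + 1 ∧ 5 ≤ Nat.card A ∧
      (∀ x ∈ A, x ≠ 1 → centralizer ({x} : Set G) = A) := by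
  obtain ⟨r, y, hr, hrQ, hy, rfl⟩ := hA
  obtain ⟨hc, hcard, hcent, -⟩ := D.regular hr hrQ hy
  refine ⟨hc, hcard, ?_, hcent⟩
  have h := Nat.le_of_dvd Nat.card_pos (hy ▸ orderOf_dvd_natCard _
    (mem_centralizer_singleton_iff.2 rfl : y ∈ centralizer ({y} : Set G)))
  obtain ⟨-, -, -, n2, n3⟩ := D.not_dvd_of_dvd_Q hr hrQ
  have h4 : r ≠ 4 := fun e => by rw [e] at hr; norm_num at hr
  have := hr.two_le
  omega

theorem exists_conj_reg {A : Subgroup G} (hA : D.IsReg A) {g : G} {p : ℕ} (hp : p.Prime)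
    (hpA : p ∣ Nat.card A) (hpg : p ∣ orderOf g) : ∃ h : G, h * g * h⁻¹ ∈ A := by
  obtain ⟨hpQ, z, hzA, hz, hCz⟩ := D.reg_prime hA hp hpA
  obtain ⟨h, -, hh⟩ := D.regular_conj hp hpQ hz (orderOf_pow_orderOf_div (orderOf_pos g).ne' hpg)
  refine ⟨h, ?_⟩
  rw [← hCz, ← hh]
  exact mem_centralizer_singleton_iff.2 ((Commute.self_pow g _).map (MulAut.conj h).toMonoidHom).eq

theorem reg_conj {A B : Subgroup G} (hA : D.IsReg A) (hB : D.IsReg B) {p : ℕ} (hp : p.Prime)
    (hpA : p ∣ Nat.card A) (hpB : p ∣ Nat.card B) :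
    ∃ h : G, B.map (MulAut.conj h).toMonoidHom = A := by
  obtain ⟨hpQ, z, hzA, hz, hCz⟩ := D.reg_prime hA hp hpA
  obtain ⟨-, y, hyB, hy, hCy⟩ := D.reg_prime hB hp hpB
  obtain ⟨h, -, hh⟩ := D.regular_conj hp hpQ hz hy
  exact ⟨h, by rw [← hCy, ← centralizer_conj, hh, hCz]⟩

theorem card_reg_type_of {A : Subgroup G} (hA : D.IsReg A) {P : ℕ → Prop}
    (hP : ∀ n, P n → n ≠ 1 ∧ n ∣ Nat.card A) :
    Nat.card {g : G // P (orderOf g)} =
      (normalizer (A : Set G)).index * Nat.card {x : A // P (orderOf (x : G))} := by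
  refine card_family A P (fun g hg => ?_) fun x hx hxP h hh => ?_
  · obtain ⟨h1, h2⟩ := hP _ hg
    obtain ⟨p, hp, hpg⟩ := Nat.exists_prime_and_dvd h1
    exact D.exists_conj_reg hA hp (hpg.trans h2) hpg
  · have h1 : x ≠ 1 := fun e => (hP _ hxP).1 (e ▸ orderOf_one)
    exact mem_normalizer_of_centralizer ((D.reg_basic hA).2.2.2 _ hx h1)
      ((D.reg_basic hA).2.2.2 _ hh fun e => h1 (conj_eq_one_iff.1 e))

theorem card_reg_type {A : Subgroup G} (hA : D.IsReg A) :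
    Nat.card {g : G // orderOf g ≠ 1 ∧ orderOf g ∣ Nat.card A} =
      (normalizer (A : Set G)).index * (Nat.card A - 1) := by
  rw [D.card_reg_type_of hA (P := fun n => n ≠ 1 ∧ n ∣ Nat.card A) fun n h => h]
  congr 1
  have h1 := card_subtype_split (fun x : A => x = 1)
  have h2 : Nat.card {x : A // x = 1} = 1 := by simp
  have h3 : Nat.card {x : A // orderOf (x : G) ≠ 1 ∧ orderOf (x : G) ∣ Nat.card A} =
      Nat.card {x : A // ¬ x = 1} :=
    Nat.card_congr (Equiv.subtypeEquivRight fun x =>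
      ⟨fun h e => h.1 (by rw [e]; simp), fun h => ⟨fun e => h (Subtype.ext (orderOf_eq_one_iff.1 e)),
        orderOf_dvd_natCard _ x.2⟩⟩)
  omega

theorem exists_reg_of_prime {p : ℕ} (hp : p.Prime) (hpQ : p ∣ q ^ 2 - q + 1) :
    ∃ A, D.IsReg A ∧ ∀ k, p ^ k ∣ q ^ 2 - q + 1 → p ^ k ∣ Nat.card A := by
  haveI := Fact.mk hp
  have hG : q ^ 2 - q + 1 ∣ Nat.card G := by
    rw [D.card_eq]
    exact (dvd_mul_left _ _).mul_left _
  obtain ⟨z, hz⟩ := exists_prime_orderOf_dvd_card' (G := G) p (hpQ.trans hG)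
  refine ⟨_, ⟨p, z, hp, hpQ, hz, rfl⟩, fun k hk => ?_⟩
  exact (hp.pow_dvd_iff_le_factorization Nat.card_pos.ne').2
    (le_trans ((hp.pow_dvd_iff_le_factorization Nat.card_pos.ne').1 (hk.trans hG))
      (D.regular hp hpQ hz).2.2.2)

/-- The number of elements of order `> 1` dividing `q² - q + 1`. -/
theorem card_reg_total :
    6 * Nat.card {g : G // orderOf g ≠ 1 ∧ orderOf g ∣ q ^ 2 - q + 1} + q ^ 3 * ((q - 1) * (q + 1)) * (2 * (q + 1)) =
      q ^ 3 * ((q - 1) * (q + 1)) * (2 * (q ^ 2 - q + 1)) := by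
  classical
  haveI := Fintype.ofFinite G
  obtain ⟨T, E, Y, hT⟩ := D.exists_torus
  obtain ⟨hq27, hq8, hq3⟩ := D.q_facts
  have hc : ∀ S : G → Prop, Nat.card {g // S g} = ∑ g : G, if S g then 1 else 0 := fun S => by
    rw [Nat.card_eq_fintype_card, Fintype.card_subtype, Finset.card_filter]
  have hpart : Nat.card {g : G // orderOf g = 1} + Nat.card {g : G // orderOf g = 2} +
      Nat.card {g : G // orderOf g = 3} + Nat.card {g : G // orderOf g = 6} +
      Nat.card {g : G // orderOf g = 9} + Nat.card {g : G // 3 ≤ orderOf g ∧ orderOf g ∣ q - 1} +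
      Nat.card {g : G // 3 ≤ orderOf g ∧ orderOf g ∣ (q + 1) / 2} +
      Nat.card {g : G // orderOf g ≠ 1 ∧ orderOf g ∣ q ^ 2 - q + 1} = Nat.card G := by
    simp only [hc, ← Finset.sum_add_distrib]
    rw [Nat.card_eq_fintype_card, ← Finset.card_univ, Finset.card_eq_sum_ones]
    refine Finset.sum_congr rfl fun g _ => ?_
    obtain ⟨n1, n2⟩ := D.not_three_dvd
    rcases D.classify g with h | h | h | h | h | ⟨h3, hd, -⟩ | ⟨h3, hd⟩ | ⟨h1, p, z, hp, hpQ, hz, hg⟩
    · simp [h]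
    · have hn : ¬ 2 ∣ q ^ 2 - q + 1 := fun e => ((D.exclusive (n := 2) (by norm_num)).2 e).2.2.1 rfl
      simp [h, hn]
    · have hn : ¬ 3 ∣ q ^ 2 - q + 1 := fun e => ((D.exclusive (n := 3) (by norm_num)).2 e).2.2.2.1 rfl
      simp [h, hn, n1, n2]
    · have hn : ¬ 6 ∣ q ^ 2 - q + 1 := fun e => ((D.exclusive (n := 6) (by norm_num)).2 e).2.2.2.2.1 rfl
      have m1 : ¬ 6 ∣ q - 1 := fun e => n1 (dvd_trans (by norm_num) e)
      have m2 : ¬ 6 ∣ (q + 1) / 2 := fun e => n2 (dvd_trans (by norm_num) e)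
      simp [h, hn, m1, m2]
    · have hn : ¬ 9 ∣ q ^ 2 - q + 1 := fun e => ((D.exclusive (n := 9) (by norm_num)).2 e).2.2.2.2.2 rfl
      have m1 : ¬ 9 ∣ q - 1 := fun e => n1 (dvd_trans (by norm_num) e)
      have m2 : ¬ 9 ∣ (q + 1) / 2 := fun e => n2 (dvd_trans (by norm_num) e)
      simp [h, hn, m1, m2]
    · have e0 : orderOf g ≠ 1 := by omega
      have e1 := (D.exclusive e0).1 h3 hd
      have e2 : ¬ orderOf g ∣ q ^ 2 - q + 1 := fun e => ((D.exclusive e0).2 e).1 hd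
      have e3 : orderOf g ≠ 3 := fun e => n1 (e ▸ hd)
      have e6 : orderOf g ≠ 6 := fun e => n1 (dvd_trans (by norm_num) (e ▸ hd))
      have e9 : orderOf g ≠ 9 := fun e => n1 (dvd_trans (by norm_num) (e ▸ hd))
      have e4 : orderOf g ≠ 2 := by omega
      simp [e0, e1, e2, e3, e4, e6, e9, h3, hd]
    · have e0 : orderOf g ≠ 1 := by omega
      have e1 : ¬ orderOf g ∣ q - 1 := fun e => (D.exclusive e0).1 h3 e hd
      have e2 : ¬ orderOf g ∣ q ^ 2 - q + 1 := fun e => ((D.exclusive e0).2 e).2.1 hd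
      have e3 : orderOf g ≠ 3 := fun e => n2 (e ▸ hd)
      have e6 : orderOf g ≠ 6 := fun e => n2 (dvd_trans (by norm_num) (e ▸ hd))
      have e9 : orderOf g ≠ 9 := fun e => n2 (dvd_trans (by norm_num) (e ▸ hd))
      have e4 : orderOf g ≠ 2 := by omega
      simp [e0, e1, e2, e3, e4, e6, e9, h3, hd]
    · have hd := (orderOf_dvd_natCard _ hg).trans (D.regular hp hpQ hz).2.1
      obtain ⟨e1, e2, e4, e3, e6, e9⟩ := (D.exclusive h1).2 hd
      simp [h1, e1, e2, e3, e4, e6, e9, hd]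
  have c1 : Nat.card {g : G // orderOf g = 1} = 1 := by
    rw [Nat.card_congr (Equiv.subtypeEquivRight fun g => orderOf_eq_one_iff)]
    simp
  rw [c1, D.card_involutions, D.card_order_three, D.card_order_six, D.card_order_nine, D.card_H_type,
    D.card_T_type hT, D.card_eq] at hpart
  have hH := (normalizer (D.H : Set G)).card_mul_index
  rw [D.card_normalizer_H, D.card_eq] at hH
  have hTi := (normalizer (T : Set G)).card_mul_index
  rw [hT.card_N, D.card_eq] at hTi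
  generalize (normalizer (D.H : Set G)).index = iH at hpart hH
  generalize (normalizer (T : Set G)).index = iT at hpart hTi
  generalize Nat.card {g : G // orderOf g ≠ 1 ∧ orderOf g ∣ q ^ 2 - q + 1} = R at hpart ⊢
  have l1 : q ≤ q ^ 2 := Nat.le_self_pow (by norm_num) q
  have l2 : q ^ 2 ≤ q ^ 3 := Nat.pow_le_pow_right (by omega) (by norm_num)
  zify [l1, l2, (by omega : 1 ≤ q), (by omega : 3 ≤ q), (by omega : 1 ≤ q ^ 2)] at hpart hH hTi ⊢
  have hH' : 2 * (iH : ℤ) = (q : ℤ) ^ 3 * ((q + 1) * ((q : ℤ) ^ 2 - q + 1)) := by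
    refine mul_left_cancel₀ (show ((q : ℤ) - 1) ≠ 0 by omega) ?_
    linear_combination hH
  have hT' : 6 * (iT : ℤ) = (q : ℤ) ^ 3 * (((q : ℤ) - 1) * ((q : ℤ) ^ 2 - q + 1)) := by
    refine mul_left_cancel₀ (show ((q : ℤ) + 1) ≠ 0 by omega) ?_
    linear_combination hTi
  linear_combination 6 * hpart - 3 * ((q : ℤ) - 3) * hH' - ((q : ℤ) - 3) * hT'

/-- There are exactly two classes, of orders `q - r + 1` and `q + r + 1`, with `|N(A) : A| = 6`. -/
theorem exists_regular {r : ℕ} (hr : r * r = 3 * q) :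
    (∃ A, D.IsReg A ∧ Nat.card A = q - r + 1) ∧ (∃ A, D.IsReg A ∧ Nat.card A = q + r + 1) ∧
    ∀ A, D.IsReg A → (Nat.card A = q - r + 1 ∨ Nat.card A = q + r + 1) ∧
      Nat.card (normalizer (A : Set G)) = 6 * Nat.card A := by
  classical
  obtain ⟨hq27, hq8, hq3⟩ := D.q_facts
  set Q := q ^ 2 - q + 1 with hQdef
  have hQ0 : Q ≠ 0 := by omega
  have hQZ : (Q : ℤ) = (q : ℤ) ^ 2 - q + 1 := by
    have : q ≤ q ^ 2 := Nat.le_self_pow (by norm_num) q
    rw [hQdef]; push_cast [this]; ring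
  set Ω := Q.divisors.filter (fun n => ∃ A, D.IsReg A ∧ Nat.card A = n) with hΩdef
  have hmemΩ : ∀ A, D.IsReg A → Nat.card A ∈ Ω := fun A hA => by
    rw [hΩdef, Finset.mem_filter, Nat.mem_divisors]
    exact ⟨⟨(D.reg_basic hA).2.1, hQ0⟩, A, hA, rfl⟩
  have hΩ : ∀ n ∈ Ω, n ∣ Q ∧ 5 ≤ n ∧ ∃ A, D.IsReg A ∧ Nat.card A = n := by
    intro n hn
    rw [hΩdef, Finset.mem_filter, Nat.mem_divisors] at hn
    obtain ⟨⟨h1, -⟩, A, hA, rfl⟩ := hn
    exact ⟨h1, (D.reg_basic hA).2.2.1, A, hA, rfl⟩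
  have hcop : ∀ n ∈ Ω, ∀ m ∈ Ω, n ≠ m → n.Coprime m := by
    intro n hn m hm hne
    refine Nat.coprime_of_dvd fun p hp h1 h2 => hne ?_
    obtain ⟨-, -, A, hA, rfl⟩ := hΩ n hn
    obtain ⟨-, -, B, hB, rfl⟩ := hΩ m hm
    obtain ⟨h, hh⟩ := D.reg_conj hA hB hp h1 h2
    rw [← hh, card_map_of_injective (MulEquiv.injective _)]
  -- decomposition
  haveI := Fintype.ofFinite G
  have hsum : Nat.card {g : G // orderOf g ≠ 1 ∧ orderOf g ∣ Q} =
      ∑ n ∈ Ω, Nat.card {g : G // orderOf g ≠ 1 ∧ orderOf g ∣ n} := by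
    simp only [Nat.card_eq_fintype_card, Fintype.card_subtype, Finset.card_filter]
    rw [Finset.sum_comm]
    refine Finset.sum_congr rfl fun g _ => ?_
    by_cases hg : orderOf g ≠ 1 ∧ orderOf g ∣ Q
    · obtain ⟨h1, h2⟩ := hg
      obtain ⟨p, hp, hpg⟩ := Nat.exists_prime_and_dvd h1
      obtain ⟨A, hA, hpk⟩ := D.exists_reg_of_prime hp (hpg.trans h2)
      have hpA : p ∣ Nat.card A := by simpa using hpk 1 (by simpa using hpg.trans h2)
      obtain ⟨h, hh⟩ := D.exists_conj_reg hA hp hpA hpg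
      have hd : orderOf g ∣ Nat.card A := orderOf_conj h g ▸ orderOf_dvd_natCard _ hh
      rw [if_pos ⟨h1, h2⟩, Finset.sum_eq_single_of_mem _ (hmemΩ A hA), if_pos ⟨h1, hd⟩]
      intro m hm hne
      refine if_neg fun h' => hp.not_dvd_one ?_
      exact (Nat.dvd_gcd (hpg.trans h'.2) hpA).trans (dvd_of_eq (hcop m hm _ (hmemΩ A hA) hne))
    · rw [if_neg hg]
      symm
      refine Finset.sum_eq_zero fun m hm => if_neg fun h' => hg ⟨h'.1, h'.2.trans (hΩ m hm).1⟩
  have hX : 0 < q ^ 3 * ((q - 1) * (q + 1)) :=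
    Nat.mul_pos (by positivity) (Nat.mul_pos (by omega) (by omega))
  have hterm : ∀ n ∈ Ω, ∃ c, 1 ≤ c ∧ 6 * Nat.card {g : G // orderOf g ≠ 1 ∧ orderOf g ∣ n} =
        q ^ 3 * ((q - 1) * (q + 1)) * (c * (Q / n * (n - 1))) ∧
      ∀ A, D.IsReg A → Nat.card A = n → c * Nat.card (normalizer (A : Set G)) = 6 * n := by
    intro n hn
    obtain ⟨hnQ, hn5, A, hA, hAn⟩ := hΩ n hn
    obtain ⟨p, y, hp, hpQ, hy, hAy⟩ := id hA
    obtain ⟨e, he, hN⟩ := (D.regular_normalizer hp hpQ hy).1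
    rw [← hAy, hAn] at hN
    obtain ⟨c, hc⟩ := he
    have hc0 : c ≠ 0 := by rintro rfl; simp at hc
    refine ⟨c, by omega, ?_, ?_⟩
    · rw [← hAn, D.card_reg_type hA, hAn]
      have hmul := (normalizer (A : Set G)).card_mul_index
      rw [hN, D.card_eq, ← hQdef] at hmul
      refine Nat.eq_of_mul_eq_mul_left (by omega : 0 < n) ?_
      calc n * (6 * ((normalizer (A : Set G)).index * (n - 1)))
          = c * (n - 1) * (e * n * (normalizer (A : Set G)).index) := by rw [hc]; ring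
        _ = c * (n - 1) * (q ^ 3 * ((q - 1) * (q + 1) * Q)) := by rw [hmul]
        _ = c * (n - 1) * (q ^ 3 * ((q - 1) * (q + 1) * (n * (Q / n)))) := by rw [Nat.mul_div_cancel' hnQ]
        _ = _ := by ring
    · intro B hB hBn
      obtain ⟨r', hr', hrB⟩ := Nat.exists_prime_and_dvd (show n ≠ 1 by omega)
      obtain ⟨h, hh⟩ := D.reg_conj hA hB hr' (hAn ▸ hrB) (hBn ▸ hrB)
      have : Nat.card (normalizer (B : Set G)) = Nat.card (normalizer (A : Set G)) := by
        rw [← hh, ← map_equiv_normalizer_eq, card_map_of_injective (MulEquiv.injective _)]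
      rw [this, hN, hc]; ring
  choose! c hc1 hc2 hc3 using hterm
  have htot := D.card_reg_total
  rw [← hQdef, hsum, Finset.mul_sum, Finset.sum_congr rfl hc2, ← Finset.mul_sum, ← mul_add] at htot
  have hEq := Nat.eq_of_mul_eq_mul_left hX htot
  have h4 : ∀ n ∈ Ω, 4 * Q * c n ≤ 5 * (c n * (Q / n * (n - 1))) := by
    intro n hn
    obtain ⟨hnQ, hn5, -⟩ := hΩ n hn
    obtain ⟨d, hd⟩ := hnQ
    rw [hd, Nat.mul_div_cancel_left _ (by omega : 0 < n)]
    calc 4 * (n * d) * c n = c n * d * (4 * n) := by ring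
      _ ≤ c n * d * (5 * (n - 1)) := Nat.mul_le_mul_left _ (by omega)
      _ = _ := by ring
  have hsumle : 4 * Q * ∑ n ∈ Ω, c n < 4 * Q * 3 := by
    rw [Finset.mul_sum]
    refine lt_of_le_of_lt (Finset.sum_le_sum h4) ?_
    rw [← Finset.mul_sum]
    omega
  have hC : ∑ n ∈ Ω, c n < 3 := Nat.lt_of_mul_lt_mul_left hsumle
  have hcard : Ω.card ≤ ∑ n ∈ Ω, c n := by
    rw [Finset.card_eq_sum_ones]; exact Finset.sum_le_sum hc1
  have hdvd : ∀ S : ℕ, (∀ n ∈ Ω, n ∣ S) → Q ∣ S := by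
    intro S hS
    refine (Nat.dvd_iff_prime_pow_dvd_dvd S Q).2 fun p k hp hpk => ?_
    rcases Nat.eq_zero_or_pos k with rfl | hk
    · simp
    obtain ⟨A, hA, hpA⟩ := D.exists_reg_of_prime hp ((dvd_pow_self p hk.ne').trans hpk)
    exact (hpA k hpk).trans (hS _ (hmemΩ A hA))
  have hQbig : 2 * (q + 1) < Q := by
    have : (2 * ((q : ℤ) + 1)) < Q := by rw [hQZ]; nlinarith
    exact_mod_cast this
  obtain ⟨n, m, hnm, hΩeq⟩ : ∃ n m, n ≠ m ∧ Ω = {n, m} := by
    rcases Nat.lt_or_ge Ω.card 2 with h | h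
    · exfalso
      interval_cases h' : Ω.card
      · rw [Finset.card_eq_zero.1 h', Finset.sum_empty] at hEq
        omega
      · obtain ⟨n, hn⟩ := Finset.card_eq_one.1 h'
        rw [hn, Finset.sum_singleton] at hEq hC
        have hnQ : n = Q := Nat.dvd_antisymm (hΩ n (by simp [hn])).1 (hdvd n (by simp [hn]))
        subst hnQ
        rw [Nat.div_self (by omega), one_mul] at hEq
        have := hc1 Q (by simp [hn])
        interval_cases c Q <;> omega
    · exact Finset.card_eq_two.1 (by omega)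
  have hnmem : n ∈ Ω := by simp [hΩeq]
  have hmmem : m ∈ Ω := by simp [hΩeq]
  have hprod : n * m = Q := Nat.dvd_antisymm
    ((hcop n hnmem m hmmem hnm).mul_dvd_of_dvd_of_dvd (hΩ n hnmem).1 (hΩ m hmmem).1)
    (hdvd _ fun k hk => by
      rw [hΩeq, Finset.mem_insert, Finset.mem_singleton] at hk
      rcases hk with rfl | rfl
      exacts [dvd_mul_right _ _, dvd_mul_left _ _])
  obtain ⟨hcn, hcm⟩ : c n = 1 ∧ c m = 1 := by
    rw [hΩeq, Finset.sum_pair hnm] at hC
    have := hc1 n hnmem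
    have := hc1 m hmmem
    omega
  obtain ⟨-, hn5, -⟩ := hΩ n hnmem
  obtain ⟨-, hm5, -⟩ := hΩ m hmmem
  rw [hΩeq, Finset.sum_pair hnm, hcn, hcm, one_mul, one_mul, ← hprod,
    Nat.mul_div_cancel_left _ (by omega : 0 < n), Nat.mul_div_cancel _ (by omega : 0 < m)] at hEq
  zify [(by omega : 1 ≤ n), (by omega : 1 ≤ m)] at hEq
  have hsum2 : (n : ℤ) + m = 2 * (q + 1) := by linarith
  have hprod' : (n : ℤ) * m = (q : ℤ) ^ 2 - q + 1 := by rw [← hQZ, ← hprod]; push_cast; ring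
  have hrz : (r : ℤ) * r = 3 * q := by exact_mod_cast hr
  have hrq : r ≤ q := by nlinarith
  have hsol : (n = q - r + 1 ∧ m = q + r + 1) ∨ (n = q + r + 1 ∧ m = q - r + 1) := by
    have hz : ((n : ℤ) - (q + 1 - r)) * ((n : ℤ) - (q + 1 + r)) = 0 := by
      linear_combination (n : ℤ) * hsum2 - hprod' - hrz
    rcases mul_eq_zero.1 hz with h | h
    · left; omega
    · right; omega
  have hall : ∀ A, D.IsReg A → (Nat.card A = n ∨ Nat.card A = m) := fun A hA => by
    have := hmemΩ A hA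
    rw [hΩeq, Finset.mem_insert, Finset.mem_singleton] at this
    exact this
  refine ⟨?_, ?_, fun A hA => ⟨?_, ?_⟩⟩
  · rcases hsol with ⟨e, -⟩ | ⟨-, e⟩
    exacts [e ▸ (hΩ n hnmem).2.2, e ▸ (hΩ m hmmem).2.2]
  · rcases hsol with ⟨-, e⟩ | ⟨e, -⟩
    exacts [e ▸ (hΩ m hmmem).2.2, e ▸ (hΩ n hnmem).2.2]
  · have := hall A hA
    omega
  · have h := hc3 _ (hmemΩ A hA) A hA rfl
    rcases hall A hA with e | e <;> rw [e] at h ⊢
    · rwa [hcn, one_mul] at h
    · rwa [hcm, one_mul] at h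

end Data

end Cfsg.Agent.ReeTori
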