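/-
The centraliser of the involution `h(-1)` in the small Ree group.

* `sl2Diag` : `SL₂(q) → ²G₂(q)` on the orthogonal roots `a + b`, `3a + b`
* `centralizer_torInv` : `C(h(-1)) ≅ 2 × PSL₂(q)`
-/
import Cfsg.Agent.Lib.Twisted.G2More
import Cfsg.Agent.Lib.Chev.SL2Hom
import Cfsg.Agent.Lib.PSL2.Soluble
import Cfsg.Agent.Lib.PSL2.Conjugacy
import Cfsg.Agent.Lib.PSL2.Existence

set_option autoImplicit false
set_option linter.unusedSectionVars false

namespace Cfsg.Agent.ReeTori

open Cfsg.Lie Matrix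
open Cfsg.Lie.ChevalleyDatum
open Cfsg.Agent.Chev Cfsg.Agent.ChevBN Cfsg.Agent.Twisted
open Cfsg.Agent.Chev.RankOne Cfsg.Agent.PSL2
open scoped MatrixGroups

local notation "hG" => good_chevG2

variable {K : Type*} [Field K] [Fintype K] [CharP K 3] {m : ℕ}

theorem root_lt (r : ℕ) (hr : r ≤ 11 := by norm_num) : r < chevG2.nroots :=
  lt_of_le_of_lt hr (by decide)

/-- A homomorphism of `SL₂` takes values in a subgroup containing the two unipotent families. -/
theorem sl2_mem {F : Type*} [Field F] {Γ : Type*} [Group Γ] (f : SL(2, F) →* Γ) (S : Subgroup Γ)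
    (hx : ∀ t, f (slX t) ∈ S) (hy : ∀ t, f (slY t) ∈ S) (g : SL(2, F)) : f g ∈ S := by
  have hne : ∀ g : SL(2, F), g.1 1 0 ≠ 0 → f g ∈ S := fun g hc => by
    rw [eq_xyx g hc, map_mul, map_mul]; exact mul_mem (mul_mem (hx _) (hy _)) (hx _)
  by_cases hc : g.1 1 0 = 0
  · have h1 : (g * slY 1).1 1 0 ≠ 0 := by
      rw [mul_slY_c g hc]; exact (ne_zero_of_c g hc).2
    have := hne _ h1
    rw [map_mul] at this
    exact (Subgroup.mul_mem_cancel_right _ (hy 1)).1 this
  · exact hne g hc

variable (K) in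
/-- `SL₂` on the short root `a + b`, twisted by `θ`. -/
noncomputable def shortHom (m : ℕ) : SL(2, K) →* GL chevG2.Idx K :=
  (sl2Hom (F := K) hG (root_lt 8)).comp (Matrix.SpecialLinearGroup.map (iterateFrobenius K 3 m))

variable (K) in
/-- `SL₂` on the long root `3a + b`. -/
noncomputable def longHom : SL(2, K) →* GL chevG2.Idx K := sl2Hom (F := K) hG (root_lt 10)

theorem shortHom_slX (u : K) : shortHom K m (slX u) = xG K 8 (u ^ 3 ^ m) := by
  have e : Matrix.SpecialLinearGroup.map (iterateFrobenius K 3 m) (slX u) = slX (u ^ 3 ^ m) := by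
    apply Subtype.ext
    show (iterateFrobenius K 3 m).mapMatrix (slX u).1 = (slX (u ^ 3 ^ m)).1
    ext i j
    fin_cases i <;> fin_cases j <;> simp [slX, iterateFrobenius_def]
  rw [shortHom, MonoidHom.comp_apply, e, sl2Hom_slX]

theorem shortHom_slY (u : K) : shortHom K m (slY u) = xG K 3 (u ^ 3 ^ m) := by
  have e : Matrix.SpecialLinearGroup.map (iterateFrobenius K 3 m) (slY u) = slY (u ^ 3 ^ m) := by
    apply Subtype.ext
    show (iterateFrobenius K 3 m).mapMatrix (slY u).1 = (slY (u ^ 3 ^ m)).1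
    ext i j
    fin_cases i <;> fin_cases j <;> simp [slY, iterateFrobenius_def]
  rw [shortHom, MonoidHom.comp_apply, e, sl2Hom_slY, show chevG2.neg 8 = 3 by decide]

theorem longHom_slX (u : K) : longHom K (slX u) = xG K 10 u := sl2Hom_slX _ _ u

theorem longHom_slY (u : K) : longHom K (slY u) = xG K 1 u := by
  rw [longHom, sl2Hom_slY, show chevG2.neg 10 = 1 by decide]

theorem roots_comm {r s : ℕ} (hr : r = 8 ∨ r = 3) (hs : s = 10 ∨ s = 1) (t u : K) :
    Commute (xG K r t) (xG K s u) := by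
  rcases hr with rfl | rfl <;> rcases hs with rfl | rfl
  · exact (comm_free hG K (by norm_num) (by norm_num) (by norm_num) (by decide) (by decide +kernel) t u).symm
  · exact (comm_free hG K (by norm_num) (by norm_num) (by norm_num) (by decide) (by decide +kernel) t u).symm
  · exact (comm_free hG K (by norm_num) (by norm_num) (by norm_num) (by decide) (by decide +kernel) t u).symm
  · exact (comm_free hG K (by norm_num) (by norm_num) (by norm_num) (by decide) (by decide +kernel) t u).symm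

theorem short_long_comm (g h : SL(2, K)) : Commute (shortHom K m g) (longHom K h) := by
  have h1 : ∀ (r : ℕ) (t : K), r = 8 ∨ r = 3 → longHom K h ∈ Subgroup.centralizer {xG K r t} := fun r t hr =>
    sl2_mem (longHom K) _
      (fun u => Subgroup.mem_centralizer_singleton_iff.2 (by
        rw [longHom_slX]; exact (roots_comm hr (Or.inl rfl) t u).eq.symm))
      (fun u => Subgroup.mem_centralizer_singleton_iff.2 (by
        rw [longHom_slY]; exact (roots_comm hr (Or.inr rfl) t u).eq.symm)) h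
  exact Subgroup.mem_centralizer_singleton_iff.1 (sl2_mem (shortHom K m) (Subgroup.centralizer {longHom K h})
    (fun u => Subgroup.mem_centralizer_singleton_iff.2 (by
      rw [shortHom_slX]; exact (Subgroup.mem_centralizer_singleton_iff.1 (h1 8 _ (Or.inl rfl))).symm))
    (fun u => Subgroup.mem_centralizer_singleton_iff.2 (by
      rw [shortHom_slY]; exact (Subgroup.mem_centralizer_singleton_iff.1 (h1 3 _ (Or.inr rfl))).symm)) g)

variable (K) in
/-- The twisted diagonal `SL₂`. -/
noncomputable def sl2Diag (m : ℕ) : SL(2, K) →* GL chevG2.Idx K :=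
  MonoidHom.mk' (fun g => shortHom K m g * longHom K g) fun g h => by
    rw [map_mul, map_mul, mul_assoc (shortHom K m g), ← mul_assoc (shortHom K m h),
      (short_long_comm (m := m) h g).eq]
    simp only [mul_assoc]

theorem sl2Diag_slX (u : K) : sl2Diag K m (slX u) = reeG m 0 u 0 := by
  show shortHom K m (slX u) * longHom K (slX u) = _
  have e : (3 : ℕ) ^ m ≠ 0 := pow_ne_zero _ (by norm_num)
  rw [shortHom_slX, longHom_slX]
  simp [reeG, ree6, uel, xg_zero, zero_pow e]

theorem sl2Diag_slY (u : K) : sl2Diag K m (slY u) = nu hG K (reeG m 0 (-u) 0) := by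
  show shortHom K m (slY u) * longHom K (slY u) = _
  have e : (3 : ℕ) ^ m ≠ 0 := pow_ne_zero _ (by norm_num)
  have ho : Odd (3 ^ m) := Odd.pow (by decide)
  rw [shortHom_slY, longHom_slY, ← sl2Diag_slX]
  show _ = nu hG K (shortHom K m (slX (-u)) * longHom K (slX (-u)))
  rw [shortHom_slX, longHom_slX, map_mul, nu_xg hG K nuG2 (root_lt 8), nu_xg hG K nuG2 (root_lt 10),
    show chevG2.neg 8 = 3 by decide, show chevG2.neg 10 = 1 by decide, ho.neg_pow, neg_neg, neg_neg]

variable (hK : Fintype.card K = 3 ^ (2 * m + 1))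
include hK

theorem sl2Diag_mem (g : SL(2, K)) : sl2Diag K m g ∈ (foldK K m).fix := by
  refine sl2_mem _ _ (fun u => ?_) (fun u => ?_) g
  · rw [sl2Diag_slX]; exact (ree_mem_U1 hK 0 u 0).2
  · rw [sl2Diag_slY]
    exact nu_fix hG K halfG2_ok foldG2 m rootsG2 nuG2 (ree_mem_U1 hK 0 (-u) 0).2

omit hK in
theorem tor_neg_one : tor (K := K) m (-1) = T2 K (-1) (-1) := by
  have ho : Odd (3 ^ m) := Odd.pow (by decide)
  rw [tor, (odd_two_mul_add_one _).neg_one_pow, (((by decide : Odd 3).mul ho).add_even (by decide)).neg_one_pow]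

omit hK in
theorem sl2Diag_comm (g : SL(2, K)) : Commute (tor (K := K) m (-1)) (sl2Diag K m g) := by
  have hchi : ∀ r, r = 8 ∨ r = 10 ∨ r = 3 ∨ r = 1 → chi2 K (-1) (-1) r = 1 := by
    intro r hr
    have h : Even (chevG2.cartan 0 r + chevG2.cartan 1 r) := by
      rcases hr with rfl | rfl | rfl | rfl <;> decide +kernel
    rw [chi2, ← _root_.zpow_add, h.neg_one_zpow]
  have hroot : ∀ r (t : K), r = 8 ∨ r = 10 ∨ r = 3 ∨ r = 1 → xG K r t ∈ Subgroup.centralizer {tor (K := K) m (-1)} := by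
    intro r t hr
    have h := T2_conj (-1 : Kˣ) (-1) (s := r) t
    rw [hchi r hr, Units.val_one, one_mul, mul_inv_eq_iff_eq_mul] at h
    exact Subgroup.mem_centralizer_singleton_iff.2 (by rw [tor_neg_one]; exact h.symm)
  exact (Subgroup.mem_centralizer_singleton_iff.1 (sl2_mem (sl2Diag K m) (Subgroup.centralizer {tor (K := K) m (-1)})
    (fun u => by
      show shortHom K m (slX u) * longHom K (slX u) ∈ _
      rw [shortHom_slX, longHom_slX]
      exact mul_mem (hroot 8 _ (by simp)) (hroot 10 _ (by simp)))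
    (fun u => by
      show shortHom K m (slY u) * longHom K (slY u) ∈ _
      rw [shortHom_slY, longHom_slY]
      exact mul_mem (hroot 3 _ (by simp)) (hroot 1 _ (by simp))) g)).symm

omit hK in
theorem sl2Diag_neg_one : sl2Diag K m (-1) = 1 := by
  show shortHom K m (-1) * longHom K (-1) = 1
  have ho : Odd (3 ^ m) := Odd.pow (by decide)
  have hmap : Matrix.SpecialLinearGroup.map (iterateFrobenius K 3 m) (-1 : SL(2, K)) = -1 := by
    apply Subtype.ext
    ext i j
    fin_cases i <;> fin_cases j <;> simp [iterateFrobenius_def, ho.neg_one_pow]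
  have hphi : ∀ (r : ℕ) (hr : r < chevG2.nroots), sl2Hom (F := K) hG hr (-1) = hg hG K r (-1) := by
    intro r hr
    simp [sl2Hom, phi, phiE, xg_zero]
  rw [shortHom, MonoidHom.comp_apply, hmap, longHom, hphi, hphi]
  refine Units.ext ?_
  rw [Units.val_mul, coe_hg, coe_hg, hMat_eq_diag hG (root_lt 8) (by simp : (-1 : K) ≠ 0),
    hMat_eq_diag hG (root_lt 10) (by simp : (-1 : K) ≠ 0), dg, dg, Matrix.diagonal_mul_diagonal,
    Units.val_one, ← Matrix.diagonal_one]
  congr 1
  funext a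
  rcases a with i | s
  · simp
  · have h : ∀ s : Fin chevG2.nroots, Even (chevG2.pairing 8 s.val + chevG2.pairing 10 s.val) := by decide +kernel
    simp only [Sum.elim_inr]
    rw [← Units.val_mul, ← _root_.zpow_add, show Units.mk0 (-1 : K) (by simp) = (-1 : Kˣ) from Units.ext rfl,
      (h s).neg_one_zpow, Units.val_one]

theorem card_centralizer_torInv_le :
    Nat.card ↥((foldK K m).fix ⊓ Subgroup.centralizer {tor (K := K) m (-1)}) ≤
      3 ^ (2 * m + 1) * (3 ^ (2 * m + 1) - 1) * (3 ^ (2 * m + 1) + 1) := by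
  classical
  obtain ⟨h₀, hh₀, hf, -⟩ := exists_m0 hK
  set n := h₀ * (rgdG2 K).nw w0G2 with hn
  set a := tor (K := K) m (-1) with ha
  have haH : a ∈ (foldK K m).H1 := (mem_H1_iff hK).2 ⟨-1, rfl⟩
  have ha2 : a * a = 1 := by rw [ha, ← tor_mul, show (-1 : Kˣ) * -1 = 1 by simp, tor_one]
  have han : a * n = n * a := by
    have h := inv_conj (h₀ := h₀) hh₀ haH.1
    rw [← hn, inv_eq_of_mul_eq_one_right ha2, mul_inv_eq_iff_eq_mul] at h
    exact h.symm
  have hcomm : ∀ x ∈ (foldK K m).H1, a * x = x * a := fun x hx => diag_commute hG haH.1 hx.1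
  have hU : ∀ u ∈ (foldK K m).U1, a * u * a⁻¹ = u → ∃ w : K, u = reeG m 0 w 0 := by
    intro u hu hc
    obtain ⟨t, w, v, rfl⟩ := (mem_U1_iff hK).1 hu
    rw [ha, tor_conj hK] at hc
    obtain ⟨h1, -, h3⟩ := ree_inj hc
    have ho : Odd (3 * 3 ^ m + 2) := ((by decide : Odd 3).mul (Odd.pow (by decide))).add_even (by decide)
    rw [Units.val_neg, Units.val_one] at h1 h3
    rw [ho.neg_one_pow] at h3
    have e : ∀ x : K, -1 * x = x → x = 0 := fun x hx => by linear_combination hx + x * three_eq_zero K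
    obtain rfl := e t h1
    obtain rfl := e v h3
    exact ⟨w, rfl⟩
  let f : (K × Kˣ) ⊕ ((K × Kˣ) × K) → GL chevG2.Idx K := Sum.elim
    (fun x => reeG m 0 x.1 0 * tor m x.2)
    (fun x => reeG m 0 x.1.1 0 * tor m x.1.2 * n * reeG m 0 x.2 0)
  have hsub : (((foldK K m).fix ⊓ Subgroup.centralizer {a} : Subgroup _) : Set _) ⊆ Set.range f := by
    intro g hg
    obtain ⟨hgf, hgc⟩ := Subgroup.mem_inf.1 hg
    rw [Subgroup.mem_centralizer_singleton_iff] at hgc
    have hga : a * g * a⁻¹ = g := by rw [← hgc, mul_inv_cancel_right]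
    have hconj : ∀ u ∈ (foldK K m).U1, a * u * a⁻¹ ∈ (rgdG2 K).Upos := fun u hu =>
      (rgdG2 K).H_conj_span _ haH.1 _ hu.1
    rcases (rankOneK (m := m)).form' hh₀ hf hgf with ⟨u, hu, h, hh, rfl⟩ | ⟨u, hu, h, hh, c, hc, rfl⟩
    · have e : a * u * a⁻¹ * h = u * h := by
        rw [show a * u * a⁻¹ * h = a * u * (a⁻¹ * h * a) * a⁻¹ by group,
          show a⁻¹ * h * a = h by rw [mul_assoc, ← hcomm h hh, inv_mul_cancel_left]]
        rw [mul_assoc a u h]
        exact hga
      obtain ⟨w, rfl⟩ := hU u hu (mul_right_cancel e)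
      obtain ⟨s, rfl⟩ := (mem_H1_iff hK).1 hh
      exact ⟨Sum.inl (w, s), rfl⟩
    · have e : a * u * a⁻¹ * (h * h₀ * (rgdG2 K).nw w0G2) * (a * c * a⁻¹) =
          u * (h * h₀ * (rgdG2 K).nw w0G2) * c := by
        have hx : a⁻¹ * (h * n) * a = h * n := by
          rw [mul_assoc a⁻¹, mul_assoc h n, ← han, ← mul_assoc h, ← hcomm h hh, mul_assoc a, inv_mul_cancel_left]
        calc a * u * a⁻¹ * (h * h₀ * (rgdG2 K).nw w0G2) * (a * c * a⁻¹)
            = a * u * (a⁻¹ * (h * n) * a) * c * a⁻¹ := by rw [hn]; group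
          _ = a * (u * (h * n) * c) * a⁻¹ := by rw [hx]; group
          _ = u * (h * n) * c := by rw [← mul_assoc u h n]; exact hga
          _ = _ := by rw [hn]; group
      obtain ⟨e1, -, e3⟩ := (rankOneK (m := m)).form_unique (hconj u hu) hu.1 (mul_mem hh.1 hh₀)
        (mul_mem hh.1 hh₀) (hconj c hc) hc.1 e
      obtain ⟨w, rfl⟩ := hU u hu e1
      obtain ⟨w', rfl⟩ := hU c hc e3
      obtain ⟨s, rfl⟩ := (mem_H1_iff hK).1 hh
      exact ⟨Sum.inr ((w, s), w'), rfl⟩
  calc Nat.card ↥((foldK K m).fix ⊓ Subgroup.centralizer {a}) ≤ Nat.card (Set.range f) :=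
        Nat.card_mono (Set.toFinite _) hsub
    _ ≤ Nat.card ((K × Kˣ) ⊕ ((K × Kˣ) × K)) := Finite.card_range_le f
    _ = _ := by
      rw [Nat.card_sum, Nat.card_prod, Nat.card_prod, Nat.card_prod, Nat.card_units,
        Nat.card_eq_fintype_card (α := K), hK]
      ring

/-- The preimages of torus elements centralising `φ(x(1))` are `±1`. -/
theorem eq_one_of_mem_H {g : SL(2, K)} {z : GL chevG2.Idx K} (hz : z ∈ (foldK K m).H1)
    (hg : sl2Diag K m g = z) (hc : Commute z (reeG m (0 : K) 1 0)) : (g = 1 ∨ g = -1) ∧ z = 1 := by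
  have hX : ∀ t, sl2Diag K m (slX t) ∈ (rgdG2 K).Upos := fun t => by
    rw [sl2Diag_slX]; exact (ree_mem_U1 hK 0 t 0).1
  have hc0 : g.1 1 0 = 0 := by
    by_contra hne
    have e := eq_xyx g hne
    have h1 : sl2Diag K m (slY (g.1 1 0)) =
        (sl2Diag K m (slX ((g.1 0 0 - 1) / g.1 1 0)))⁻¹ * z *
          (sl2Diag K m (slX ((g.1 1 1 - 1) / g.1 1 0)))⁻¹ := by
      have h := congrArg (sl2Diag K m) e
      rw [map_mul, map_mul, hg] at h
      rw [h]
      group
    have hB : sl2Diag K m (slY (g.1 1 0)) ∈ (rgdG2 K).B := by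
      rw [h1]
      exact mul_mem (mul_mem (inv_mem ((rgdG2 K).Upos_le_B (hX _))) ((rgdG2 K).H_le_B hz.1))
        (inv_mem ((rgdG2 K).Upos_le_B (hX _)))
    rw [sl2Diag_slY] at hB
    have hV : nu hG K (reeG m 0 (-(g.1 1 0)) 0) ∈ (rgdG2 K).Vneg := by
      rw [chev_Vneg hG rootsG2]
      have hU : reeG m 0 (-(g.1 1 0)) 0 ∈ chevG2.posUnipotent K := by
        rw [← chev_Upos hG rootsG2]; exact (ree_mem_U1 hK 0 _ 0).1
      have : chevG2.posUnipotent K ≤ (chevG2.negUnipotent K).comap (nu hG K) := by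
        refine (Subgroup.closure_le _).2 ?_
        rintro x ⟨r, t, hr, e'⟩
        obtain rfl : x = xG K r t := Units.ext e'
        rw [SetLike.mem_coe, Subgroup.mem_comap, xG, nu_xg hG K nuG2 hr.1]
        exact Subgroup.subset_closure ⟨chevG2.neg r, -t,
          (isNeg_iff hG (good_chevG2.neg_lt r hr.1)).2 (fun h' => (pos_or_neg hG hr.1).1 h' hr), coe_xg hG _ _⟩
      exact this hU
    have h2 : nu hG K (reeG m 0 (-(g.1 1 0)) 0) = 1 := by
      rw [← Subgroup.mem_bot, ← show (rgdG2 K).B ⊓ (rgdG2 K).Vneg = ⊥ from (rgdG2 K).B_inf_V]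
      exact Subgroup.mem_inf.2 ⟨hB, hV⟩
    have h3 : reeG m 0 (-(g.1 1 0)) 0 = 1 := by rw [← nu_nu (reeG m 0 (-(g.1 1 0)) 0), h2, map_one]
    rw [← ree_zero (K := K) (m := m)] at h3
    exact hne (neg_eq_zero.1 (ree_inj h3).2.1)
  have hdet := RankOne.det_eq g
  rw [hc0, mul_zero, sub_zero] at hdet
  have ha : g.1 0 0 * g.1 0 0 = 1 := by
    have e : g * slX 1 = slX (g.1 0 0 * g.1 0 0) * g := by
      apply Subtype.ext
      simp only [Matrix.SpecialLinearGroup.coe_mul]
      ext i j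
      fin_cases i <;> fin_cases j <;> simp [slX, Matrix.mul_apply, Fin.sum_univ_two, hc0] <;>
        linear_combination -(g.1 0 0) * hdet
    have h := congrArg (sl2Diag K m) e
    rw [map_mul, map_mul, hg, sl2Diag_slX, sl2Diag_slX, hc.eq] at h
    exact (ree_inj (mul_right_cancel h)).2.1.symm
  have hsign : g = slX (g.1 0 0 * g.1 0 1) ∨ g = -slX (g.1 0 0 * g.1 0 1) := by
    rcases mul_self_eq_one_iff.1 ha with h | h
    · left
      have h11 : g.1 1 1 = 1 := by rw [h] at hdet; simpa using hdet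
      apply Subtype.ext
      ext i j
      fin_cases i <;> fin_cases j <;> simp [slX, hc0, h, h11]
    · right
      have h11 : g.1 1 1 = -1 := by rw [h] at hdet; linear_combination -hdet
      apply Subtype.ext
      rw [Matrix.SpecialLinearGroup.coe_neg]
      ext i j
      fin_cases i <;> fin_cases j <;> simp [slX, hc0, h, h11]
  have hz' : z = reeG m 0 (g.1 0 0 * g.1 0 1) 0 := by
    rw [← hg, ← sl2Diag_slX]
    rcases hsign with h | h
    · exact congrArg (sl2Diag K m) h
    · refine (congrArg (sl2Diag K m) h).trans ?_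
      rw [neg_eq_neg_one_mul, map_mul, sl2Diag_neg_one, one_mul]
  have hz1 : z = 1 := by
    rw [← Subgroup.mem_bot, ← (rgdG2 K).U_inf_H]
    exact Subgroup.mem_inf.2 ⟨hz'.symm ▸ (ree_mem_U1 hK 0 _ 0).1, hz.1⟩
  rw [hz1, ← ree_zero (K := K) (m := m)] at hz'
  have hb := (ree_inj hz').2.1
  refine ⟨?_, hz1⟩
  have hX0 : slX (0 : K) = 1 := by
    apply Subtype.ext
    ext i j
    fin_cases i <;> fin_cases j <;> simp [slX]
  rcases hsign with h | h <;> rw [← hb, hX0] at h
  exacts [Or.inl h, Or.inr h]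

/-- `C(h(-1)) ≅ 2 × PSL₂(q)`. -/
theorem centralizer_torInv :
    Nonempty (Multiplicative (ZMod 2) × Matrix.ProjectiveSpecialLinearGroup (Fin 2) K ≃*
      ↥((foldK K m).fix ⊓ Subgroup.centralizer {tor (K := K) m (-1)})) := by
  haveI : Fact (Nat.Prime 3) := ⟨Nat.prime_three⟩
  set S := (foldK K m).fix ⊓ Subgroup.centralizer {tor (K := K) m (-1)} with hS
  have hK' : Nat.card K = 3 ^ (2 * m + 1) := by rw [Nat.card_eq_fintype_card, hK]
  have haH : tor (K := K) m (-1) ∈ (foldK K m).H1 := (mem_H1_iff hK).2 ⟨-1, rfl⟩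
  let φ : SL(2, K) →* S := (sl2Diag K m).codRestrict S fun g => Subgroup.mem_inf.2
    ⟨sl2Diag_mem hK g, Subgroup.mem_centralizer_singleton_iff.2 (sl2Diag_comm g).eq.symm⟩
  have hker : Subgroup.center SL(2, K) ≤ φ.ker := by
    intro g hg
    rw [MonoidHom.mem_ker]
    rcases mk_one_iff.1 ((QuotientGroup.eq_one_iff _).2 hg) with rfl | rfl
    · exact map_one φ
    · exact Subtype.ext sl2Diag_neg_one
  let ψ : PSL2 K →* S := QuotientGroup.lift _ φ hker
  have hψ : Function.Injective ψ := by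
    rw [injective_iff_map_eq_one]
    intro x hx
    induction x using QuotientGroup.induction_on with
    | H g => exact mk_one_iff.2 (eq_one_of_mem_H hK (one_mem _) (congrArg Subtype.val hx) (Commute.one_left _)).1
  set a : S := ⟨tor (K := K) m (-1), Subgroup.mem_inf.2 ⟨((mem_H1_iff hK).2 ⟨-1, rfl⟩).2,
    Subgroup.mem_centralizer_singleton_iff.2 rfl⟩⟩ with ha
  have hac : ∀ x : S, a * x = x * a := fun x =>
    Subtype.ext (Subgroup.mem_centralizer_singleton_iff.1 (Subgroup.mem_inf.1 x.2).2).symm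
  have ha2 : a ^ 2 = 1 := by
    refine Subtype.ext ?_
    show tor (K := K) m (-1) ^ 2 = 1
    rw [pow_two, ← tor_mul, show (-1 : Kˣ) * -1 = 1 by simp, tor_one]
  have ha1 : a ≠ 1 := fun h => by
    have h' := tor_injective ((congrArg Subtype.val h).trans (tor_one (K := K) (m := m)).symm)
    have h'' : (-1 : K) = 1 := by simpa using congrArg Units.val h'
    exact one_ne_zero (α := K) (by linear_combination h'' + three_eq_zero K)
  have harange : ∀ x, ψ x ≠ a := by
    intro x hx
    induction x using QuotientGroup.induction_on with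
    | H g =>
      refine ha1 (Subtype.ext (eq_one_of_mem_H hK haH (congrArg Subtype.val hx) ?_).2)
      have h := sl2Diag_comm (K := K) (m := m) (slX 1)
      rwa [sl2Diag_slX] at h
  let τ : Multiplicative (ZMod 2) →* S := AddMonoidHom.toMultiplicativeLeft
    (ZMod.lift 2 ⟨zmultiplesHom (Additive S) (Additive.ofMul a), by
      show ((2 : ℕ) : ℤ) • Additive.ofMul a = 0
      rw [natCast_zsmul]; exact ha2⟩)
  have hτ : τ (Multiplicative.ofAdd 1) = a := by
    show Additive.toMul (ZMod.lift 2 _ (1 : ZMod 2)) = a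
    rw [show (1 : ZMod 2) = ((1 : ℤ) : ZMod 2) by simp, ZMod.lift_coe]
    simp
  have hz : ∀ z : Multiplicative (ZMod 2), z = 1 ∨ z = Multiplicative.ofAdd 1 := by decide
  let Θ : Multiplicative (ZMod 2) × PSL2 K →* S := τ.noncommCoprod ψ fun z x => by
    rcases hz z with rfl | rfl
    · rw [map_one]; exact Commute.one_left _
    · rw [hτ]; exact hac _
  have hΘ : Function.Injective Θ := by
    rw [injective_iff_map_eq_one]
    rintro ⟨z, x⟩ h
    have h' : τ z * ψ x = 1 := h
    rcases hz z with rfl | rfl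
    · rw [map_one, one_mul] at h'
      rw [hψ (h'.trans (map_one ψ).symm)]; rfl
    · rw [hτ] at h'
      exact absurd ((eq_inv_of_mul_eq_one_right h').trans (inv_eq_of_mul_eq_one_right (by rw [← pow_two, ha2])))
        (harange x)
  refine ⟨MulEquiv.ofBijective Θ (hΘ.bijective_of_nat_card_le ?_)⟩
  refine (card_centralizer_torInv_le hK).trans (le_of_eq ?_)
  rw [Nat.card_prod, show Nat.card (Multiplicative (ZMod 2)) = 2 from
    (Nat.card_congr Multiplicative.toAdd).trans (Nat.card_zmod 2)]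
  have hc := card_psl_mul (F := K)
  obtain ⟨j, hj⟩ : ∃ j, 3 ^ (2 * m + 1) = 2 * j + 1 := (Odd.pow (by decide) : Odd (3 ^ (2 * m + 1)))
  rw [hK', Nat.gcd_eq_left (by omega)] at hc
  rw [hc]
  ring

end Cfsg.Agent.ReeTori
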