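/-
Elements of prime order with six conjugate eigenvalues in a seven dimensional representation.

* `six_order` : if `p ∣ q² - q + 1`, `p ≠ 3`, then `q` has order six modulo `p`
* `seven` : the centraliser of such an element is cyclic and `g ^ 6` centralises it when `g` normalises it
-/
import Mathlib
import Cfsg.Agent.EqLemmas

set_option autoImplicit false

namespace Cfsg.Agent.ReeTori

open Matrix Polynomial

theorem six_order {p q : ℕ} [Fact p.Prime] (hp3 : p ≠ 3) (h : ((q : ZMod p)) ^ 2 - q + 1 = 0) :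
    (q : ZMod p) ^ 6 = 1 ∧ ∀ i, 0 < i → i < 6 → (q : ZMod p) ^ i ≠ 1 := by
  set z := (q : ZMod p) with hz
  have h3 : z ^ 3 = -1 := by linear_combination (z + 1) * h
  have h6 : z ^ 6 = 1 := by linear_combination (z ^ 3 - 1) * h3
  have hthree : (3 : ZMod p) ≠ 0 := by
    intro h'
    have h'' : ((3 : ℕ) : ZMod p) = 0 := by exact_mod_cast h'
    rw [ZMod.natCast_eq_zero_iff] at h''
    exact hp3 ((Nat.prime_dvd_prime_iff_eq Fact.out Nat.prime_three).1 h'')
  have h1 : z ≠ 1 := fun e => one_ne_zero (α := ZMod p) (by linear_combination h - z * e)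
  have h2 : z ^ 2 ≠ 1 := fun e => by
    have h4 : z = 2 := by linear_combination -h + e
    exact hthree (by linear_combination e - (z + 2) * h4)
  have h3' : z ^ 3 ≠ 1 := fun e => by
    rcases Nat.Prime.eq_two_or_odd (Fact.out : p.Prime) with hp | hp
    · subst hp
      exact one_ne_zero (α := ZMod 2) (by linear_combination h - ZMod.pow_card z)
    · have h5 : ((2 : ℕ) : ZMod p) = 0 := by push_cast; linear_combination h3 - e
      rw [ZMod.natCast_eq_zero_iff, Nat.prime_dvd_prime_iff_eq Fact.out Nat.prime_two] at h5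
      omega
  refine ⟨h6, fun i hi hi6 e => ?_⟩
  interval_cases i
  · exact h1 (by rwa [pow_one] at e)
  · exact h2 e
  · exact h3' e
  · exact h2 (by linear_combination h6 - z ^ 2 * e)
  · exact h1 (by linear_combination h6 - z * e)

theorem dvd_geom {p q : ℕ} [Fact p.Prime] (h : ((q : ZMod p)) ^ 2 - q + 1 = 0) :
    p ∣ ∑ i : Fin 6, q ^ (i : ℕ) := by
  rw [← ZMod.natCast_eq_zero_iff]
  simp only [Fin.sum_univ_succ, Fin.sum_univ_zero, Fin.val_succ, Fin.val_zero]
  push_cast
  linear_combination ((q : ZMod p) ^ 3 + 2 * (q : ZMod p) ^ 2 + 2 * (q : ZMod p) + 1) * h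

variable {G : Type*} [Group G] [Finite G] {K : Type*} [Field K] [Fintype K]

/-- The centraliser of an element with six conjugate eigenvalues is cyclic. -/
theorem seven (ρ : G →* GL (Fin 7) K) (hinj : Function.Injective ρ)
    (hdet : ∀ g, (ρ g : Matrix (Fin 7) (Fin 7) K).det = 1) {p : ℕ} [Fact p.Prime] (hp3 : p ≠ 3)
    (hchar : ∀ r : ℕ, CharP K r → r ≠ p)
    (h : ((Fintype.card K : ℕ) : ZMod p) ^ 2 - (Fintype.card K : ℕ) + 1 = 0) {x : G} (hx : orderOf x = p) :
    IsCyclic ↥(Subgroup.centralizer ({x} : Set G)) ∧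
      ∀ g ∈ Subgroup.normalizer ((Subgroup.zpowers x : Subgroup G) : Set G),
        g ^ 6 ∈ Subgroup.centralizer ({x} : Set G) := by
  classical
  set q := Fintype.card K with hq
  obtain ⟨h6, hlt⟩ := six_order hp3 h
  let L := AlgebraicClosure K
  let f : Matrix (Fin 7) (Fin 7) K →+* Matrix (Fin 7) (Fin 7) L := (algebraMap K L).mapMatrix
  let M : G →* Matrix (Fin 7) (Fin 7) L :=
    f.toMonoidHom.comp ((Units.coeHom _).comp ρ)
  have hM : ∀ g, M g = f (ρ g : Matrix (Fin 7) (Fin 7) K) := fun g => rfl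
  have hMinj : Function.Injective M := by
    intro a b hab
    refine hinj (Units.ext (Matrix.map_injective (algebraMap K L).injective ?_))
    exact hab
  have hMdet : ∀ g, (M g).det = 1 := fun g => by
    rw [hM, ← RingHom.map_det, hdet, map_one]
  -- the Frobenius
  obtain ⟨r, hr⟩ := CharP.exists K
  haveI := hr
  obtain ⟨n, hrp, hcard⟩ := FiniteField.card K r
  haveI : Fact r.Prime := ⟨hrp⟩
  haveI : CharP L r := charP_of_injective_algebraMap (algebraMap K L).injective r
  let φ : L →+* L := iterateFrobenius L r n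
  have hφ : ∀ a : L, φ a = a ^ q := fun a => by
    show iterateFrobenius L r n a = _
    rw [iterateFrobenius_def, hq, hcard]
  have hφK : ∀ a : K, φ (algebraMap K L a) = algebraMap K L a := fun a => by
    rw [hφ, ← map_pow, hq, FiniteField.pow_card]
  have hvec : ∀ g (v : Fin 7 → L) (μ : L), M g *ᵥ v = μ • v → ∀ i : ℕ,
      M g *ᵥ (φ^[i] ∘ v) = (μ ^ q ^ i) • (φ^[i] ∘ v) := by
    intro g v μ hv i
    induction i with
    | zero => simpa using hv
    | succ i ih =>
      have e : (φ^[i + 1] ∘ v) = φ ∘ (φ^[i] ∘ v) := by rw [Function.iterate_succ']; rfl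
      rw [e]
      funext a
      have h1 := congrArg φ (congrFun ih a)
      simp only [mulVec, dotProduct, map_sum, map_mul, Pi.smul_apply, smul_eq_mul] at h1 ⊢
      rw [pow_succ q i, pow_mul, ← hφ (μ ^ q ^ i)]
      refine Eq.trans (Finset.sum_congr rfl fun b _ => ?_) h1
      rw [hM]
      show algebraMap K L ((ρ g : Matrix (Fin 7) (Fin 7) K) a b) * _ = φ (algebraMap K L _) * _
      rw [hφK]
      rfl
  -- an eigenvalue different from one
  have hxp : x ^ p = 1 := hx ▸ pow_orderOf_eq_one x
  have hx1 : x ≠ 1 := fun e => (Fact.out : p.Prime).one_lt.ne' (by rw [← hx, e, orderOf_one])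
  obtain ⟨ζ, hζroot, hζ1⟩ : ∃ ζ : L, (M x).charpoly.IsRoot ζ ∧ ζ ≠ 1 := by
    by_contra hne
    push Not at hne
    have hsplit : (M x).charpoly.Splits := IsAlgClosed.splits _
    have hpoly : (M x).charpoly = (X - C 1) ^ 7 := by
      have hroots : (M x).charpoly.roots = Multiset.replicate 7 1 := by
        rw [Multiset.eq_replicate]
        refine ⟨?_, fun b hb => hne b (isRoot_of_mem_roots hb)⟩
        rw [← hsplit.natDegree_eq_card_roots, charpoly_natDegree_eq_dim, Fintype.card_fin]
      rw [hsplit.eq_prod_roots_of_monic (charpoly_monic _), hroots]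
      simp only [Multiset.map_replicate, Multiset.prod_replicate]
    have hnil : (M x - 1) ^ 7 = 0 := by
      have := aeval_self_charpoly (M x)
      rwa [hpoly, map_pow, map_sub, aeval_X, aeval_C, map_one] at this
    have h9 : (M x) ^ (r ^ 7) = 1 := by
      haveI : CharP (Matrix (Fin 7) (Fin 7) L) r := inferInstance
      have e := sub_pow_char_pow_of_commute (R := Matrix (Fin 7) (Fin 7) L) r (n := 7) (Commute.one_right (M x))
      have h7 : 7 ≤ r ^ 7 := le_trans (by norm_num) (Nat.pow_le_pow_left hrp.two_le 7)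
      rw [pow_eq_zero_of_le h7 hnil, one_pow] at e
      exact sub_eq_zero.1 e.symm
    rw [← map_pow, ← map_one M] at h9
    have hd := orderOf_dvd_of_pow_eq_one (hMinj h9)
    rw [hx] at hd
    exact hchar r hr ((Nat.prime_dvd_prime_iff_eq Fact.out hrp).1 ((Fact.out : p.Prime).dvd_of_dvd_pow hd)).symm
  obtain ⟨v, hv⟩ : ∃ v, Module.End.HasEigenvector (toLin' (M x)) ζ v := by
    have h1 : ζ ∈ spectrum L (M x) := mem_spectrum_iff_isRoot_charpoly.2 hζroot
    rw [← Matrix.spectrum_toLin'] at h1
    exact (Module.End.hasEigenvalue_iff_mem_spectrum.2 h1).exists_hasEigenvector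
  have hv' : M x *ᵥ v = ζ • v := by simpa [toLin'_apply] using hv.apply_eq_smul
  have hv0 : v ≠ 0 := hv.2
  have hφv : ∀ i : ℕ, φ^[i] ∘ v ≠ 0 := fun i h0 => hv0 (funext fun a => by
    have h1 : φ^[i] (v a) = 0 := congrFun h0 a
    have h2 : Function.Injective φ^[i] := (φ.injective).iterate i
    exact h2 (h1.trans (iterate_map_zero φ i).symm))
  have hζp : ζ ^ p = 1 := by
    have h1 : (M x) ^ p = 1 := by rw [← map_pow, hxp, map_one]
    have h2 : ∀ j : ℕ, (M x) ^ j *ᵥ v = ζ ^ j • v := fun j => by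
      induction j with
      | zero => simp
      | succ j ih => rw [pow_succ, ← mulVec_mulVec, hv', mulVec_smul, ih, smul_smul, pow_succ']
    have h3 := h2 p
    rw [h1, one_mulVec] at h3
    obtain ⟨a, ha⟩ : ∃ a, v a ≠ 0 := Function.ne_iff.1 hv0
    exact (mul_eq_right₀ ha).1 (congrFun h3 a).symm
  have hζord : orderOf ζ = p := orderOf_eq_prime hζp hζ1
  have hζne : ζ ≠ 0 := fun e => by rw [e, zero_pow (Fact.out : p.Prime).ne_zero] at hζp; exact zero_ne_one hζp
  -- the seven eigenvalues
  set d : Option (Fin 6) → L := fun o => o.elim 1 fun i => ζ ^ q ^ (i : ℕ) with hd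
  have hcast : ∀ a b : ℕ, ζ ^ a = ζ ^ b ↔ (a : ZMod p) = b := fun a b => by
    rw [← pow_mod_orderOf ζ a, ← pow_mod_orderOf ζ b, hζord, ZMod.natCast_eq_natCast_iff']
    have hp0 := (Fact.out : p.Prime).pos
    exact ⟨fun e => (hζord ▸ IsPrimitiveRoot.orderOf ζ).pow_inj (Nat.mod_lt _ hp0) (Nat.mod_lt _ hp0) e,
      fun e => by rw [e]⟩
  have hq0 : (q : ZMod p) ≠ 0 := fun e => zero_ne_one (α := ZMod p) (by rw [← h6, e]; simp)
  have hdinj : Function.Injective d := by
    have hne1 : ∀ i : ℕ, ζ ^ q ^ i ≠ 1 := fun i e => by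
      have e' : ζ ^ q ^ i = ζ ^ 0 := by rw [e, pow_zero]
      rw [hcast, Nat.cast_pow, Nat.cast_zero] at e'
      exact pow_ne_zero _ hq0 e'
    rintro (_ | i) (_ | j) e
    · rfl
    · exact absurd e.symm (hne1 _)
    · exact absurd e (hne1 _)
    · simp only [d, Option.elim, hcast, Nat.cast_pow] at e
      refine congrArg some ?_
      have aux : ∀ a b : ℕ, b < 6 → a ≤ b → (q : ZMod p) ^ a = (q : ZMod p) ^ b → a = b := by
        intro a b hb hab e
        by_contra hne
        refine hlt (b - a) (by omega) (by omega) (mul_left_cancel₀ (pow_ne_zero a hq0) ?_)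
        rw [← pow_add, Nat.add_sub_cancel' hab, mul_one, e]
      rcases le_total (i : ℕ) j with hij | hij
      · exact Fin.ext (aux _ _ j.2 hij e)
      · exact Fin.ext (aux _ _ i.2 hij e.symm).symm
  have hroot : ∀ i : Fin 6, d (some i) ∈ (M x).charpoly.roots := fun i => by
    rw [mem_roots (charpoly_monic _).ne_zero, ← mem_spectrum_iff_isRoot_charpoly, ← Matrix.spectrum_toLin',
      ← Module.End.hasEigenvalue_iff_mem_spectrum]
    refine Module.End.hasEigenvalue_of_hasEigenvector (x := φ^[(i : ℕ)] ∘ v) ⟨?_, hφv i⟩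
    rw [Module.End.mem_eigenspace_iff, toLin'_apply]
    exact hvec x v ζ hv' i
  -- the missing eigenvalue is one
  have hsum : ζ ^ (∑ i : Fin 6, q ^ (i : ℕ)) = 1 := by
    obtain ⟨c, hc⟩ := dvd_geom h
    rw [hc, pow_mul, hζp, one_pow]
  have hone : (1 : L) ∈ (M x).charpoly.roots := by
    have hsplit : (M x).charpoly.Splits := IsAlgClosed.splits _
    set S := (Finset.univ : Finset (Fin 6)).val.map fun i => d (some i) with hS
    have hnd : S.Nodup := (Finset.univ : Finset (Fin 6)).nodup.map fun a b e => Option.some_injective _ (hdinj e)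
    have hle : S ≤ (M x).charpoly.roots := (Multiset.le_iff_subset hnd).2 fun a ha => by
      obtain ⟨i, -, rfl⟩ := Multiset.mem_map.1 ha
      exact hroot i
    obtain ⟨T, hT⟩ := Multiset.le_iff_exists_add.1 hle
    have hcard7 : (M x).charpoly.roots.card = 7 := by
      rw [← hsplit.natDegree_eq_card_roots, charpoly_natDegree_eq_dim, Fintype.card_fin]
    have hT1 : T.card = 1 := by
      rw [hT, Multiset.card_add] at hcard7
      simp [S] at hcard7
      omega
    obtain ⟨c, rfl⟩ := Multiset.card_eq_one.1 hT1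
    have hprod : S.prod = 1 := by
      show (∏ i : Fin 6, d (some i)) = 1
      simp only [d, Option.elim, Finset.prod_pow_eq_pow_sum]
      exact hsum
    have hc := det_eq_prod_roots_charpoly_of_splits (B := M x) hsplit
    rw [hMdet, hT, Multiset.prod_add, hprod, one_mul, Multiset.prod_singleton] at hc
    rw [hT, hc]
    exact Multiset.mem_add.2 (Or.inr (Multiset.mem_singleton_self c))
  obtain ⟨w, hw⟩ : ∃ w, Module.End.HasEigenvector (toLin' (M x)) 1 w := by
    have h1 : (1 : L) ∈ spectrum L (M x) := mem_spectrum_iff_isRoot_charpoly.2 (isRoot_of_mem_roots hone)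
    rw [← Matrix.spectrum_toLin'] at h1
    exact (Module.End.hasEigenvalue_iff_mem_spectrum.2 h1).exists_hasEigenvector
  -- the eigenbasis
  let vec : Option (Fin 6) → (Fin 7 → L) := fun o => o.elim w fun i => φ^[(i : ℕ)] ∘ v
  have hvec' : ∀ o, Module.End.HasEigenvector (toLin' (M x)) (d o) (vec o) := by
    rintro (_ | i)
    · exact hw
    · refine ⟨?_, hφv i⟩
      rw [Module.End.mem_eigenspace_iff, toLin'_apply]
      exact hvec x v ζ hv' i
  let b : Module.Basis (Option (Fin 6)) L (Fin 7 → L) :=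
    basisOfLinearIndependentOfCardEqFinrank
      (Module.End.eigenvectors_linearIndependent' (toLin' (M x)) d hdinj vec hvec') (by simp)
  have hb : ∀ o, b o = vec o := fun o => by simp [b]
  have hbx : ∀ o, M x *ᵥ b o = d o • b o := fun o => by
    rw [hb]
    simpa [toLin'_apply] using (hvec' o).apply_eq_smul
  have hcomm : ∀ g ∈ Subgroup.centralizer ({x} : Set G), ∀ o, ∃ μ : L, M g *ᵥ b o = μ • b o := by
    intro g hg o
    rw [Subgroup.mem_centralizer_singleton_iff] at hg
    set z := M g *ᵥ b o with hz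
    have hxz : M x *ᵥ z = d o • z := by
      rw [hz, mulVec_mulVec, ← map_mul, ← hg, map_mul, ← mulVec_mulVec, hbx, mulVec_smul]
    refine ⟨b.repr z o, ?_⟩
    have hrepr : ∀ o', o' ≠ o → b.repr z o' = 0 := fun o' ho => by
      have e : M x *ᵥ z = ∑ o'', (b.repr z o'' * d o'') • b o'' := by
        conv_lhs => rw [← b.sum_repr z]
        rw [mulVec_sum]
        exact Finset.sum_congr rfl fun o'' _ => by rw [mulVec_smul, hbx, smul_smul]
      have e2 := congrArg (fun u => b.repr u o') (e.symm.trans hxz)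
      simp only [b.repr_sum_self, map_smul, Finsupp.smul_apply, smul_eq_mul] at e2
      have hne : d o' ≠ d o := hdinj.ne ho
      have e3 : b.repr z o' * (d o' - d o) = 0 := by linear_combination e2
      exact (mul_eq_zero.1 e3).resolve_right (sub_ne_zero.2 hne)
    conv_lhs => rw [← b.sum_repr z]
    rw [Finset.sum_eq_single o (fun o' _ ho => by rw [hrepr o' ho, zero_smul])
      (fun h' => absurd (Finset.mem_univ o) h')]
  set C := Subgroup.centralizer ({x} : Set G)
  choose μ hμ using fun (g : C) (o : Option (Fin 6)) => hcomm g g.2 o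
  have hμuniq : ∀ (g : C) o (ν : L), M g *ᵥ b o = ν • b o → μ g o = ν := fun g o ν e =>
    smul_left_injective L (b.ne_zero o) ((hμ g o).symm.trans e)
  let χ : C →* L :=
    { toFun := fun g => μ g (some 0)
      map_one' := hμuniq 1 _ 1 (by simp)
      map_mul' := fun g g' => hμuniq (g * g') _ _ (by
        rw [Subgroup.coe_mul, map_mul, ← mulVec_mulVec, hμ g', mulVec_smul, hμ g, smul_smul, mul_comm]) }
  have hχ : Function.Injective χ := by
    rw [injective_iff_map_eq_one]
    intro g hg
    have hsome : ∀ i : Fin 6, μ g (some i) = 1 := fun i => by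
      refine hμuniq g _ _ ?_
      have h0 := hμ g (some 0)
      rw [hb, show μ g (some 0) = 1 from hg] at h0
      have := hvec g v 1 (by simpa [vec] using h0) i
      rw [hb]
      simpa [vec] using this
    have hdiag : LinearMap.toMatrix b b (toLin' (M g)) = diagonal (μ g) := by
      ext o o'
      rw [LinearMap.toMatrix_apply, toLin'_apply, hμ g o', map_smul, Finsupp.smul_apply, b.repr_self,
        smul_eq_mul, diagonal_apply, Finsupp.single_apply]
      rcases eq_or_ne o o' with rfl | hne
      · simp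
      · simp [hne, Ne.symm hne]
    have hdet1 : ∏ o, μ g o = 1 := by
      rw [← det_diagonal, ← hdiag, LinearMap.det_toMatrix, LinearMap.det_toLin', hMdet]
    have hnone : μ g none = 1 := by
      rw [Fintype.prod_option] at hdet1
      simpa [hsome] using hdet1
    refine Subtype.ext (hMinj ?_)
    have hid : toLin' (M g) = LinearMap.id := b.ext fun o => by
      rw [toLin'_apply, hμ g o]
      rcases o with _ | i
      · simp [hnone]
      · simp [hsome i]
    rw [OneMemClass.coe_one, map_one]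
    exact toLin'.injective (hid.trans toLin'_one.symm)
  refine ⟨isCyclic_of_subgroup_isDomain χ hχ, fun g hg => ?_⟩
  -- the normaliser
  obtain ⟨k, hk⟩ : ∃ k : ℕ, x ^ k = g⁻¹ * x * g := by
    have := (Subgroup.mem_normalizer_iff.1 (inv_mem hg) x).1 (Subgroup.mem_zpowers x)
    rw [inv_inv] at this
    rwa [← mem_powers_iff_mem_zpowers, Submonoid.mem_powers_iff] at this
  -- `ζ ^ k` is an eigenvalue of `x`
  have hgv : M x *ᵥ (M g *ᵥ v) = ζ ^ k • (M g *ᵥ v) := by
    have h2 : ∀ j : ℕ, M (x ^ j) *ᵥ v = ζ ^ j • v := fun j => by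
      induction j with
      | zero => simp
      | succ j ih => rw [pow_succ, map_mul, ← mulVec_mulVec, hv', mulVec_smul, ih, smul_smul, pow_succ']
    have h3 : x * g = g * x ^ k := by rw [hk]; group
    rw [mulVec_mulVec, ← map_mul, h3, map_mul, ← mulVec_mulVec, h2, mulVec_smul]
  have hgv0 : M g *ᵥ v ≠ 0 := fun e => hv0 (by
    have := congrArg (fun u => M g⁻¹ *ᵥ u) e
    rwa [mulVec_mulVec, ← map_mul, inv_mul_cancel, map_one, one_mulVec, mulVec_zero] at this)
  obtain ⟨o, ho⟩ : ∃ o, d o = ζ ^ k := by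
    by_contra hno
    push Not at hno
    refine hgv0 ?_
    rw [← b.sum_repr (M g *ᵥ v)]
    refine Finset.sum_eq_zero fun o' _ => ?_
    have e : M x *ᵥ (M g *ᵥ v) = ∑ o'', (b.repr (M g *ᵥ v) o'' * d o'') • b o'' := by
      conv_lhs => rw [← b.sum_repr (M g *ᵥ v)]
      rw [mulVec_sum]
      exact Finset.sum_congr rfl fun o'' _ => by rw [mulVec_smul, hbx, smul_smul]
    have e2 := congrArg (fun u => b.repr u o') (e.symm.trans hgv)
    simp only [b.repr_sum_self, map_smul, Finsupp.smul_apply, smul_eq_mul] at e2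
    have e3 : b.repr (M g *ᵥ v) o' * (d o' - ζ ^ k) = 0 := by linear_combination e2
    rw [(mul_eq_zero.1 e3).resolve_right (sub_ne_zero.2 (hno o')), zero_smul]
  have hk6 : (k : ZMod p) ^ 6 = 1 := by
    rcases o with _ | i
    · exfalso
      have e : ζ ^ 0 = ζ ^ k := by rw [pow_zero]; exact ho
      rw [hcast, Nat.cast_zero, eq_comm, ZMod.natCast_eq_zero_iff] at e
      obtain ⟨c, rfl⟩ := e
      rw [pow_mul, hxp, one_pow] at hk
      exact hx1 (by rw [show x = g * (g⁻¹ * x * g) * g⁻¹ by group, ← hk]; group)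
    · simp only [d, Option.elim, hcast, Nat.cast_pow] at ho
      rw [← ho, ← pow_mul, mul_comm, pow_mul, h6, one_pow]
  have hit : ∀ j : ℕ, (g ^ j)⁻¹ * x * g ^ j = x ^ (k ^ j) := fun j => by
    induction j with
    | zero => simp
    | succ j ih =>
      calc (g ^ (j + 1))⁻¹ * x * g ^ (j + 1) = g⁻¹ * ((g ^ j)⁻¹ * x * g ^ j) * g := by rw [pow_succ]; group
        _ = (g⁻¹ * x * g) ^ (k ^ j) := by
            rw [ih]
            have := conj_pow (i := k ^ j) (a := g⁻¹) (b := x)
            rw [inv_inv] at this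
            exact this.symm
        _ = _ := by rw [← hk, ← pow_mul, pow_succ']
  have h7 := hit 6
  have h8 : x ^ (k ^ 6) = x := by
    have e : ((k ^ 6 : ℕ) : ZMod p) = ((1 : ℕ) : ZMod p) := by rw [Nat.cast_pow, hk6, Nat.cast_one]
    rw [ZMod.natCast_eq_natCast_iff', ← hx] at e
    rw [← pow_mod_orderOf, e, pow_mod_orderOf, pow_one]
  rw [h8] at h7
  rw [Subgroup.mem_centralizer_singleton_iff]
  calc g ^ 6 * x = g ^ 6 * ((g ^ 6)⁻¹ * x * g ^ 6) := by rw [h7]
    _ = x * g ^ 6 := by group

end Cfsg.Agent.ReeTori
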