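/-
The small Ree groups satisfy the local data `ReeTori.Data`.

* `exists_data'` : with `P = U¹`, `H = H¹`, `w = h₀ n₀`
* `exists_data`
-/
import Cfsg.Agent.Lib.ReeTori.Count
import Cfsg.Agent.Lib.ReeTori.InvCent
import Cfsg.Agent.Lib.ReeTori.Seven
import Cfsg.Agent.Lib.ReeTori.ShortRep

set_option autoImplicit false
set_option linter.unusedSectionVars false

namespace Cfsg.Agent.ReeTori

open Cfsg.Lie Matrix
open Cfsg.Lie.ChevalleyDatum
open Cfsg.Agent.Chev Cfsg.Agent.ChevBN Cfsg.Agent.Twisted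

variable {K : Type*} [Field K] [Fintype K] [CharP K 3] {m : ℕ}

/-- `²G₂(q)` satisfies the data of a small Ree group. -/
theorem exists_data' (hK : Fintype.card K = 3 ^ (2 * m + 1)) (hm : 1 ≤ m) {h₀ : GL chevG2.Idx K}
    (hh₀ : h₀ ∈ chevG2.diagonalSubgroup K) (hf : h₀ * (rgdG2 K).nw w0G2 ∈ (foldK K m).fix) :
    ∃ D : Data ↥(foldK K m).fix (PSL2.PSL2 K) (3 ^ (2 * m + 1)),
      (D.P : Subgroup ↥(foldK K m).fix) = (foldK K m).U1.subgroupOf (foldK K m).fix ∧
      D.H = (foldK K m).H1.subgroupOf (foldK K m).fix ∧ D.w = ⟨_, hf⟩ := by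
  haveI : Fact (Nat.Prime 3) := ⟨Nat.prime_three⟩
  set q := 3 ^ (2 * m + 1) with hq
  have hq3 : q % 3 = 0 := by rw [hq, pow_succ, Nat.mul_mod_left]
  have hq8 : q % 8 = 3 := by rw [hq, pow_succ, pow_mul, Nat.mul_mod, Nat.pow_mod]; norm_num
  have hcard : Nat.card ↥(foldK K m).fix = q ^ 3 * (q - 1) * (q ^ 3 + 1) := by
    rw [← twisted_eq hK, card_ree hK]
  set W := (foldK K m).U1.subgroupOf (foldK K m).fix with hWdef
  have hle : (foldK K m).U1 ≤ (foldK K m).fix := fun _ hx => hx.2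
  have hH1le : (foldK K m).H1 ≤ (foldK K m).fix := fun _ hx => hx.2
  have hW : Nat.card W = 3 ^ (Nat.card ↥(foldK K m).fix).factorization 3 := by
    rw [Nat.card_congr (Subgroup.subgroupOfEquivOfLe hle).toEquiv, card_U1 hK, ← hq, hcard, hq, ← pow_mul]
    congr 1
    have d1 : ¬ 3 ∣ 3 ^ (2 * m + 1) - 1 := by omega
    have d2 : ¬ 3 ∣ 3 ^ ((2 * m + 1) * 3) + 1 := by
      intro h
      have h' : 3 ∣ 3 ^ ((2 * m + 1) * 3) := dvd_pow_self 3 (by omega)
      omega
    rw [Nat.factorization_mul (mul_ne_zero (pow_ne_zero _ (by norm_num)) (by omega)) (Nat.succ_ne_zero _),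
      Nat.factorization_mul (pow_ne_zero _ (by norm_num)) (by omega), Finsupp.add_apply, Finsupp.add_apply,
      Nat.factorization_pow, Finsupp.smul_apply, Nat.Prime.factorization_self Nat.prime_three,
      Nat.factorization_eq_zero_of_not_dvd d1, Nat.factorization_eq_zero_of_not_dvd d2]
    simp
  let P : Sylow 3 ↥(foldK K m).fix := Sylow.ofCard W hW
  have hP : ∀ x, x ∈ (P : Subgroup ↥(foldK K m).fix) ↔ (x : GL chevG2.Idx K) ∈ (foldK K m).U1 := fun x => Iff.rfl
  set H := (foldK K m).H1.subgroupOf (foldK K m).fix with hHdef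
  have hnU : ∀ {h : GL chevG2.Idx K}, h ∈ (foldK K m).H1 → ∀ u ∈ (foldK K m).U1,
      h * u * h⁻¹ ∈ (foldK K m).U1 := fun hh u hu =>
    ⟨(rgdG2 K).H_conj_span _ hh.1 _ hu.1, mul_mem (mul_mem hh.2 hu.2) (inv_mem hh.2)⟩
  obtain ⟨x₀, hx₀, hx₀1⟩ := exists_U1_ne_one hK
  have haH : tor (K := K) m (-1) ∈ (foldK K m).H1 := (mem_H1_iff hK).2 ⟨-1, rfl⟩
  set a : ↥(foldK K m).fix := ⟨tor (K := K) m (-1), haH.2⟩
  obtain ⟨e⟩ := centralizer_torInv (m := m) hK
  refine ⟨{
    q_pow := ⟨m, hm, rfl⟩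
    card := hcard
    simple := by
      rw [← twisted_eq hK]
      exact (simple_ree hK hm).1
    lfacts := lFacts (by rw [Nat.card_eq_fintype_card, hK]) hq8
    P := P
    ti := fun Q R h => sylow_ti hK Q R h
    H := H
    H_cyclic := by
      haveI := isCyclic_H1 hK
      exact isCyclic_of_surjective (Subgroup.subgroupOfEquivOfLe hH1le).symm.toMonoidHom
        (Subgroup.subgroupOfEquivOfLe hH1le).symm.surjective
    H_card := by rw [Nat.card_congr (Subgroup.subgroupOfEquivOfLe hH1le).toEquiv, card_H1 hK]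
    H_le := fun h hh => Subgroup.mem_normalizer_fintype fun x hx => hnU hh _ hx
    fpf := fun h hh h1 ho u hu hc => by
      have h' := (odd_torus hK).2 (h : GL chevG2.Idx K) hh (fun e => h1 (Subtype.ext e))
        (by rwa [Subgroup.orderOf_coe])
      exact Subtype.ext (Subgroup.mem_bot.1 (h'.le (Subgroup.mem_inf.2 ⟨hu,
        Subgroup.mem_centralizer_singleton_iff.2 (congrArg Subtype.val hc.eq).symm⟩)))
    pow_nine := fun u hu => by
      obtain ⟨t, v, w, e⟩ := (mem_U1_iff hK).1 hu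
      refine Subtype.ext ?_
      show ((foldK K m).fix.subtype u) ^ (3 * 3) = 1
      rw [e, pow_mul, show uel good_chevG2 K (ree6 K (3 ^ m) t v w) = reeG m t v w from rfl, ree_cube hK,
        ree_cube hK, zero_pow (by norm_num : (2 : ℕ) ≠ 0), mul_zero, neg_zero, ree_zero]
    card_three := by
      rw [← card_order_three hK]
      refine Nat.card_congr (Equiv.subtypeEquiv (Subgroup.subgroupOfEquivOfLe hle).toEquiv fun u => ?_)
      have hu := MulEquiv.orderOf_eq (Subgroup.subgroupOfEquivOfLe hle) u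
      exact ⟨fun h => hu.trans h, fun h => hu.symm.trans h⟩
    w := ⟨_, hf⟩
    w_notMem := fun hn => by
      have hu := (Subgroup.mem_normalizer_iff.1 hn ⟨x₀, hle hx₀⟩).1 hx₀
      change h₀ * (rgdG2 K).nw w0G2 * x₀ * (h₀ * (rgdG2 K).nw w0G2)⁻¹ ∈ (foldK K m).U1 at hu
      have h1 : (rgdG2 K).nw w0G2 * x₀ * ((rgdG2 K).nw w0G2)⁻¹ ∈ (rgdG2 K).B ⊓ (rgdG2 K).Vneg := by
        refine Subgroup.mem_inf.2 ⟨?_, (rankOneK (m := m)).conj_Upos hx₀.1⟩
        have := mul_mem (mul_mem (inv_mem ((rgdG2 K).H_le_B hh₀)) ((rgdG2 K).Upos_le_B hu.1))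
          ((rgdG2 K).H_le_B hh₀)
        rwa [show h₀⁻¹ * (h₀ * (rgdG2 K).nw w0G2 * x₀ * (h₀ * (rgdG2 K).nw w0G2)⁻¹) * h₀ =
          (rgdG2 K).nw w0G2 * x₀ * ((rgdG2 K).nw w0G2)⁻¹ by group] at this
      rw [show (rgdG2 K).B ⊓ (rgdG2 K).Vneg = ⊥ from (rgdG2 K).B_inf_V, Subgroup.mem_bot, conj_eq_one_iff] at h1
      exact hx₀1 h1
    w_inv := fun h hh => Subtype.ext (inv_conj hh₀ hh.1)
    a := a
    a_mem := haH
    orderOf_a := by
      refine orderOf_eq_prime (Subtype.ext ?_) fun h => ?_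
      · show tor (K := K) m (-1) ^ 2 = 1
        rw [pow_two, ← tor_mul, show (-1 : Kˣ) * -1 = 1 by simp, tor_one]
      · have h' := tor_injective ((congrArg Subtype.val h).trans (tor_one (K := K) (m := m)).symm)
        have h'' : (-1 : K) = 1 := by simpa using congrArg Units.val h'
        exact one_ne_zero (α := K) (by linear_combination h'' + three_eq_zero K)
    inv := by
      refine ⟨MulEquiv.trans ?_ e.symm⟩
      exact {
        toFun := fun x => ⟨(x : ↥(foldK K m).fix), Subgroup.mem_inf.2 ⟨(x : ↥(foldK K m).fix).2,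
          Subgroup.mem_centralizer_singleton_iff.2
            (congrArg Subtype.val (Subgroup.mem_centralizer_singleton_iff.1 x.2))⟩⟩
        invFun := fun y => ⟨⟨y, (Subgroup.mem_inf.1 y.2).1⟩, Subgroup.mem_centralizer_singleton_iff.2
          (Subtype.ext (Subgroup.mem_centralizer_singleton_iff.1 (Subgroup.mem_inf.1 y.2).2))⟩
        left_inv := fun x => rfl
        right_inv := fun y => rfl
        map_mul' := fun x y => rfl }
    seven := fun p hp hpQ x hx => by
      haveI := Fact.mk hp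
      obtain ⟨ρ, hinj, hdet⟩ := exists_rep hK hm
      have hqle : q ≤ q ^ 2 := Nat.le_self_pow (by norm_num) q
      have hp3 : p ≠ 3 := by
        rintro rfl
        obtain ⟨c, hc⟩ : 3 ∣ q ^ 2 := dvd_pow (Nat.dvd_of_mod_eq_zero hq3) (by norm_num)
        omega
      refine seven (K := K) (ρ.comp (MulEquiv.subgroupCongr (twisted_eq hK).symm).toMonoidHom)
        (hinj.comp (MulEquiv.subgroupCongr (twisted_eq hK).symm).injective) (fun g => hdet _) hp3
        (fun r hr => by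
          have h3 : r = 3 := CharP.eq K hr ‹CharP K 3›
          rw [h3]; exact hp3.symm) ?_ hx
      have h0 : ((q ^ 2 - q + 1 : ℕ) : ZMod p) = 0 := (CharP.cast_eq_zero_iff (ZMod p) p _).2 hpQ
      rw [hK]
      rw [Nat.cast_add, Nat.cast_sub hqle, Nat.cast_pow, Nat.cast_one] at h0
      exact h0 }, rfl, rfl, rfl⟩

/-- `²G₂(q)` satisfies the data of a small Ree group. -/
theorem exists_data (hK : Fintype.card K = 3 ^ (2 * m + 1)) (hm : 1 ≤ m) :
    Nonempty (Data ↥(foldK K m).fix (PSL2.PSL2 K) (3 ^ (2 * m + 1))) := by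
  obtain ⟨h₀, hh₀, hf, -⟩ := exists_m0 hK
  exact ⟨(exists_data' hK hm hh₀ hf).choose⟩

end Cfsg.Agent.ReeTori
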