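/-
The smallest degree of a non-trivial complex representation of the small Ree groups.

* `four_dvd_finrank`     : a four-group of elements of trace zero forces 4 ∣ dim.
* `fullOrbit`            : all characters of A = {x(0,u,v)} nontrivial on the centre occur.
* `degree_bound`         : q^2 - q + 1 ≤ dim V.
-/
import Cfsg.Agent.Lib.ReeTori.Instance
import Cfsg.Agent.Lib.SUMinDegree.Eigen

set_option autoImplicit false

namespace Cfsg.Agent.ReeTori

open Module Cfsg.Lie Cfsg.Agent.Chev Cfsg.Agent.ChevBN Cfsg.Agent.Twisted Cfsg.Agent.SUMinDegree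

/-- A four-group all of whose involutions have trace zero. -/
theorem four_dvd_finrank {G : Type*} [Group G] {V : Type*} [AddCommGroup V] [Module ℂ V]
    [FiniteDimensional ℂ V] (ρ : Representation ℂ G V) {a b : G} (ha : a * a = 1) (hb : b * b = 1)
    (hab : a * b = b * a) (hta : LinearMap.trace ℂ V (ρ a) = 0) (htb : LinearMap.trace ℂ V (ρ b) = 0)
    (htab : LinearMap.trace ℂ V (ρ (a * b)) = 0) : 4 ∣ finrank ℂ V := by
  classical
  let P : V →ₗ[ℂ] V := (4 : ℂ)⁻¹ • (1 + ρ a + ρ b + ρ (a * b))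
  have A : ρ a * ρ a = 1 := by rw [← map_mul, ha, map_one]
  have B : ρ b * ρ b = 1 := by rw [← map_mul, hb, map_one]
  have C : ρ b * ρ a = ρ a * ρ b := by rw [← map_mul, ← map_mul, hab]
  have hPP : P * P = P := by
    simp only [P, map_mul, smul_mul_smul_comm]
    have e : (1 + ρ a + ρ b + ρ a * ρ b) * (1 + ρ a + ρ b + ρ a * ρ b) =
        (4 : ℂ) • (1 + ρ a + ρ b + ρ a * ρ b) := by
      have C' : ∀ x, ρ b * (ρ a * x) = ρ a * (ρ b * x) := fun x => by rw [← mul_assoc, C, mul_assoc]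
      have A' : ∀ x, ρ a * (ρ a * x) = x := fun x => by rw [← mul_assoc, A, one_mul]
      simp only [mul_add, add_mul, one_mul, mul_one, mul_assoc, A, B, C, C', A']
      rw [show (4 : ℂ) = ((4 : ℕ) : ℂ) by norm_num, Nat.cast_smul_eq_nsmul]
      abel
    rw [e, smul_smul]
    norm_num
  have hproj : LinearMap.IsProj (LinearMap.range P) P :=
    ⟨fun v => LinearMap.mem_range_self P v, by
      rintro _ ⟨w, rfl⟩
      exact LinearMap.congr_fun hPP w⟩
  have ht := hproj.trace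
  simp only [P, map_smul, map_add, LinearMap.trace_one, hta, htb, htab, add_zero, smul_eq_mul] at ht
  refine ⟨finrank ℂ (LinearMap.range P), ?_⟩
  have : (finrank ℂ V : ℂ) = ((4 * finrank ℂ (LinearMap.range P) : ℕ) : ℂ) := by
    push_cast
    rw [← ht]
    ring
  exact_mod_cast this

variable {K : Type*} [Field K] [Fintype K] [CharP K 3] {m : ℕ}

omit [CharP K 3] in
theorem pow_tor_injective (hK : Fintype.card K = 3 ^ (2 * m + 1)) :
    Function.Injective (fun s : Kˣ => s ^ (3 * 3 ^ m + 2)) := by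
  intro s r hsr
  have h : (s / r) ^ (3 * 3 ^ m + 2) = 1 := by rw [div_pow, div_eq_one]; exact hsr
  set x := s / r
  have he : (x : K) ^ (3 ^ m * (3 * 3 ^ m)) = x := by
    rw [pow_mul]
    exact pow_three_e_e hK _
  have e1 : (x : K) ^ (3 * 3 ^ m + 2) = 1 := by rw [← Units.val_pow_eq_pow_val, h, Units.val_one]
  have e2 : (x : K) ^ (2 * 3 ^ m + 1) = 1 := by
    have := congrArg (fun y : K => y ^ 3 ^ m) e1
    simp only [one_pow, ← pow_mul] at this
    rwa [show (3 * 3 ^ m + 2) * 3 ^ m = 3 ^ m * (3 * 3 ^ m) + 2 * 3 ^ m by ring, pow_add, he,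
      ← pow_succ'] at this
  refine div_eq_one.1 (Units.ext ?_)
  calc (x : K) = (x : K) * ((x : K) ^ (2 * 3 ^ m + 1)) ^ 3 := by rw [e2, one_pow, mul_one]
    _ = ((x : K) ^ (3 * 3 ^ m + 2)) ^ 2 := by rw [← pow_mul, ← pow_mul, ← pow_succ']; congr 1; ring
    _ = 1 := by rw [e1, one_pow]

variable (K) in
/-- The character `(u, v) ↦ ψ (b u + c v)`. -/
noncomputable def chiA (ψ : AddChar K ℂ) (p : K × K) : AddChar (K × K) ℂ :=
  ψ.compAddMonoidHom (AddMonoidHom.mk' (fun w : K × K => p.1 * w.1 + p.2 * w.2) fun a b => by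
    simp only [Prod.fst_add, Prod.snd_add]; ring)

omit [Fintype K] [CharP K 3] in
theorem chiA_apply (ψ : AddChar K ℂ) (p w : K × K) : chiA K ψ p w = ψ (p.1 * w.1 + p.2 * w.2) := rfl

omit [CharP K 3] in
theorem chiA_bijective {ψ : AddChar K ℂ} (hψ : ψ ≠ 1) : Function.Bijective (chiA K ψ) := by
  classical
  have hp := AddChar.IsPrimitive.of_ne_one hψ
  have hinj : Function.Injective (chiA K ψ) := by
    intro p p' h
    have h1 : ∀ w : K × K, ψ (p.1 * w.1 + p.2 * w.2) = ψ (p'.1 * w.1 + p'.2 * w.2) := fun w => by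
      rw [← chiA_apply, ← chiA_apply, h]
    have key : ∀ x y : K, (∀ u, ψ (x * u) = ψ (y * u)) → x = y := fun x y hxy =>
      AddChar.to_mulShift_inj_of_isPrimitive hp (DFunLike.ext _ _ fun u => by
        rw [AddChar.mulShift_apply, AddChar.mulShift_apply]
        exact hxy u)
    refine Prod.ext (key _ _ fun u => ?_) (key _ _ fun u => ?_)
    · simpa using h1 (u, 0)
    · simpa using h1 (0, u)
  exact (Fintype.bijective_iff_injective_and_card _).2 ⟨hinj, AddChar.card_eq.symm⟩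

/-- **Lower bound for the degree.** -/
theorem degree_bound (hK : Fintype.card K = 3 ^ (2 * m + 1)) (hm : 1 ≤ m) {V : Type*} [AddCommGroup V]
    [Module ℂ V] [FiniteDimensional ℂ V] (ρ : Representation ℂ ↥(foldK K m).fix V)
    (hne : ∃ g, ρ g ≠ 1) :
    (3 ^ (2 * m + 1)) ^ 2 - 3 ^ (2 * m + 1) + 1 ≤ finrank ℂ V := by
  classical
  obtain ⟨D⟩ := exists_data hK hm
  set q := 3 ^ (2 * m + 1) with hq
  have hUle : (foldK K m).U1 ≤ (foldK K m).fix := fun _ hx => hx.2
  let x : K → K → K → ↥(foldK K m).fix := fun t u v => ⟨reeG m t u v, hUle (ree_mem_U1 hK t u v)⟩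
  let T : Kˣ → ↥(foldK K m).fix := fun s => ⟨tor m s, ((mem_H1_iff hK).2 ⟨s, rfl⟩).2⟩
  let τ : K × K → ↥(foldK K m).fix := fun w => x 0 w.1 w.2
  have hτ : ∀ a b : K × K, τ (a + b) = τ a * τ b := fun a b => Subtype.ext (by
    show reeG m 0 (a.1 + b.1) (a.2 + b.2) = reeG m 0 a.1 a.2 * reeG m 0 b.1 b.2
    rw [ree_mul_zero hK])
  -- conjugation by `x t 0 0`
  have hconjx : ∀ (t : K) (w : K × K), x t 0 0 * τ w = τ (w.1, w.2 + t * w.1) * x t 0 0 := fun t w =>
    Subtype.ext (by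
      show reeG m t 0 0 * reeG m 0 w.1 w.2 = reeG m 0 w.1 (w.2 + t * w.1) * reeG m t 0 0
      rw [ree_mul_zero hK, ree_mul hK]
      congr 1 <;> ring)
  -- conjugation by the torus
  have hconjT : ∀ (s : Kˣ) (w : K × K), T s * τ w =
      τ ((s : K) ^ (3 * 3 ^ m + 1) * w.1, (s : K) ^ (3 * 3 ^ m + 2) * w.2) * T s := fun s w =>
    Subtype.ext (by
      show tor m s * reeG m 0 w.1 w.2 = reeG m 0 _ _ * tor m s
      rw [← mul_inv_eq_iff_eq_mul, tor_conj hK, mul_zero])
  -- faithful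
  obtain ⟨ψ, hψ, p₀, hp₀c, hp₀⟩ : ∃ ψ : AddChar K ℂ, ψ ≠ 1 ∧ ∃ p : K × K, p.2 ≠ 0 ∧
      eig ρ τ (chiA K ψ p) ≠ ⊥ := by
    have := D.simple
    obtain ⟨g, hg⟩ := hne
    rcases IsSimpleGroup.eq_bot_or_eq_top_of_normal ρ.ker inferInstance with hk | hk
    · have hz : ρ (τ (0, 1)) ≠ 1 := fun h => by
        have h1 : τ (0, 1) ∈ ρ.ker := h
        rw [hk, Subgroup.mem_bot] at h1
        have h2 : reeG m (0 : K) 0 1 = reeG m 0 0 0 := (congrArg Subtype.val h1).trans ree_zero.symm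
        exact one_ne_zero (ree_inj h2).2.2
      obtain ⟨v, hv⟩ : ∃ v, ρ (τ (0, 1)) v ≠ v := by
        by_contra hc
        push Not at hc
        exact hz (LinearMap.ext hc)
      obtain ⟨χ, hχ1, hχ⟩ := exists_char_of_moves ρ τ hτ hv
      obtain ⟨ψ, hψ⟩ : ∃ ψ : AddChar K ℂ, ψ ≠ 1 :=
        ⟨χ.compAddMonoidHom (AddMonoidHom.inr K K), fun h => hχ1 (DFunLike.congr_fun h 1)⟩
      obtain ⟨p, rfl⟩ := (chiA_bijective hψ).2 χ
      refine ⟨ψ, hψ, p, fun h => hχ1 ?_, hχ⟩
      rw [chiA_apply, h]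
      simp
    · exact absurd (show g ∈ ρ.ker from hk ▸ Subgroup.mem_top g) hg
  -- all characters with nonzero second coordinate occur
  have hmove : ∀ (g : ↥(foldK K m).fix) (σ : K × K → K × K), Function.Surjective σ →
      (∀ w, g * τ w = τ (σ w) * g) → ∀ p p' : K × K, (∀ w, chiA K ψ p' (σ w) = chiA K ψ p w) →
      eig ρ τ (chiA K ψ p) ≠ ⊥ → eig ρ τ (chiA K ψ p') ≠ ⊥ := by
    intro g σ hσ hg p p' hpp hp h
    obtain ⟨v, hv, hv0⟩ := (Submodule.ne_bot_iff _).1 hp
    have := mapsTo_eig ρ τ hσ hg hpp hv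
    rw [h, Submodule.mem_bot] at this
    exact hv0 (rep_injective ρ g (this.trans (map_zero _).symm))
  have hfull : ∀ p : K × K, p.2 ≠ 0 → eig ρ τ (chiA K ψ p) ≠ ⊥ := by
    intro p hp
    obtain ⟨s, hs⟩ := (Finite.injective_iff_surjective.1 (pow_tor_injective hK))
      (Units.mk0 p₀.2 hp₀c / Units.mk0 p.2 hp)
    have hs' : (s : K) ^ (3 * 3 ^ m + 2) = p₀.2 / p.2 := by
      rw [← Units.val_pow_eq_pow_val]
      show ((fun s : Kˣ => s ^ (3 * 3 ^ m + 2)) s : K) = _
      rw [hs]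
      simp
    set a := (s : K) ^ (3 * 3 ^ m + 1)
    have ha : a ≠ 0 := pow_ne_zero _ s.ne_zero
    have hb : (s : K) ^ (3 * 3 ^ m + 2) ≠ 0 := pow_ne_zero _ s.ne_zero
    have h1 : eig ρ τ (chiA K ψ (p₀.1 / a, p.2)) ≠ ⊥ := by
      refine hmove (T s) (fun w => (a * w.1, (s : K) ^ (3 * 3 ^ m + 2) * w.2))
        (fun w => ⟨(w.1 / a, w.2 / (s : K) ^ (3 * 3 ^ m + 2)), by
          simp only [mul_div_cancel₀ _ ha, mul_div_cancel₀ _ hb]⟩) (hconjT s) p₀ _ (fun w => ?_) hp₀
      rw [chiA_apply, chiA_apply]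
      congr 1
      simp only
      rw [hs', ← mul_assoc, ← mul_assoc, div_mul_cancel₀ _ ha, mul_div_cancel₀ _ hp]
    set t := (p₀.1 / a - p.1) / p.2
    refine hmove (x t 0 0) (fun w => (w.1, w.2 + t * w.1))
      (fun w => ⟨(w.1, w.2 - t * w.1), by simp⟩) (hconjx t) _ p (fun w => ?_) h1
    rw [chiA_apply, chiA_apply]
    congr 1
    simp only [t]
    field_simp
    ring
  -- counting
  let e := Equiv.ofBijective _ (chiA_bijective hψ)
  let d : K × K → ℕ := fun p => finrank ℂ (eig ρ τ (chiA K ψ p))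
  have hsum : ∑ p, d p = finrank ℂ V := by
    rw [← sum_finrank_eig ρ τ hτ]
    exact Fintype.sum_equiv e _ _ fun p => rfl
  have hd : ∀ p : K × K, p.2 ≠ 0 → 1 ≤ d p := fun p hp =>
    Submodule.one_le_finrank_iff.2 (hfull p hp)
  set S := Finset.univ.filter fun p : K × K => p.2 ≠ 0 with hS
  have hcardS : S.card = q * (q - 1) := by
    rw [show S = Finset.univ ×ˢ Finset.univ.filter (fun c : K => c ≠ 0) by ext; simp [hS],
      Finset.card_product, Finset.filter_ne', Finset.card_erase_of_mem (Finset.mem_univ _),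
      Finset.card_univ, hK]
  have hqq : q ^ 2 - q = q * (q - 1) := by rw [Nat.mul_sub, mul_one, sq]
  by_contra hlt
  rw [hqq] at hlt
  have hle : q * (q - 1) ≤ ∑ p ∈ S, d p := by
    rw [← hcardS, Finset.card_eq_sum_ones]
    exact Finset.sum_le_sum fun p hp => hd p (Finset.mem_filter.1 hp).2
  have hsplit := Finset.sum_filter_add_sum_filter_not Finset.univ (fun p : K × K => p.2 ≠ 0) d
  rw [hsum, ← hS] at hsplit
  have hkq : finrank ℂ V = q * (q - 1) := by omega
  have hzero : ∀ p : K × K, p.2 = 0 → eig ρ τ (chiA K ψ p) = ⊥ := by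
    intro p hp
    refine Submodule.finrank_eq_zero.1 ?_
    have h1 := Finset.single_le_sum (f := d) (fun i _ => Nat.zero_le _)
      (show p ∈ Finset.univ.filter (fun p : K × K => ¬ p.2 ≠ 0) from
        Finset.mem_filter.2 ⟨Finset.mem_univ _, not_not.2 hp⟩)
    show d p = 0
    omega
  -- the centre has no fixed vectors
  have hZ : ∑ c : K, ρ (τ (0, c)) = 0 := by
    refine LinearMap.ext fun v => ?_
    conv_lhs => rw [← sum_proj ρ τ hτ v]
    rw [map_sum, LinearMap.zero_apply]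
    refine Finset.sum_eq_zero fun χ _ => ?_
    obtain ⟨p, rfl⟩ := (chiA_bijective hψ).2 χ
    have hm' := (isProj_proj ρ τ hτ (chiA K ψ p)).map_mem v
    generalize proj ρ τ (chiA K ψ p) v = w at hm' ⊢
    by_cases hp : p.2 = 0
    · rw [hzero p hp, Submodule.mem_bot] at hm'
      rw [hm', map_zero]
    · rw [LinearMap.sum_apply]
      simp only [(mem_eig ρ τ).1 hm', ← Finset.sum_smul, chiA_apply, mul_zero, zero_add]
      rw [Fintype.sum_equiv (Equiv.mulLeft₀ p.2 hp) (fun c => ψ (p.2 * c)) ψ fun c => rfl,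
        AddChar.sum_eq_zero_of_ne_one hψ, zero_smul]
  -- the trace of the torus involution
  have hT2 : T (-1) * T (-1) = 1 := Subtype.ext (by
    show tor m (-1) * tor m (-1) = (1 : GL chevG2.Idx K)
    rw [← tor_mul, neg_mul_neg, one_mul, tor_one])
  have hodd : Odd (3 * 3 ^ m + 2) :=
    ((show Odd 3 from ⟨1, rfl⟩).mul ((show Odd 3 from ⟨1, rfl⟩).pow)).add_even even_two
  have hJz : ∀ c : K, T (-1) * τ (0, c) = τ (0, -c) * T (-1) := fun c => by
    rw [hconjT]
    simp only [mul_zero, Units.val_neg, Units.val_one, hodd.neg_one_pow, neg_mul, one_mul]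
  have htr : LinearMap.trace ℂ V (ρ (T (-1))) = 0 := by
    have h3 : ∀ c : K, LinearMap.trace ℂ V (ρ (T (-1) * τ (0, c))) = LinearMap.trace ℂ V (ρ (T (-1))) := by
      intro c
      have hcc : τ (0, c) * τ (0, c) = τ (0, -c) := by
        rw [← hτ]
        congr 1
        refine Prod.ext (by simp) ?_
        show c + c = -c
        linear_combination c * three_eq_zero K
      have he : T (-1) * τ (0, c) = τ (0, c) * (T (-1) * (τ (0, c))⁻¹) := by
        rw [← mul_assoc, eq_mul_inv_iff_mul_eq, mul_assoc, hcc, hJz, neg_neg]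
      rw [he, map_mul, LinearMap.trace_mul_comm, ← map_mul, inv_mul_cancel_right]
    have h4 : ∑ c : K, LinearMap.trace ℂ V (ρ (T (-1) * τ (0, c))) = 0 := by
      simp only [map_mul]
      rw [← map_sum, ← Finset.mul_sum, hZ, mul_zero, map_zero]
    rw [Finset.sum_congr rfl fun c _ => h3 c, Finset.sum_const, Finset.card_univ, nsmul_eq_mul] at h4
    exact (mul_eq_zero.1 h4).resolve_left (Nat.cast_ne_zero.2 Fintype.card_ne_zero)
  -- all involutions are conjugate to it
  have hTo : orderOf (T (-1)) = 2 := by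
    refine orderOf_eq_prime (by rw [pow_two, hT2]) fun h => ?_
    have h' : ((-1 : Kˣ) : K) = 1 := congrArg Units.val (tor_injective
      ((congrArg Subtype.val h).trans (tor_one (K := K) (m := m)).symm))
    rw [Units.val_neg, Units.val_one] at h'
    exact one_ne_zero (α := K) (by linear_combination h' + three_eq_zero K)
  have hall : ∀ b : ↥(foldK K m).fix, orderOf b = 2 → LinearMap.trace ℂ V (ρ b) = 0 := by
    intro b hb
    obtain ⟨g, hg⟩ := isConj_iff.1 ((D.isConj_a hTo).symm.trans (D.isConj_a hb))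
    rw [← hg, map_mul, LinearMap.trace_mul_comm, ← map_mul, inv_mul_cancel_left]
    exact htr
  obtain ⟨S₂, haS, -⟩ := D.exists_sylow_a
  obtain ⟨h8, hsq⟩ := D.sylow_two S₂
  obtain ⟨b, hbS, hb1, hba⟩ : ∃ b ∈ (S₂ : Subgroup ↥(foldK K m).fix), b ≠ 1 ∧ b ≠ D.a := by
    by_contra hc
    push Not at hc
    have hle' : ((S₂ : Subgroup ↥(foldK K m).fix) : Set ↥(foldK K m).fix) ⊆ {1, D.a} := fun y hy => by
      by_cases hy1 : y = 1
      · exact Or.inl hy1
      · exact Or.inr (hc y hy hy1)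
    have h2 := (Set.ncard_le_ncard hle' (Set.toFinite _)).trans (Set.ncard_insert_le _ _)
    rw [Set.ncard_singleton, ← Nat.card_coe_set_eq] at h2
    exact absurd (h8 ▸ h2) (by norm_num)
  have ha2 : D.a * D.a = 1 := D.a_sq
  have hbo : orderOf b = 2 := orderOf_eq_prime (by rw [pow_two, hsq b hbS]) hb1
  have habo : orderOf (D.a * b) = 2 := orderOf_eq_prime
    (by rw [pow_two, hsq _ (mul_mem haS hbS)]) fun h => hba ((eq_inv_of_mul_eq_one_right h).trans (inv_eq_of_mul_eq_one_right ha2))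
  have h4 : 4 ∣ finrank ℂ V := four_dvd_finrank ρ ha2 (hsq b hbS) (D.sylow_two_comm S₂ haS hbS)
    (hall _ D.orderOf_a) (hall _ hbo) (hall _ habo)
  obtain ⟨-, hq8, -⟩ := D.q_facts
  obtain ⟨k, hk⟩ : ∃ k, q = 8 * k + 3 := ⟨q / 8, by omega⟩
  rw [hkq, hk, show (8 * k + 3) * (8 * k + 3 - 1) = 4 * (16 * k * k + 10 * k + 1) + 2 by
    rw [show 8 * k + 3 - 1 = 8 * k + 2 from rfl]; ring] at h4
  omega

/-- An irreducible representation of degree at least two. -/
theorem degree_bound_irreducible (hK : Fintype.card K = 3 ^ (2 * m + 1)) (hm : 1 ≤ m) {k : ℕ}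
    (ρ : Representation ℂ (twistedG2 K (3 ^ m)) (Fin k → ℂ)) (hρ : ρ.IsIrreducible) (hk : 2 ≤ k) :
    (3 ^ (2 * m + 1)) ^ 2 - 3 ^ (2 * m + 1) + 1 ≤ k := by
  obtain ⟨g, hg⟩ : ∃ g, ρ g ≠ 1 := by
    by_contra hc
    push Not at hc
    let i : Fin k := ⟨0, by omega⟩
    let W : Subrepresentation ρ :=
      ⟨ℂ ∙ (Pi.single i 1 : Fin k → ℂ), fun g v hv => by rw [hc g]; exact hv⟩
    have h1 : finrank ℂ W.toSubmodule = 1 :=
      finrank_span_singleton (by simp [i] : (Pi.single i 1 : Fin k → ℂ) ≠ 0)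
    rcases IsSimpleOrder.eq_bot_or_eq_top W with h | h
    · rw [h] at h1
      have h2 : finrank ℂ ((⊥ : Subrepresentation ρ).toSubmodule) = 0 := finrank_bot ℂ _
      omega
    · rw [h] at h1
      have h2 : finrank ℂ ((⊤ : Subrepresentation ρ).toSubmodule) = k :=
        (finrank_top ℂ (Fin k → ℂ)).trans (Module.finrank_fin_fun ℂ)
      omega
  let e := MulEquiv.subgroupCongr (twisted_eq hK)
  have h := degree_bound hK hm (V := Fin k → ℂ) (ρ.comp e.symm.toMonoidHom) ⟨e g, by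
    simpa using hg⟩
  rwa [Module.finrank_fin_fun] at h

end Cfsg.Agent.ReeTori
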