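/-
Consequences for groups with the local data of a small Ree group.

* `KTorus`, `exists_kTorus` : the four cyclic tori
* `sylow_cyclic`, `element_orders`, `cyclic_conj`, `solvable_le`
-/
import Cfsg.Agent.Lib.ReeTori.Count

set_option autoImplicit false
set_option linter.unusedSectionVars false

namespace Cfsg.Agent.ReeTori

open Subgroup
open scoped Pointwise

variable {G : Type*} [Group G]

theorem conj_mem_map {g x : G} {B : Subgroup G} :
    g * x * g⁻¹ ∈ B.map (MulAut.conj g).toMonoidHom ↔ x ∈ B :=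
  ⟨fun ⟨y, hy, e⟩ => MulEquiv.injective (MulAut.conj g) e ▸ hy, fun h => ⟨x, h, rfl⟩⟩

theorem mem_normalizer_conj {g x : G} {B : Subgroup G} (hx : x ∈ normalizer (B : Set G)) :
    g * x * g⁻¹ ∈ normalizer (B.map (MulAut.conj g).toMonoidHom : Set G) := by
  rw [← map_equiv_normalizer_eq]
  exact ⟨x, hx, rfl⟩

theorem map_conj_inv (g : G) (B : Subgroup G) :
    (B.map (MulAut.conj g⁻¹).toMonoidHom).map (MulAut.conj g).toMonoidHom = B := by
  rw [map_map]
  have : (MulAut.conj g).toMonoidHom.comp (MulAut.conj g⁻¹).toMonoidHom = MonoidHom.id G := by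
    ext x; simp [mul_assoc]
  rw [this, map_id]

/-- A cyclic subgroup of order `k` with centraliser `C₀`, controlling its subgroups. -/
structure KTorus (G : Type*) [Group G] (k N : ℕ) where
  A : Subgroup G
  C₀ : Subgroup G
  cyclic : IsCyclic A
  card_A : Nat.card A = k
  A_le : A ≤ C₀
  card_N : Nat.card (normalizer (A : Set G)) = N
  mem : ∀ x ∈ C₀, x ^ k = 1 → x ∈ A
  cent : ∀ A₀ : Subgroup G, A₀ ≤ A → A₀ ≠ ⊥ → centralizer (A₀ : Set G) = C₀
  norm : ∀ A₀ : Subgroup G, A₀ ≤ A → A₀ ≠ ⊥ → normalizer (A₀ : Set G) = normalizer (A : Set G)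
  sylow : ∀ p : ℕ, p.Prime → p ∣ k → ∀ x : G, orderOf x = p → ∃ g : G, g * x * g⁻¹ ∈ A

namespace KTorus

variable [Finite G] {k N : ℕ} (T : KTorus G k N)
include T

theorem zpowers_ne_bot {x : G} (hx : x ≠ 1) : zpowers x ≠ ⊥ := by rwa [ne_eq, zpowers_eq_bot]

/-- An abelian subgroup of exponent dividing `k` with an element of prime order is conjugate into `A`. -/
theorem exists_conj_le (B : Subgroup G) (hB : ∀ x ∈ B, ∀ y ∈ B, x * y = y * x) (hexp : ∀ x ∈ B, x ^ k = 1)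
    {p : ℕ} (hp : p.Prime) (hpk : p ∣ k) {y : G} (hy : y ∈ B) (hyo : orderOf y = p) :
    ∃ g : G, B.map (MulAut.conj g).toMonoidHom ≤ T.A := by
  obtain ⟨g, hg⟩ := T.sylow p hp hpk y hyo
  refine ⟨g, ?_⟩
  rintro _ ⟨x, hx, rfl⟩
  have hy1 : g * y * g⁻¹ ≠ 1 := fun h => by
    rw [conj_eq_one_iff.1 h, orderOf_one] at hyo
    exact hp.one_lt.ne hyo
  refine T.mem _ ?_ ?_
  · rw [← T.cent _ (zpowers_le.2 hg) (T.zpowers_ne_bot hy1)]
    refine mem_centralizer_iff.2 ?_
    rintro _ ⟨j, rfl⟩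
    exact ((((show Commute y x from hB y hy x hx).map (MulAut.conj g).toMonoidHom)).zpow_left j).eq
  · show (g * x * g⁻¹) ^ k = 1
    rw [conj_pow, hexp x hx, mul_one, mul_inv_cancel]

theorem cyclic_conj {d : ℕ} (hd : d ∣ k) (B B' : Subgroup G) (hB : IsCyclic B) (hB' : IsCyclic B')
    (hBd : Nat.card B = d) (hB'd : Nat.card B' = d) :
    ∃ g : G, B' = B.map (MulAut.conj g).toMonoidHom := by
  by_cases hd1 : d = 1
  · subst hd1
    refine ⟨1, ?_⟩
    rw [eq_bot_of_card_eq _ hB'd, eq_bot_of_card_eq _ hBd, Subgroup.map_bot]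
  obtain ⟨p, hp, hpd⟩ := Nat.exists_prime_and_dvd hd1
  haveI := Fact.mk hp
  have key : ∀ C : Subgroup G, IsCyclic C → Nat.card C = d → ∃ g : G, C.map (MulAut.conj g).toMonoidHom ≤ T.A := by
    intro C hC hCd
    obtain ⟨y, hy⟩ := exists_prime_orderOf_dvd_card' (G := C) p (hCd ▸ hpd)
    haveI := hC
    obtain ⟨c, hc⟩ := IsCyclic.exists_generator (α := C)
    refine T.exists_conj_le C (fun u hu v hv => ?_) (fun u hu => ?_) hp (hpd.trans hd) y.2
      ((orderOf_coe y).trans hy)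
    · obtain ⟨i, hi⟩ := hc ⟨u, hu⟩
      obtain ⟨j, hj⟩ := hc ⟨v, hv⟩
      exact congrArg Subtype.val
        (show (⟨u, hu⟩ : C) * ⟨v, hv⟩ = ⟨v, hv⟩ * ⟨u, hu⟩ by rw [← hi, ← hj]; exact zpow_mul_comm c i j)
    · exact orderOf_dvd_iff_pow_eq_one.1 ((orderOf_dvd_natCard _ hu).trans (hCd ▸ hd))
  obtain ⟨g, hg⟩ := key B hB hBd
  obtain ⟨g', hg'⟩ := key B' hB' hB'd
  have he : B.map (MulAut.conj g).toMonoidHom = B'.map (MulAut.conj g').toMonoidHom :=
    eq_of_card_cyclic T.cyclic hg hg' (by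
      rw [card_map_of_injective (MulEquiv.injective _), card_map_of_injective (MulEquiv.injective _), hBd, hB'd])
  refine ⟨g'⁻¹ * g, ?_⟩
  rw [map_mul, show (MulAut.conj g'⁻¹ * MulAut.conj g).toMonoidHom =
      (MulAut.conj g'⁻¹).toMonoidHom.comp (MulAut.conj g).toMonoidHom from rfl, ← map_map, he]
  have := map_conj_inv g'⁻¹ B'
  rw [inv_inv] at this
  exact this.symm

/-- Centralisers of the cyclic subgroups of order `k`. -/
theorem centralizer_of_card (hk : 1 < k) (B : Subgroup G) (hB : IsCyclic B) (hBk : Nat.card B = k) :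
    ∃ g : G, centralizer (B : Set G) = T.C₀.map (MulAut.conj g).toMonoidHom ∧
      ∀ A₀ : Subgroup G, A₀ ≤ B → A₀ ≠ ⊥ → centralizer (A₀ : Set G) = centralizer (B : Set G) := by
  obtain ⟨g, rfl⟩ := T.cyclic_conj dvd_rfl T.A B T.cyclic hB T.card_A hBk
  have key : ∀ A₀ : Subgroup G, A₀ ≤ T.A → A₀ ≠ ⊥ →
      centralizer (A₀.map (MulAut.conj g).toMonoidHom : Set G) = T.C₀.map (MulAut.conj g).toMonoidHom := by
    intro A₀ h hne
    rw [← T.cent A₀ h hne]
    ext x
    constructor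
    · intro hx
      refine ⟨g⁻¹ * x * g, mem_centralizer_iff.2 fun y hy => ?_, by
        show g * (g⁻¹ * x * g) * g⁻¹ = x; group⟩
      have := mem_centralizer_iff.1 hx (g * y * g⁻¹) ⟨y, hy, rfl⟩
      calc y * (g⁻¹ * x * g) = g⁻¹ * (g * y * g⁻¹ * x) * g := by group
        _ = g⁻¹ * (x * (g * y * g⁻¹)) * g := by rw [this]
        _ = g⁻¹ * x * g * y := by group
    · rintro ⟨z, hz, rfl⟩
      refine mem_centralizer_iff.2 ?_
      rintro _ ⟨y, hy, rfl⟩
      exact ((show Commute y z from mem_centralizer_iff.1 hz y hy).map (MulAut.conj g).toMonoidHom).eq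
  have hAne : T.A ≠ ⊥ := fun h => by
    have := T.card_A
    rw [h, card_bot] at this
    omega
  refine ⟨g, key T.A le_rfl hAne, fun A₀ h hne => ?_⟩
  set A₁ := A₀.map (MulAut.conj g⁻¹).toMonoidHom with hA₁
  have e : A₁.map (MulAut.conj g).toMonoidHom = A₀ := map_conj_inv g A₀
  rw [← e, key A₁ ?_ ?_, key T.A le_rfl hAne]
  · intro x hx
    exact conj_mem_map.1 (h (e ▸ conj_mem_map.2 hx))
  · intro h'
    rw [h', Subgroup.map_bot] at e
    exact hne e.symm

end KTorus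

/-- A nontrivial solvable group normalises an abelian subgroup of prime exponent. -/
theorem exists_normal_elementary {G : Type*} [Group G] [Finite G] (S : Subgroup G) (hS : Group.IsSolvable S) (hne : S ≠ ⊥) :
    ∃ p M, p.Prime ∧ M ≤ S ∧ M ≠ ⊥ ∧ S ≤ normalizer (M : Set G) ∧ (∀ x ∈ M, x ^ p = 1) ∧
      ∀ x ∈ M, ∀ y ∈ M, x * y = y * x := by
  obtain ⟨n, hn⟩ := hS
  have hex : ∃ n, derivedSeries S n = ⊥ := ⟨n, hn⟩
  classical
  obtain ⟨n, hn, hmin⟩ : ∃ n, derivedSeries S n = ⊥ ∧ ∀ j < n, derivedSeries S j ≠ ⊥ :=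
    ⟨Nat.find hex, Nat.find_spec hex, fun j hj => Nat.find_min hex hj⟩
  obtain ⟨j, rfl⟩ : ∃ j, n = j + 1 := by
    rcases n with _ | j
    · exfalso
      haveI : Nontrivial S := (nontrivial_iff_ne_bot S).2 hne
      rw [derivedSeries_zero] at hn
      exact (bot_ne_top (α := Subgroup S)) hn.symm
    · exact ⟨j, rfl⟩
  set A := derivedSeries S j with hA
  have hA1 : A ≠ ⊥ := hmin j (Nat.lt_succ_self j)
  have hAc : ∀ x ∈ A, ∀ y ∈ A, x * y = y * x := fun x hx y hy => by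
    have h : ⁅A, A⁆ = ⊥ := hn
    exact (mem_centralizer_iff.1 ((commutator_eq_bot_iff_le_centralizer.1 h) hy) x hx)
  have hAcard : Nat.card A ≠ 1 := fun h => hA1 (eq_bot_of_card_eq A h)
  obtain ⟨p, hp, hpA⟩ := Nat.exists_prime_and_dvd hAcard
  haveI := Fact.mk hp
  obtain ⟨z, hz⟩ := exists_prime_orderOf_dvd_card' (G := A) p hpA
  let B : Subgroup S :=
    { carrier := {x | x ∈ A ∧ x ^ p = 1}
      one_mem' := ⟨one_mem A, one_pow p⟩
      mul_mem' := fun {x y} hx hy => ⟨mul_mem hx.1 hy.1, by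
        rw [(show Commute x y from hAc x hx.1 y hy.1).mul_pow, hx.2, hy.2, one_mul]⟩
      inv_mem' := fun {x} hx => ⟨inv_mem hx.1, by rw [inv_pow, hx.2, inv_one]⟩ }
  have hB1 : (z : S) ∈ B := ⟨z.2, by rw [← hz, ← orderOf_coe, pow_orderOf_eq_one]⟩
  refine ⟨p, B.map S.subtype, hp, map_subtype_le _, fun h => ?_, fun g hg => ?_, ?_, ?_⟩
  · have hz1 : ((z : S) : G) = 1 := by
      rw [← mem_bot, ← h]; exact ⟨_, hB1, rfl⟩
    rw [← orderOf_coe, ← orderOf_coe, hz1, orderOf_one] at hz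
    exact hp.one_lt.ne hz
  · refine mem_normalizer_fintype ?_
    rintro _ ⟨y, hy, rfl⟩
    have hnorm : A.Normal := derivedSeries_normal S j
    exact ⟨⟨g, hg⟩ * y * ⟨g, hg⟩⁻¹, ⟨hnorm.conj_mem y hy.1 _, by rw [conj_pow, hy.2, mul_one, mul_inv_cancel]⟩,
      rfl⟩
  · rintro _ ⟨y, hy, rfl⟩
    rw [← map_pow, hy.2, map_one]
  · rintro _ ⟨y, hy, rfl⟩ _ ⟨y', hy', rfl⟩
    rw [← map_mul, hAc y hy.1 y' hy'.1, map_mul]

namespace Data

variable {L : Type*} [Group L] {q : ℕ} [Finite G] [Finite L] (D : Data G L q)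
include D

theorem exists_kTorus_H : ∃ T : KTorus G ((q - 1) / 2) (2 * (q - 1)), T.C₀ = D.H := by
  obtain ⟨hq27, hq8, -⟩ := D.q_facts
  haveI := D.H_cyclic
  obtain ⟨c, hc⟩ := IsCyclic.exists_generator (α := D.H)
  have hco : orderOf (c : G) = q - 1 := by
    rw [orderOf_coe, orderOf_eq_card_of_forall_mem_zpowers hc, D.H_card]
  set A := zpowers ((c : G) ^ 2) with hA
  have hcardA : Nat.card A = (q - 1) / 2 := by
    rw [hA, Nat.card_zpowers, orderOf_pow_of_dvd two_ne_zero (hco ▸ ⟨(q - 1) / 2, by omega⟩), hco]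
  have hAH : A ≤ D.H := zpowers_le.2 (pow_mem c.2 2)
  have hsq : ∀ x ∈ A, x ≠ 1 → x * x ≠ 1 := fun x hx hx1 h => by
    have h2 : orderOf x ∣ 2 := orderOf_dvd_of_pow_eq_one (by rwa [pow_two])
    have h3 : orderOf x ∣ Nat.gcd 2 ((q - 1) / 2) := Nat.dvd_gcd h2 (hcardA ▸ orderOf_dvd_natCard _ hx)
    rw [show Nat.gcd 2 ((q - 1) / 2) = 1 from Nat.coprime_two_left.2 (Nat.odd_iff.2 (by omega))] at h3
    exact hx1 (orderOf_eq_one_iff.1 (Nat.dvd_one.1 h3))
  have hcent : ∀ A₀ : Subgroup G, A₀ ≤ A → A₀ ≠ ⊥ → centralizer (A₀ : Set G) = D.H := by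
    intro A₀ h hne
    haveI := (nontrivial_iff_ne_bot A₀).2 hne
    obtain ⟨⟨x, hx⟩, hx1⟩ := exists_ne (1 : A₀)
    refine le_antisymm ?_ fun y hy => mem_centralizer_iff.2 fun z hz => D.H_comm (hAH (h hz)) hy
    rw [← D.centralizer_H (hAH (h hx)) (hsq x (h hx) fun e => hx1 (Subtype.ext e))]
    exact centralizer_le (Set.singleton_subset_iff.2 hx)
  have hAne : A ≠ ⊥ := fun h => by rw [h, card_bot] at hcardA; omega
  have hN : ∀ A₀ : Subgroup G, A₀ ≤ A → A₀ ≠ ⊥ → normalizer (A₀ : Set G) = normalizer (D.H : Set G) :=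
    fun A₀ h hne => le_antisymm (hcent A₀ h hne ▸ normalizer_le_centralizer A₀)
      (normalizer_le_of_cyclic D.H_cyclic (h.trans hAH))
  refine ⟨⟨A, D.H, isCyclic_zpowers _, hcardA, hAH, by rw [hN A le_rfl hAne, D.card_normalizer_H],
    fun x hx hxk => ?_, hcent, fun A₀ h hne => (hN A₀ h hne).trans (hN A le_rfl hAne).symm,
    fun p hp hpk x hx => ?_⟩, rfl⟩
  · obtain ⟨j, hj⟩ := hc ⟨x, hx⟩
    have hj' : x = (c : G) ^ j := (congrArg Subtype.val hj).symm
    have hd : (orderOf (c : G) : ℤ) ∣ j * (((q - 1) / 2 : ℕ) : ℤ) := orderOf_dvd_iff_zpow_eq_one.2 (by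
      rw [zpow_mul, ← hj', zpow_natCast, hxk])
    rw [hco] at hd
    obtain ⟨u, hu⟩ := hd
    rw [show q - 1 = 2 * ((q - 1) / 2) by omega, Nat.cast_mul, Nat.mul_div_cancel_left _ two_pos] at hu
    have hju : j = 2 * u := by
      refine mul_right_cancel₀ (show (((q - 1) / 2 : ℕ) : ℤ) ≠ 0 by omega) ?_
      rw [hu]; push_cast; ring
    rw [hj', hju, zpow_mul, zpow_two, ← pow_two]
    exact zpow_mem (mem_zpowers _) u
  · have hp2 : p ≠ 2 := by rintro rfl; omega
    obtain ⟨g, hg⟩ := D.exists_conj_H hp hp2 (hpk.trans ⟨2, by omega⟩) hx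
    refine ⟨g, ?_⟩
    obtain ⟨j, hj⟩ := hc ⟨_, hg⟩
    have hj' : g * x * g⁻¹ = (c : G) ^ j := (congrArg Subtype.val hj).symm
    obtain ⟨s, hs⟩ := hp.odd_of_ne_two hp2
    have e : g * x * g⁻¹ = ((g * x * g⁻¹) ^ 2) ^ (s + 1) := by
      rw [← pow_mul, show 2 * (s + 1) = orderOf (g * x * g⁻¹) + 1 by rw [orderOf_conj, hx, hs]; ring,
        pow_add, pow_orderOf_eq_one, one_mul, pow_one]
    rw [e, hj', ← zpow_natCast ((c : G) ^ j) 2, ← zpow_mul, mul_comm j, zpow_mul, zpow_natCast]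
    exact pow_mem (zpow_mem (mem_zpowers _) j) _

theorem exists_kTorus_Y {T E Y : Subgroup G} (hT : D.Torus T E Y) :
    ∃ S : KTorus G ((q + 1) / 4) (6 * (q + 1)), S.C₀ = T ∧ S.A = Y := by
  obtain ⟨hq27, hq8, -⟩ := D.q_facts
  have hcent : ∀ A₀ : Subgroup G, A₀ ≤ Y → A₀ ≠ ⊥ → centralizer (A₀ : Set G) = T := by
    intro A₀ h hne
    haveI := (nontrivial_iff_ne_bot A₀).2 hne
    obtain ⟨⟨x, hx⟩, hx1⟩ := exists_ne (1 : A₀)
    refine le_antisymm ?_ fun y hy =>
      mem_centralizer_iff.2 fun z hz => hT.comm z (hT.Y_le (h hz)) y hy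
    rw [← hT.cent x (h hx) fun e => hx1 (Subtype.ext e)]
    exact centralizer_le (Set.singleton_subset_iff.2 hx)
  refine ⟨⟨Y, T, hT.Y_cyclic, hT.card_Y, hT.Y_le, by rw [hT.N_Y, hT.card_N], fun x hx hxk => ?_, hcent,
    fun A₀ h hne => ?_, fun p hp hpk x hx => hT.exists_conj_Y hp ?_ (hpk.trans ⟨4, by omega⟩) hx⟩, rfl, rfl⟩
  · obtain ⟨s, hs⟩ : Odd (orderOf x) :=
      Odd.of_dvd_nat (Nat.odd_iff.2 (by omega)) (orderOf_dvd_of_pow_eq_one hxk)
    have e : x = (x * x) ^ (s + 1) := by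
      rw [← pow_two, ← pow_mul, show 2 * (s + 1) = orderOf x + 1 by omega, pow_add, pow_orderOf_eq_one,
        one_mul, pow_one]
    rw [e]
    exact pow_mem (hT.sq x hx) _
  · refine le_antisymm ?_ (normalizer_le_of_cyclic hT.Y_cyclic h)
    rw [hT.N_Y, ← hcent A₀ h hne]
    exact normalizer_le_centralizer A₀
  · rintro rfl; omega

theorem exists_kTorus_reg {r : ℕ} (hr : r * r = 3 * q) {k : ℕ} (hk : k = q - r + 1 ∨ k = q + r + 1) :
    ∃ S : KTorus G k (6 * k), S.C₀ = S.A := by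
  obtain ⟨hA1, hA2, hall⟩ := D.exists_regular hr
  obtain ⟨A, hA, hAk⟩ : ∃ A, D.IsReg A ∧ Nat.card A = k := by
    rcases hk with rfl | rfl
    exacts [hA1, hA2]
  obtain ⟨hcyc, -, -, hcent⟩ := D.reg_basic hA
  obtain ⟨p, z, hp, hpQ, hz, hAz⟩ := id hA
  have hN := (D.regular_normalizer hp hpQ hz).2
  rw [← hAz] at hN
  refine ⟨⟨A, A, hcyc, hAk, le_rfl, by rw [(hall A hA).2, hAk], fun x hx _ => hx, fun A₀ h hne => ?_, hN,
    fun p' hp' hpk x hx => D.exists_conj_reg hA hp' (hAk ▸ hpk) (dvd_of_eq hx.symm)⟩, rfl⟩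
  haveI := (nontrivial_iff_ne_bot A₀).2 hne
  obtain ⟨⟨x, hx⟩, hx1⟩ := exists_ne (1 : A₀)
  refine le_antisymm ?_ fun y hy => mem_centralizer_iff.2 fun u hu => ?_
  · rw [← hcent x (h hx) fun e => hx1 (Subtype.ext e)]
    exact centralizer_le (Set.singleton_subset_iff.2 hx)
  · by_cases hu1 : u = 1
    · rw [hu1, one_mul, mul_one]
    · exact (mem_centralizer_singleton_iff.1 ((hcent u (h hu) hu1).ge hy)).symm

theorem exists_kTorus {r : ℕ} (hr : r * r = 3 * q) {k : ℕ}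
    (hk : k = (q - 1) / 2 ∨ k = (q + 1) / 4 ∨ k = q - r + 1 ∨ k = q + r + 1) :
    ∃ N, Nonempty (KTorus G k N) := by
  rcases hk with rfl | rfl | h
  · obtain ⟨T, -⟩ := D.exists_kTorus_H
    exact ⟨_, ⟨T⟩⟩
  · obtain ⟨T, E, Y, hT⟩ := D.exists_torus
    obtain ⟨S, -⟩ := D.exists_kTorus_Y hT
    exact ⟨_, ⟨S⟩⟩
  · obtain ⟨S, -⟩ := D.exists_kTorus_reg hr h
    exact ⟨_, ⟨S⟩⟩

/-- Every prime `p > 3` dividing the order divides one of the four torus orders. -/
theorem prime_cases {r : ℕ} (hr : r * r = 3 * q) {p : ℕ} (hp : p.Prime) (hp2 : p ≠ 2) (hp3 : p ≠ 3)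
    (hpG : p ∣ Nat.card G) :
    ∃ k, (k = (q - 1) / 2 ∨ k = (q + 1) / 4 ∨ k = q - r + 1 ∨ k = q + r + 1) ∧ p ∣ k := by
  obtain ⟨hq27, hq8, -⟩ := D.q_facts
  rw [D.card_eq] at hpG
  rcases hp.dvd_mul.1 hpG with h | h
  · obtain ⟨m, -, hqm⟩ := D.q_pow
    exact absurd ((Nat.prime_dvd_prime_iff_eq hp Nat.prime_three).1
      (hp.dvd_of_dvd_pow (hqm ▸ hp.dvd_of_dvd_pow h))) hp3
  have hco : p.Coprime 4 := (hp.coprime_iff_not_dvd).2 fun h4 =>
    hp2 ((Nat.prime_dvd_prime_iff_eq hp Nat.prime_two).1 (hp.dvd_of_dvd_pow (m := 2) (n := 2) h4))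
  rcases hp.dvd_mul.1 h with h | h
  rcases hp.dvd_mul.1 h with h | h
  · refine ⟨_, Or.inl rfl, ?_⟩
    rw [show q - 1 = 2 * ((q - 1) / 2) by omega] at h
    exact (hp.dvd_mul.1 h).resolve_left fun h => hp2 ((Nat.prime_dvd_prime_iff_eq hp Nat.prime_two).1 h)
  · refine ⟨_, Or.inr (Or.inl rfl), ?_⟩
    rw [show q + 1 = 4 * ((q + 1) / 4) by omega] at h
    exact hco.dvd_of_dvd_mul_left h
  · obtain ⟨-, -, hall⟩ := D.exists_regular hr
    obtain ⟨A, hA, hpA⟩ := D.exists_reg_of_prime hp h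
    exact ⟨Nat.card A, Or.inr (Or.inr (hall A hA).1), by simpa using hpA 1 (by simpa using h)⟩

theorem sylow_cyclic {r : ℕ} (hr : r * r = 3 * q) {p : ℕ} [Fact p.Prime] (hp : 3 < p) (P : Sylow p G) :
    IsCyclic (P : Subgroup G) := by
  have hp' : p.Prime := Fact.out
  by_cases hpG : p ∣ Nat.card G
  swap
  · have : Nat.card (P : Subgroup G) = 1 := by
      rw [P.card_eq_multiplicity, Nat.factorization_eq_zero_of_not_dvd hpG, pow_zero]
    haveI := (Nat.card_eq_one_iff_unique.1 this).1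
    exact isCyclic_of_subsingleton
  have key : ∀ B : Subgroup G, IsCyclic B → (Nat.card G).factorization p ≤ (Nat.card B).factorization p →
      IsCyclic (P : Subgroup G) := by
    intro B hB hfac
    obtain ⟨R⟩ : Nonempty (Sylow p B) := inferInstance
    have hR : Nat.card ((R : Subgroup B).map B.subtype) = p ^ (Nat.card G).factorization p := by
      rw [card_map_of_injective (subtype_injective _), R.card_eq_multiplicity,
        le_antisymm ((Nat.factorization_le_iff_dvd Nat.card_pos.ne' Nat.card_pos.ne').2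
          (card_subgroup_dvd_card B) p) hfac]
    haveI := hB
    exact isCyclic_of_surjective
      (((R : Subgroup B).equivMapOfInjective B.subtype (subtype_injective _)).trans
        ((Sylow.ofCard _ hR).equiv P)).toMonoidHom
      (((R : Subgroup B).equivMapOfInjective B.subtype (subtype_injective _)).trans
        ((Sylow.ofCard _ hR).equiv P)).surjective
  obtain ⟨hq27, hq8, -⟩ := D.q_facts
  obtain ⟨m, -, hqm⟩ := D.q_pow
  have n0 : ¬ p ∣ q ^ 3 := fun h => by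
    have := (Nat.prime_dvd_prime_iff_eq hp' Nat.prime_three).1 (hp'.dvd_of_dvd_pow (hqm ▸ hp'.dvd_of_dvd_pow h))
    omega
  have h2 : ∀ n : ℕ, p ∣ n → p ∣ 2 → False := fun n _ h => by
    have := Nat.le_of_dvd two_pos h; omega
  have hfac : (Nat.card G).factorization p = (q - 1).factorization p + (q + 1).factorization p +
      (q ^ 2 - q + 1).factorization p := by
    rw [D.card_eq, Nat.factorization_mul (by positivity) (Nat.mul_ne_zero
        (Nat.mul_ne_zero (by omega) (by omega)) (by omega)), Finsupp.add_apply,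
      Nat.factorization_eq_zero_of_not_dvd n0,
      Nat.factorization_mul (Nat.mul_ne_zero (by omega) (by omega)) (by omega), Finsupp.add_apply,
      Nat.factorization_mul (by omega) (by omega), Finsupp.add_apply, zero_add]
  have hpG' := hpG
  rw [D.card_eq] at hpG'
  rcases hp'.dvd_mul.1 hpG' with h | h
  · exact absurd h n0
  have nA : p ∣ q - 1 → ¬ p ∣ q + 1 := fun a b => by
    have := Nat.dvd_sub b a
    rw [show q + 1 - (q - 1) = 2 by omega] at this
    exact h2 2 this this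
  have nQ : p ∣ q ^ 2 - q + 1 → ¬ p ∣ q - 1 ∧ ¬ p ∣ q + 1 := fun a =>
    ⟨(D.not_dvd_of_dvd_Q hp' a).2.1, (D.not_dvd_of_dvd_Q hp' a).2.2.1⟩
  rcases hp'.dvd_mul.1 h with h | h
  rcases hp'.dvd_mul.1 h with h | h
  · refine key D.H D.H_cyclic (le_of_eq ?_)
    rw [hfac, D.H_card, Nat.factorization_eq_zero_of_not_dvd (nA h),
      Nat.factorization_eq_zero_of_not_dvd fun a => (nQ a).1 h]
    rfl
  · obtain ⟨T, E, Y, hT⟩ := D.exists_torus
    refine key Y hT.Y_cyclic (le_of_eq ?_)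
    have h4 : ¬ p ∣ 4 := fun a => by
      have := hp'.dvd_of_dvd_pow (m := 2) (n := 2) a
      exact h2 2 this this
    rw [hfac, hT.card_Y, Nat.factorization_eq_zero_of_not_dvd fun a => nA a h,
      Nat.factorization_eq_zero_of_not_dvd fun a => (nQ a).2 h, zero_add, add_zero]
    conv_lhs => rw [show q + 1 = 4 * ((q + 1) / 4) by omega,
      Nat.factorization_mul (by norm_num) (by omega), Finsupp.add_apply,
      Nat.factorization_eq_zero_of_not_dvd h4, zero_add]
  · obtain ⟨A, hA, hpk⟩ := D.exists_reg_of_prime hp' h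
    refine key A (D.reg_basic hA).1 ?_
    rw [hfac, Nat.factorization_eq_zero_of_not_dvd (nQ h).1, Nat.factorization_eq_zero_of_not_dvd (nQ h).2,
      zero_add, zero_add]
    exact (hp'.pow_dvd_iff_le_factorization Nat.card_pos.ne').1 (hpk _ (Nat.ordProj_dvd _ _))

theorem exists_order_six : ∃ g : G, orderOf g = 6 := by
  obtain ⟨hq27, -, -⟩ := D.q_facts
  by_contra hne
  have h := D.card_order_six
  haveI : IsEmpty {g : G // orderOf g = 6} := ⟨fun g => hne ⟨g, g.2⟩⟩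
  rw [Nat.card_of_isEmpty] at h
  exact absurd h.symm (Nat.mul_pos (Nat.mul_pos (by positivity) (by omega))
    (Nat.mul_pos (by omega) (by omega))).ne'

theorem exists_order_nine : ∃ g : G, orderOf g = 9 := by
  obtain ⟨hq27, -, -⟩ := D.q_facts
  by_contra hne
  have h := D.card_order_nine
  haveI : IsEmpty {g : G // orderOf g = 9} := ⟨fun g => hne ⟨g, g.2⟩⟩
  rw [Nat.card_of_isEmpty] at h
  have : q ^ 2 < q ^ 3 := Nat.pow_lt_pow_right (by omega) (by norm_num)
  exact absurd h.symm (Nat.mul_pos (by positivity) (by omega)).ne'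

theorem element_orders {r : ℕ} (hr : r * r = 3 * q) (d : ℕ) :
    (∃ g : G, orderOf g = d) ↔
      (d ∣ 6 ∨ d ∣ 9 ∨ d ∣ q - 1 ∨ d ∣ (q + 1) / 2 ∨ d ∣ q - r + 1 ∨ d ∣ q + r + 1) := by
  obtain ⟨hq27, hq8, -⟩ := D.q_facts
  obtain ⟨hA1, hA2, hall⟩ := D.exists_regular hr
  constructor
  · rintro ⟨g, rfl⟩
    rcases D.classify g with h | h | h | h | h | ⟨-, h, -⟩ | ⟨-, h⟩ | ⟨-, p, z, hp, hpQ, hz, hg⟩
    · exact Or.inl (h ▸ one_dvd 6)
    · exact Or.inl (h ▸ by norm_num)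
    · exact Or.inl (h ▸ by norm_num)
    · exact Or.inl (h ▸ dvd_rfl)
    · exact Or.inr (Or.inl (h ▸ dvd_rfl))
    · exact Or.inr (Or.inr (Or.inl h))
    · exact Or.inr (Or.inr (Or.inr (Or.inl h)))
    · have hd := orderOf_dvd_natCard _ hg
      rcases (hall _ ⟨p, z, hp, hpQ, hz, rfl⟩).1 with e | e <;> rw [e] at hd
      · exact Or.inr (Or.inr (Or.inr (Or.inr (Or.inl hd))))
      · exact Or.inr (Or.inr (Or.inr (Or.inr (Or.inr hd))))
  · intro hd
    have key : ∀ n, d ∣ n → (∃ g : G, orderOf g = n) → ∃ g : G, orderOf g = d := by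
      rintro n hdn ⟨g, rfl⟩
      exact ⟨_, orderOf_pow_orderOf_div (orderOf_pos g).ne' hdn⟩
    have hcyc : ∀ A : Subgroup G, IsCyclic A → ∃ g : G, orderOf g = Nat.card A := fun A hA => by
      haveI := hA
      obtain ⟨c, hc⟩ := IsCyclic.exists_generator (α := A)
      exact ⟨c, by rw [orderOf_coe, orderOf_eq_card_of_forall_mem_zpowers hc]⟩
    rcases hd with h | h | h | h | h | h
    · exact key 6 h D.exists_order_six
    · exact key 9 h D.exists_order_nine
    · exact key _ h (D.H_card ▸ hcyc _ D.H_cyclic)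
    · obtain ⟨ι, hinj, -⟩ := D.exists_emb
      obtain ⟨-, y, hy⟩ := D.lfacts.exists_tor
      exact key _ h ⟨ι y, by rw [orderOf_injective ι hinj, hy]⟩
    · obtain ⟨A, hA, hAn⟩ := hA1
      exact key _ h (hAn ▸ hcyc A (D.reg_basic hA).1)
    · obtain ⟨A, hA, hAn⟩ := hA2
      exact key _ h (hAn ▸ hcyc A (D.reg_basic hA).1)

/-- The local subgroups of the classification of solvable subgroups. -/
def IsLocal (_ : Data G L q) (r : ℕ) (S : Subgroup G) : Prop :=
  ∃ A : Subgroup G, S ≤ normalizer (A : Set G) ∧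
    ((∃ P : Sylow 2 G, A = P) ∨ (∃ P : Sylow 3 G, A = P) ∨
      (IsCyclic A ∧ (Nat.card A = (q - 1) / 2 ∨ Nat.card A = (q + 1) / 4 ∨ Nat.card A = q - r + 1 ∨
        Nat.card A = q + r + 1)))

theorem isLocal_conj {r : ℕ} {S : Subgroup G} (g : G)
    (h : D.IsLocal r (S.map (MulAut.conj g).toMonoidHom)) : D.IsLocal r S := by
  obtain ⟨A, hSA, hA⟩ := h
  refine ⟨A.map (MulAut.conj g⁻¹).toMonoidHom, fun x hx => ?_, ?_⟩
  · have := mem_normalizer_conj (g := g⁻¹) (hSA (conj_mem_map.2 hx : g * x * g⁻¹ ∈ _))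
    rwa [show g⁻¹ * (g * x * g⁻¹) * g⁻¹⁻¹ = x by group] at this
  · rcases hA with ⟨P, rfl⟩ | ⟨P, rfl⟩ | ⟨hc, hk⟩
    · exact Or.inl ⟨g⁻¹ • P, rfl⟩
    · exact Or.inr (Or.inl ⟨g⁻¹ • P, rfl⟩)
    · refine Or.inr (Or.inr ⟨?_, by rwa [card_map_of_injective (MulEquiv.injective _)]⟩)
      haveI := hc
      exact isCyclic_of_surjective
        ((A.equivMapOfInjective (MulAut.conj g⁻¹).toMonoidHom (MulEquiv.injective _)).toMonoidHom)
        (A.equivMapOfInjective (MulAut.conj g⁻¹).toMonoidHom (MulEquiv.injective _)).surjective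

theorem isLocal_of_normal {r : ℕ} (hr : r * r = 3 * q) {S M : Subgroup G} (hM : M ≠ ⊥)
    (hSM : S ≤ normalizer (M : Set G)) {p : ℕ} (hp : p.Prime) (hexp : ∀ x ∈ M, x ^ p = 1)
    (hcomm : ∀ x ∈ M, ∀ y ∈ M, x * y = y * x) (h4 : p = 2 → 4 ≤ Nat.card M) : D.IsLocal r S := by
  haveI := Fact.mk hp
  haveI : Fact (Nat.Prime 3) := ⟨Nat.prime_three⟩
  haveI := (nontrivial_iff_ne_bot M).2 hM
  obtain ⟨⟨x, hx⟩, hx1⟩ := exists_ne (1 : M)
  have hx1' : x ≠ 1 := fun h => hx1 (Subtype.ext h)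
  have hxo : orderOf x = p := orderOf_eq_prime (hexp x hx) hx1'
  have hMp : IsPGroup p M := fun y => ⟨1, Subtype.ext (by rw [pow_one]; exact hexp y y.2)⟩
  obtain ⟨R, hR⟩ := hMp.exists_le_sylow
  have hord : ∀ y ∈ M, y ≠ 1 → orderOf y = p := fun y hy hy1 => orderOf_eq_prime (hexp y hy) hy1
  by_cases hp2 : p = 2
  · subst hp2
    have h8 : Nat.card M ∣ 8 := D.card_sylow_two R ▸ card_dvd_of_le hR
    have hcases : Nat.card M = 4 ∨ Nat.card M = 8 := by
      have h' := h4 rfl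
      have hmem : Nat.card M ∈ Nat.divisors 8 := Nat.mem_divisors.2 ⟨h8, by norm_num⟩
      rw [show Nat.divisors 8 = {1, 2, 4, 8} by decide] at hmem
      simp only [Finset.mem_insert, Finset.mem_singleton] at hmem
      omega
    rcases hcases with hc | hc
    swap
    · refine ⟨M, hSM, Or.inl ⟨R, eq_of_le_of_card_ge hR ?_⟩⟩
      rw [hc, D.card_sylow_two R]
    obtain ⟨T, E, Y, hT⟩ := D.exists_torus
    have hN : (M : Set G).ncard = 4 := by rw [← Nat.card_coe_set_eq]; exact hc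
    have hlt : ({1, x} : Set G).ncard < (M : Set G).ncard := by
      rw [Set.ncard_pair (Ne.symm hx1'), hN]; norm_num
    obtain ⟨u, hu, hu'⟩ := Set.exists_mem_notMem_of_ncard_lt_ncard hlt
    simp only [Set.mem_insert_iff, Set.mem_singleton_iff, not_or] at hu'
    obtain ⟨g, hg1, hg2⟩ := hT.four x u hxo (hord u hu hu'.1) (hcomm x hx u hu) (Ne.symm hu'.2)
    refine D.isLocal_conj g ⟨Y, ?_, Or.inr (Or.inr ⟨hT.Y_cyclic, Or.inr (Or.inl hT.card_Y)⟩)⟩
    rw [hT.N_Y, ← hT.N_E]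
    have hM' : M.map (MulAut.conj g).toMonoidHom = E := by
      refine eq_of_le_of_card_ge ?_ (by rw [card_map_of_injective (MulEquiv.injective _), hc, hT.card_E])
      have hsub : ({1, x, u, x * u} : Set G) ⊆ M := by
        simp only [Set.insert_subset_iff, Set.singleton_subset_iff]
        exact ⟨one_mem M, hx, hu, mul_mem hx hu⟩
      have hxu1 : x * u ≠ 1 := fun h => hu'.2 (by
        have hxx : x * x = 1 := by rw [← pow_two, hexp x hx]
        rw [← one_mul u, ← hxx, mul_assoc, h, mul_one])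
      have hc4 : ({1, x, u, x * u} : Set G).ncard = 4 := by
        rw [Set.ncard_insert_of_notMem, Set.ncard_insert_of_notMem,
          Set.ncard_pair (fun h => hx1' (right_eq_mul.1 h))] <;>
          simp [Ne.symm hx1', Ne.symm hu'.1, Ne.symm hu'.2, hu'.1, Ne.symm hxu1]
      have heq := Set.eq_of_subset_of_ncard_le hsub (by rw [hc4, hN])
      rintro _ ⟨y, hy, rfl⟩
      have hy' : y ∈ ({1, x, u, x * u} : Set G) := heq ▸ hy
      simp only [Set.mem_insert_iff, Set.mem_singleton_iff] at hy'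
      rcases hy' with rfl | rfl | rfl | rfl
      · rw [map_one]; exact one_mem E
      · exact hg1
      · exact hg2
      · rw [map_mul]; exact mul_mem hg1 hg2
    rintro _ ⟨y, hy, rfl⟩
    rw [← hM']
    exact mem_normalizer_conj (hSM hy)
  by_cases hp3 : p = 3
  · subst hp3
    refine ⟨R, fun g hg => ?_, Or.inr (Or.inl ⟨R, rfl⟩)⟩
    refine Sylow.smul_eq_iff_mem_normalizer.1 ?_
    by_contra hne
    have hgx : g * x * g⁻¹ ∈ (R : Subgroup G) := hR ((mem_normalizer_iff.1 (hSM hg) x).1 hx)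
    have := mem_bot.1 ((D.ti _ _ hne).le (mem_inf.2
      ⟨by rw [Sylow.coe_subgroup_smul]; exact ⟨x, hR hx, rfl⟩, hgx⟩))
    exact hx1' (conj_eq_one_iff.1 this)
  obtain ⟨k, hk, hpk⟩ := D.prime_cases hr hp hp2 hp3 (hxo ▸ orderOf_dvd_natCard x)
  obtain ⟨N, ⟨T⟩⟩ := D.exists_kTorus hr hk
  obtain ⟨g, hg⟩ := T.exists_conj_le M hcomm (fun y hy => by
    obtain ⟨c, rfl⟩ := hpk
    rw [pow_mul, hexp y hy, one_pow]) hp hpk hx hxo
  refine D.isLocal_conj g ⟨T.A, ?_, Or.inr (Or.inr ⟨T.cyclic, T.card_A.symm ▸ hk⟩)⟩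
  rw [← T.norm _ hg fun h => hM ((map_eq_bot_iff_of_injective _ (MulEquiv.injective _)).1 h)]
  rintro _ ⟨y, hy, rfl⟩
  exact mem_normalizer_conj (hSM hy)

theorem solvable_le {r : ℕ} (hr : r * r = 3 * q) (S : Subgroup G) (hS : Group.IsSolvable S) :
    D.IsLocal r S := by
  haveI : Fact (Nat.Prime 2) := ⟨Nat.prime_two⟩
  by_cases hbot : S = ⊥
  · exact ⟨D.P, hbot ▸ bot_le, Or.inr (Or.inl ⟨D.P, rfl⟩)⟩
  obtain ⟨p, M, hp, -, hM, hSM, hexp, hcomm⟩ := exists_normal_elementary S hS hbot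
  by_cases h4 : p = 2 → 4 ≤ Nat.card M
  · exact D.isLocal_of_normal hr hM hSM hp hexp hcomm h4
  simp only [Classical.not_imp, not_le] at h4
  obtain ⟨rfl, h4⟩ := h4
  -- `S` centralises an involution
  haveI := (nontrivial_iff_ne_bot M).2 hM
  obtain ⟨⟨t, ht⟩, ht1⟩ := exists_ne (1 : M)
  have ht1' : t ≠ 1 := fun h => ht1 (Subtype.ext h)
  have hto : orderOf t = 2 := orderOf_eq_prime (hexp t ht) ht1'
  have hMt : ∀ y ∈ M, y = 1 ∨ y = t := by
    intro y hy
    by_contra hc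
    simp only [not_or] at hc
    have hsub : ({1, t, y, t * y} : Set G) ⊆ M := by
      simp only [Set.insert_subset_iff, Set.singleton_subset_iff]
      exact ⟨one_mem M, ht, hy, mul_mem ht hy⟩
    have hty : t * y ≠ 1 := fun h => hc.2 (by
      rw [← one_mul y, ← hexp t ht, pow_two, mul_assoc, h, mul_one])
    have hc4 : ({1, t, y, t * y} : Set G).ncard = 4 := by
      rw [Set.ncard_insert_of_notMem, Set.ncard_insert_of_notMem,
        Set.ncard_pair (fun h => ht1' (right_eq_mul.1 h))] <;>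
        simp [Ne.symm ht1', Ne.symm hc.1, hc.1, Ne.symm hc.2, Ne.symm hty]
    have := Set.ncard_le_ncard hsub
    rw [hc4, ← Nat.card_coe_set_eq] at this
    have : 4 ≤ Nat.card M := this
    omega
  obtain ⟨g, hg⟩ := isConj_iff.1 (D.isConj_a hto).symm
  refine D.isLocal_conj g ?_
  set S' := S.map (MulAut.conj g).toMonoidHom with hS'
  haveI : Group.IsSolvable S := hS
  haveI : Group.IsSolvable S' :=
    solvable_of_surjective (f := (S.equivMapOfInjective (MulAut.conj g).toMonoidHom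
      (MulEquiv.injective _)).toMonoidHom) (S.equivMapOfInjective _ (MulEquiv.injective _)).surjective
  have hS'a : S' ≤ centralizer ({D.a} : Set G) := by
    rintro _ ⟨y, hy, rfl⟩
    have hyt : y * t * y⁻¹ = t :=
      (hMt _ ((mem_normalizer_iff.1 (hSM hy) t).1 ht)).resolve_left fun h => ht1' (conj_eq_one_iff.1 h)
    refine mem_centralizer_singleton_iff.2 ?_
    rw [← hg]
    show g * y * g⁻¹ * (g * t * g⁻¹) = g * t * g⁻¹ * (g * y * g⁻¹)
    calc g * y * g⁻¹ * (g * t * g⁻¹) = g * (y * t * y⁻¹) * y * g⁻¹ := by group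
      _ = g * t * y * g⁻¹ := by rw [hyt]
      _ = _ := by group
  obtain ⟨ι, hinj, hcommι, hdec, hne⟩ := D.exists_emb
  -- the projection to `L`
  set J := S' ⊔ zpowers D.a with hJ
  have hJform : ∀ x, x ∈ J ↔ x ∈ S' ∨ D.a * x ∈ S' := by
    intro x
    constructor
    · intro hx
      have hle : S' ≤ normalizer (zpowers D.a : Set G) := hS'a.trans (by
        rw [← centralizer_closure, ← zpowers_eq_closure]
        exact centralizer_le_normalizer _)
      rw [hJ, ← SetLike.mem_coe, coe_mul_of_left_le_normalizer_right _ _ hle] at hx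
      obtain ⟨s, hs, _, ⟨j, rfl⟩, rfl⟩ := hx
      have hc : Commute D.a s := (mem_centralizer_singleton_iff.1 (hS'a hs)).symm
      rcases Int.even_or_odd j with ⟨u, rfl⟩ | ⟨u, rfl⟩
      · left
        show s * D.a ^ (u + u) ∈ S'
        rw [← two_mul, zpow_mul, zpow_two, D.a_sq, one_zpow, mul_one]
        exact hs
      · right
        show D.a * (s * D.a ^ (2 * u + 1)) ∈ S'
        rw [zpow_add_one, zpow_mul, zpow_two, D.a_sq, one_zpow, one_mul, ← mul_assoc, hc.eq, mul_assoc,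
          D.a_sq, mul_one]
        exact hs
    · rintro (hx | hx)
      · exact mem_sup_left hx
      · have := mul_mem (mem_sup_right (mem_zpowers D.a) : D.a ∈ J) (mem_sup_left hx : D.a * x ∈ J)
        rwa [← mul_assoc, D.a_sq, one_mul] at this
  have hJa : J ≤ centralizer ({D.a} : Set G) :=
    sup_le hS'a (zpowers_le.2 (mem_centralizer_singleton_iff.2 rfl))
  haveI : Group.IsSolvable J := by
    haveI hn : ((zpowers D.a).subgroupOf J).Normal := ⟨fun x hx y => by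
      rw [mem_subgroupOf] at hx ⊢
      obtain ⟨j, hj⟩ := hx
      have hc : Commute (y : G) D.a := mem_centralizer_singleton_iff.1 (hJa y.2)
      refine ⟨j, ?_⟩
      show D.a ^ j = (y : G) * x * (y : G)⁻¹
      rw [← hj, (hc.zpow_right j).eq, mul_inv_cancel_right]⟩
    refine solvable_of_ker_le_range (((zpowers D.a).subgroupOf J).subtype)
      (QuotientGroup.mk' ((zpowers D.a).subgroupOf J)) (by rw [QuotientGroup.ker_mk', range_subtype])
      (hG' := isSolvable_of_comm fun x y => Subtype.ext (Subtype.ext (by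
        obtain ⟨i, hi⟩ := (mem_subgroupOf.1 x.2)
        obtain ⟨j, hj⟩ := (mem_subgroupOf.1 y.2)
        show ((x : J) : G) * (y : J) = (y : J) * (x : J)
        rw [← hi, ← hj]; exact (zpow_mul_comm D.a i j)))) (hG'' := ?_)
    refine solvable_of_surjective (f := (QuotientGroup.mk' ((zpowers D.a).subgroupOf J)).comp
      (inclusion (le_sup_left : S' ≤ J))) ?_
    intro c
    obtain ⟨⟨x, hx⟩, rfl⟩ := QuotientGroup.mk_surjective c
    rcases (hJform x).1 hx with h | h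
    · exact ⟨⟨x, h⟩, rfl⟩
    · refine ⟨⟨D.a * x, h⟩, QuotientGroup.eq.2 ?_⟩
      rw [mem_subgroupOf]
      show (D.a * x)⁻¹ * x ∈ zpowers D.a
      have hc : Commute x D.a := mem_centralizer_singleton_iff.1 (hJa hx)
      rw [mul_inv_rev, mul_assoc, ← (hc.inv_right).eq, inv_mul_cancel_left]
      exact inv_mem (mem_zpowers _)
  set L0 := J.comap ι with hL0
  have hL0S : Group.IsSolvable L0 :=
    solvable_of_solvable_injective (f := (ι.comp L0.subtype).codRestrict J fun x => x.2)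
      (fun x y h => Subtype.ext (hinj (congrArg Subtype.val h)))
  have hJ' : ∀ x ∈ J, ∃ u ∈ L0, x = ι u ∨ x = D.a * ι u := by
    intro x hx
    obtain ⟨u, hu | hu⟩ := hdec x (mem_centralizer_singleton_iff.1 (hJa hx))
    · exact ⟨u, (hu ▸ hx : ι u ∈ J), Or.inl hu⟩
    · refine ⟨u, ?_, Or.inr hu⟩
      show ι u ∈ J
      have := mul_mem (mem_sup_right (mem_zpowers D.a) : D.a ∈ J) hx
      rwa [hu, ← mul_assoc, D.a_sq, one_mul] at this
  by_cases hL0bot : L0 = ⊥
  · obtain ⟨R, haR, -⟩ := D.exists_sylow_a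
    refine ⟨R, (le_sup_left : S' ≤ J).trans fun x hx => le_normalizer ?_, Or.inl ⟨R, rfl⟩⟩
    obtain ⟨u, hu, h⟩ := hJ' x hx
    rw [hL0bot, mem_bot] at hu
    subst hu
    rcases h with rfl | rfl
    · rw [map_one]; exact one_mem _
    · rw [map_one, mul_one]; exact haR
  obtain ⟨p, M₀, hp0, -, hM₀, hnM₀, hexp₀, hcomm₀⟩ :=
    exists_normal_elementary L0 hL0S hL0bot
  have hSn : J ≤ normalizer (M₀.map ι : Set G) := by
    intro x hx
    refine mem_normalizer_fintype ?_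
    rintro _ ⟨y, hy, rfl⟩
    obtain ⟨u, hu, hxu⟩ := hJ' x hx
    refine ⟨u * y * u⁻¹, (mem_normalizer_iff.1 (hnM₀ hu) y).1 hy, ?_⟩
    rw [map_mul, map_mul, map_inv]
    rcases hxu with rfl | rfl
    · rfl
    · rw [show D.a * ι u * ι y * (D.a * ι u)⁻¹ = D.a * (ι u * ι y * (ι u)⁻¹) * D.a⁻¹ by group, ← map_inv,
        ← map_mul, ← map_mul, ← hcommι, mul_inv_cancel_right]
  by_cases hp2 : p = 2
  · subst hp2
    refine D.isLocal_of_normal hr (M := M₀.map ι ⊔ zpowers D.a) ?_ ((le_sup_left : S' ≤ J).trans ?_)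
      Nat.prime_two ?_ ?_ fun _ => ?_
    · exact ne_bot_of_le_ne_bot (zpowers_ne_bot.2 D.a_ne) le_sup_right
    · intro x hx
      have h1 := hSn hx
      have hc : x * D.a = D.a * x := mem_centralizer_singleton_iff.1 (hJa hx)
      rw [mem_normalizer_iff'']
      intro y
      have hmap : (M₀.map ι ⊔ zpowers D.a).map (MulAut.conj x⁻¹).toMonoidHom = M₀.map ι ⊔ zpowers D.a := by
        rw [Subgroup.map_sup, MonoidHom.map_zpowers]
        congr 1
        · refine eq_of_le_of_card_ge ?_ (le_of_eq (card_map_of_injective (MulEquiv.injective _)).symm)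
          rintro _ ⟨z, hz, rfl⟩
          exact (mem_normalizer_iff.1 (inv_mem h1) z).1 hz
        · congr 1
          show x⁻¹ * D.a * x⁻¹⁻¹ = D.a
          rw [inv_inv, mul_assoc, ← hc, inv_mul_cancel_left]
      conv_rhs => rw [← hmap]
      rw [show x⁻¹ * y * x = x⁻¹ * y * x⁻¹⁻¹ by rw [inv_inv]]
      exact conj_mem_map.symm
    · intro y hy
      obtain ⟨R, hR⟩ := (IsPGroup.to_sup_of_normal_left' (H := zpowers D.a) (K := M₀.map ι)
        (IsPGroup.of_card (n := 1) (by rw [Nat.card_zpowers, D.orderOf_a, pow_one]))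
        (fun z => ⟨1, Subtype.ext (by
          obtain ⟨w, hw, hwz⟩ := z.2
          rw [pow_one]
          show (z : G) ^ 2 = 1
          rw [← hwz, ← map_pow, hexp₀ w hw, map_one])⟩) (by
          rintro _ ⟨u, -, rfl⟩
          refine centralizer_le_normalizer _ (mem_centralizer_iff.2 ?_)
          rintro _ ⟨j, rfl⟩
          exact ((show Commute D.a (ι u) from (hcommι u).symm).zpow_left j).eq)).exists_le_sylow
      · rw [pow_two]
        exact (D.sylow_two R).2 y (hR (sup_comm (M₀.map ι) (zpowers D.a) ▸ hy))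
    · intro y hy z hz
      obtain ⟨R, hR⟩ := (IsPGroup.to_sup_of_normal_left' (H := zpowers D.a) (K := M₀.map ι)
        (IsPGroup.of_card (n := 1) (by rw [Nat.card_zpowers, D.orderOf_a, pow_one]))
        (fun z => ⟨1, Subtype.ext (by
          obtain ⟨w, hw, hwz⟩ := z.2
          rw [pow_one]
          show (z : G) ^ 2 = 1
          rw [← hwz, ← map_pow, hexp₀ w hw, map_one])⟩) (by
          rintro _ ⟨u, -, rfl⟩
          refine centralizer_le_normalizer _ (mem_centralizer_iff.2 ?_)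
          rintro _ ⟨j, rfl⟩
          exact ((show Commute D.a (ι u) from (hcommι u).symm).zpow_left j).eq)).exists_le_sylow
      · exact D.sylow_two_comm R (hR (sup_comm (M₀.map ι) (zpowers D.a) ▸ hy))
          (hR (sup_comm (M₀.map ι) (zpowers D.a) ▸ hz))
    · haveI := (nontrivial_iff_ne_bot M₀).2 hM₀
      obtain ⟨⟨w, hw⟩, hw1⟩ := exists_ne (1 : M₀)
      have hw1' : ι w ≠ 1 := fun h => hw1 (Subtype.ext (hinj (h.trans (map_one ι).symm)))
      have hsub : ({1, D.a, ι w, D.a * ι w} : Set G) ⊆ (M₀.map ι ⊔ zpowers D.a : Subgroup G) := by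
        simp only [Set.insert_subset_iff, Set.singleton_subset_iff]
        exact ⟨one_mem _, mem_sup_right (mem_zpowers _), mem_sup_left ⟨w, hw, rfl⟩,
          mul_mem (mem_sup_right (mem_zpowers _)) (mem_sup_left ⟨w, hw, rfl⟩)⟩
      have haw : D.a * ι w ≠ 1 := fun h => hne w (by rw [← one_mul (ι w), ← D.a_sq, mul_assoc, h, mul_one])
      have hc4 : ({1, D.a, ι w, D.a * ι w} : Set G).ncard = 4 := by
        rw [Set.ncard_insert_of_notMem, Set.ncard_insert_of_notMem,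
          Set.ncard_pair (fun h => D.a_ne (right_eq_mul.1 h))] <;>
          simp [Ne.symm D.a_ne, Ne.symm hw1', hw1', Ne.symm (hne w), Ne.symm haw]
      have := Set.ncard_le_ncard hsub
      rw [hc4, ← Nat.card_coe_set_eq] at this
      exact this
  · refine D.isLocal_of_normal hr (M := M₀.map ι) ?_ ((le_sup_left : S' ≤ J).trans hSn) hp0 ?_ ?_
      fun h => absurd h hp2
    · exact fun h => hM₀ ((map_eq_bot_iff_of_injective _ hinj).1 h)
    · rintro _ ⟨y, hy, rfl⟩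
      rw [← map_pow, hexp₀ y hy, map_one]
    · rintro _ ⟨y, hy, rfl⟩ _ ⟨y', hy', rfl⟩
      rw [← map_mul, hcomm₀ y hy y' hy', map_mul]

end Data

end Cfsg.Agent.ReeTori
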