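/-
Automorphisms of the small Ree groups.

* `fieldAut`
* `aut_trivial` : an automorphism fixing `U¹` parameters and the torus is trivial
* `aut_decompose` : `Aut = Inn · Gal`
* `card_out`
-/
import Cfsg.Agent.Lib.ReeTori.Instance
import Cfsg.Agent.Lib.Twisted.Half

set_option autoImplicit false
set_option linter.unusedSectionVars false

namespace Cfsg.Agent.ReeTori

open Cfsg.Lie Matrix
open Cfsg.Lie.ChevalleyDatum
open Cfsg.Agent.Chev Cfsg.Agent.ChevBN Cfsg.Agent.Twisted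

local notation "hG" => good_chevG2

variable {K : Type*} [Field K] [Fintype K] [CharP K 3] {m : ℕ} (hK : Fintype.card K = 3 ^ (2 * m + 1))
include hK

/-- The elements of `U¹`. -/
noncomputable def xU (t u v : K) : ↥(foldK K m).fix := ⟨reeG m t u v, (ree_mem_U1 hK t u v).2⟩

/-- The elements of `H¹`. -/
noncomputable def dH (s : Kˣ) : ↥(foldK K m).fix := ⟨tor m s, ((mem_H1_iff hK).2 ⟨s, rfl⟩).2⟩

theorem xU_inj {t u v t' u' v' : K} (h : xU hK t u v = xU hK t' u' v') : t = t' ∧ u = u' ∧ v = v' :=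
  ree_inj (congrArg Subtype.val h)

theorem xU_mul (t u v t' u' v' : K) :
    xU hK t u v * xU hK t' u' v' = xU hK (t + t') (u - (t' ^ 3 ^ m) ^ 3 * t + u')
      (v - (t' ^ 3 ^ m) ^ 3 * t ^ 2 - t' * (u - (t' ^ 3 ^ m) ^ 3 * t) + v') :=
  Subtype.ext (ree_mul hK t u v t' u' v')

theorem xU_zero : xU hK (0 : K) 0 0 = 1 := Subtype.ext ree_zero

theorem dH_conj (s : Kˣ) (t u v : K) : dH hK s * xU hK t u v * (dH hK s)⁻¹ =
    xU hK ((s : K) * t) ((s : K) ^ (3 * 3 ^ m + 1) * u) ((s : K) ^ (3 * 3 ^ m + 2) * v) :=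
  Subtype.ext (tor_conj hK s t u v)

theorem dH_mul (s t : Kˣ) : dH hK (s * t) = dH hK s * dH hK t := Subtype.ext (tor_mul s t)

theorem dH_inj {s t : Kˣ} (h : dH hK s = dH hK t) : s = t := tor_injective (congrArg Subtype.val h)

theorem mem_U_iff {x : ↥(foldK K m).fix} : x ∈ (foldK K m).U1.subgroupOf (foldK K m).fix ↔ ∃ t u v, x = xU hK t u v := by
  rw [Subgroup.mem_subgroupOf, mem_U1_iff hK]
  exact ⟨fun ⟨t, u, v, h⟩ => ⟨t, u, v, Subtype.ext h⟩, fun ⟨t, u, v, h⟩ => ⟨t, u, v, congrArg Subtype.val h⟩⟩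

theorem mem_H_iff {x : ↥(foldK K m).fix} : x ∈ (foldK K m).H1.subgroupOf (foldK K m).fix ↔ ∃ s, x = dH hK s := by
  rw [Subgroup.mem_subgroupOf, mem_H1_iff hK]
  exact ⟨fun ⟨s, h⟩ => ⟨s, Subtype.ext h⟩, fun ⟨s, h⟩ => ⟨s, congrArg Subtype.val h⟩⟩

theorem xU_cube (t u v : K) : xU hK t u v ^ 3 = xU hK 0 0 (-((t ^ 3 ^ m) ^ 3 * t ^ 2)) :=
  Subtype.ext (ree_cube hK t u v)

theorem xU_cube_iff (t u v : K) : xU hK t u v ^ 3 = 1 ↔ t = 0 := by
  rw [xU_cube hK, ← xU_zero hK]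
  constructor
  · intro h
    by_contra ht
    exact (neg_ne_zero.2 (mul_ne_zero (pow_ne_zero _ (pow_ne_zero _ ht)) (pow_ne_zero _ ht))) (xU_inj hK h).2.2
  · rintro rfl
    simp

/-- The field automorphism on `GL`. -/
noncomputable def galGL (τ : RingAut K) : GL chevG2.Idx K →* GL chevG2.Idx K :=
  Matrix.GeneralLinearGroup.map τ.toRingHom

omit hK in
theorem galGL_reeG (τ : RingAut K) (t u v : K) : galGL τ (reeG m t u v) = reeG m (τ t) (τ u) (τ v) := by
  simp only [galGL, reeG, uel, map_mul, map_xg, ree6, RingEquiv.toRingHom_eq_coe, RingEquiv.coe_toRingHom,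
    map_pow, map_add]

omit hK in
theorem galGL_nu (τ : RingAut K) (g : GL chevG2.Idx K) : galGL τ (nu hG K g) = nu hG K (galGL τ g) := by
  refine Units.ext ?_
  ext a b
  rfl

theorem galGL_mem (τ : RingAut K) {g : GL chevG2.Idx K} (hg : g ∈ (foldK K m).fix) :
    galGL τ g ∈ (foldK K m).fix := by
  rw [← twisted_eq hK] at hg ⊢
  have h : twistedG2 K (3 ^ m) ≤ (twistedG2 K (3 ^ m)).comap (galGL τ) := by
    refine (Subgroup.closure_le _).2 ?_
    rintro x ⟨w, ⟨t, u, v, rfl | rfl⟩, e⟩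
    · obtain rfl : x = uel hG K (ree6 K (3 ^ m) t u v) := Units.ext (e.trans (coe_ree6 hG t u v).symm)
      rw [SetLike.mem_coe, Subgroup.mem_comap]
      show galGL τ (reeG m t u v) ∈ _
      rw [galGL_reeG]
      exact U1_le_twisted hK (ree_mem_U1 hK _ _ _)
    · obtain rfl : x = nu hG K (uel hG K (ree6 K (3 ^ m) t u v)) := by
        refine Units.ext (e.trans ?_)
        rw [nu_uel]
        rfl
      rw [SetLike.mem_coe, Subgroup.mem_comap]
      show galGL τ (nu hG K (reeG m t u v)) ∈ _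
      rw [galGL_nu, galGL_reeG]
      exact nu_U1_mem_twisted hK (ree_mem_U1 hK _ _ _)
  exact h hg

omit hK in
theorem galGL_comp (σ τ : RingAut K) (g : GL chevG2.Idx K) : galGL σ (galGL τ g) = galGL (σ * τ) g := by
  refine Units.ext ?_
  ext a b
  rfl

/-- The field automorphism of `²G₂(q)`. -/
noncomputable def fieldAutHom : RingAut K →* MulAut ↥(foldK K m).fix where
  toFun τ :=
    { toFun := fun g => ⟨galGL τ g.1, galGL_mem hK τ g.2⟩
      invFun := fun g => ⟨galGL τ.symm g.1, galGL_mem hK _ g.2⟩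
      left_inv := fun g => Subtype.ext (Units.ext (Matrix.ext fun a b => τ.symm_apply_apply _))
      right_inv := fun g => Subtype.ext (Units.ext (Matrix.ext fun a b => τ.apply_symm_apply _))
      map_mul' := fun g h => Subtype.ext (map_mul (galGL τ) g.1 h.1) }
  map_one' := MulEquiv.ext fun g => Subtype.ext (Units.ext (Matrix.ext fun a b => rfl))
  map_mul' σ τ := MulEquiv.ext fun g => Subtype.ext (galGL_comp σ τ g.1).symm

theorem fieldAut_xU (τ : RingAut K) (t u v : K) :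
    fieldAutHom hK τ (xU hK t u v) = xU hK (τ t) (τ u) (τ v) :=
  Subtype.ext (galGL_reeG τ t u v)

/-- An element of `K` not fixed by the power map `3θ`. -/
theorem exists_moved (hm : 1 ≤ m) : ∃ x : K, x ≠ 0 ∧ x ≠ 1 ∧ (x ^ 3 ^ m) ^ 3 ≠ x := by
  obtain ⟨g, hg⟩ := IsCyclic.exists_generator (α := Kˣ)
  have ho : orderOf g = 3 ^ (2 * m + 1) - 1 := by
    rw [orderOf_eq_card_of_forall_mem_zpowers hg, Nat.card_units, Nat.card_eq_fintype_card, hK]
  have h3 : 3 ≤ 3 ^ m := le_self_pow₀ (by norm_num) (by omega)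
  have hpw : 3 ^ (2 * m + 1) = 3 * (3 ^ m * 3 ^ m) := by ring
  have hmul : 3 * 3 ^ m ≤ 3 ^ m * 3 ^ m := Nat.mul_le_mul_right _ h3
  refine ⟨g, g.ne_zero, fun h => ?_, fun h => ?_⟩
  · have h1 : g = 1 := Units.ext (by simpa using h)
    rw [h1, orderOf_one] at ho
    omega
  · have h1 : g ^ (3 ^ m * 3) = g := Units.ext (by rw [Units.val_pow_eq_pow_val, pow_mul]; exact h)
    have h2 : g ^ (3 ^ m * 3 - 1) = 1 := by
      refine mul_right_cancel (b := g) ?_
      rw [← pow_succ, Nat.sub_add_cancel (by omega), h1, one_mul]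
    have := Nat.le_of_dvd (by omega) (ho ▸ orderOf_dvd_of_pow_eq_one h2)
    omega

theorem exists_pow_weight (v : K) : ∃ t : K, (t ^ 3 ^ m) ^ 3 * t ^ 2 = v := by
  have hq : ∀ x : K, x ^ 3 ^ (2 * m + 1) = x := fun x => hK ▸ FiniteField.pow_card x
  by_cases hv : v = 0
  · exact ⟨0, by simp [hv]⟩
  have h1 : 1 ≤ 3 ^ m := Nat.one_le_pow _ _ (by norm_num)
  obtain ⟨c, hc⟩ : ∃ c, 3 * 3 ^ m = c + 2 := ⟨3 * 3 ^ m - 2, by omega⟩
  refine ⟨v⁻¹ ^ c, ?_⟩
  have e : c * (3 ^ m * 3 + 2) + 4 = 3 * 3 ^ (2 * m + 1) := by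
    have : (3 * 3 ^ m) * (3 * 3 ^ m) = 3 * 3 ^ (2 * m + 1) := by ring
    rw [hc] at this
    rw [mul_comm (3 ^ m) 3, hc]
    linarith [this]
  rw [← pow_mul, ← pow_add, ← pow_mul]
  refine mul_right_cancel₀ (pow_ne_zero 4 (inv_ne_zero hv)) ?_
  rw [← pow_add, e, mul_comm 3, pow_mul, hq]
  field_simp

/-- An automorphism fixing `U¹` and `H¹` in parameters is trivial. -/
theorem aut_fix_U (hm : 1 ≤ m) {β : MulAut ↥(foldK K m).fix} (hU : ∀ t : K, ∃ g k, β (xU hK t 0 0) = xU hK t g k)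
    (hU0 : ∀ u v : K, ∃ u' v', β (xU hK 0 u v) = xU hK 0 u' v')
    (hH : ∀ s, β (dH hK s) = dH hK s) : ∀ t u v, β (xU hK t u v) = xU hK t u v := by
  choose g k hgk using hU
  choose P R hPR using hU0
  set a := 3 * 3 ^ m with ha
  have hpow : ∀ x : K, (x ^ 3 ^ m) ^ 3 = x ^ a := fun x => by rw [← pow_mul, ha, mul_comm]
  have ha0 : a ≠ 0 := by rw [ha]; positivity
  -- equivariance
  have heq : ∀ (s : Kˣ) t u v t' u' v', β (xU hK t u v) = xU hK t' u' v' →
      β (xU hK ((s : K) * t) ((s : K) ^ (a + 1) * u) ((s : K) ^ (a + 2) * v)) =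
        xU hK ((s : K) * t') ((s : K) ^ (a + 1) * u') ((s : K) ^ (a + 2) * v') := by
    intro s t u v t' u' v' h
    rw [← dH_conj hK, map_mul, map_mul, map_inv, hH, h, dH_conj hK]
  -- the third coordinate
  have hv : ∀ v, β (xU hK 0 0 v) = xU hK 0 0 v := by
    intro v
    obtain ⟨t, ht⟩ := exists_pow_weight hK (-v)
    have h := congrArg (fun x => x ^ 3) (hgk t)
    simp only [← map_pow, xU_cube hK, ht, neg_neg] at h
    exact h
  -- the second coordinate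
  have hsplit : ∀ u v, xU hK (0 : K) u v = xU hK 0 u 0 * xU hK 0 0 v := by
    intro u v
    rw [xU_mul hK]
    simp
  have hadd : ∀ u u', P (u + u') 0 = P u 0 + P u' 0 ∧ R (u + u') 0 = R u 0 + R u' 0 := by
    intro u u'
    have h := map_mul β (xU hK 0 u 0) (xU hK 0 u' 0)
    rw [xU_mul hK, hPR u, hPR u', xU_mul hK, zero_pow (by positivity : (3 : ℕ) ^ m ≠ 0)] at h
    simp only [add_zero, zero_pow (by norm_num : (3 : ℕ) ≠ 0), zero_mul, sub_zero, mul_zero, hPR] at h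
    exact ⟨(xU_inj hK h).2.1, (xU_inj hK h).2.2⟩
  have hPs : ∀ (s : Kˣ) u, P ((s : K) ^ (a + 1) * u) 0 = (s : K) ^ (a + 1) * P u 0 ∧
      R ((s : K) ^ (a + 1) * u) 0 = (s : K) ^ (a + 2) * R u 0 := by
    intro s u
    have h := heq s 0 u 0 0 (P u 0) (R u 0) (hPR u 0)
    rw [mul_zero, mul_zero, hPR] at h
    exact ⟨(xU_inj hK h).2.1, (xU_inj hK h).2.2⟩
  have hoda : Odd a := (by decide : Odd 3).mul (Odd.pow (by decide))
  have hR : ∀ u, R u 0 = 0 := by
    intro u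
    have h := (hPs (-1) u).2
    rw [Units.val_neg, Units.val_one, (hoda.add_one).neg_one_pow, (hoda.add_even (by decide)).neg_one_pow,
      one_mul] at h
    linear_combination -h + R u 0 * three_eq_zero K
  -- commutators
  have hcomm : ∀ t t' : K, P (t ^ a * t' - t' ^ a * t) 0 = t ^ a * t' - t' ^ a * t ∧
      t * g t' = t' * g t := by
    intro t t'
    set δ := t ^ a * t' - t' ^ a * t with hδ
    have h1 : xU hK t 0 0 * xU hK t' 0 0 = xU hK t' 0 0 * xU hK t 0 0 *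
        (xU hK 0 δ 0 * xU hK 0 0 (t' * (t' ^ a * t) - t' ^ a * t ^ 2 - (t * (t ^ a * t') - t ^ a * t' ^ 2))) := by
      rw [← hsplit, xU_mul hK, xU_mul hK, xU_mul hK, zero_pow (by positivity : (3 : ℕ) ^ m ≠ 0)]
      simp only [hpow, zero_pow (by norm_num : (3 : ℕ) ≠ 0)]
      congr 1 <;> ring
    have h2 := congrArg β h1
    simp only [map_mul, hgk, hv, hPR, hR] at h2
    rw [← hsplit, xU_mul hK, xU_mul hK, xU_mul hK, zero_pow (by positivity : (3 : ℕ) ^ m ≠ 0)] at h2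
    simp only [hpow, zero_pow (by norm_num : (3 : ℕ) ≠ 0)] at h2
    obtain ⟨-, e2, e3⟩ := xU_inj hK h2
    exact ⟨by rw [hδ] at e2 ⊢; linear_combination -e2, by linear_combination e3⟩
  obtain ⟨x, hx0, hx1, hxm⟩ := exists_moved hK hm
  rw [hpow] at hxm
  have hP : ∀ u, P u 0 = u := by
    set δ := x ^ a * 1 - 1 ^ a * x with hδ
    have hδ0 : δ ≠ 0 := by rw [hδ, one_pow, one_mul, mul_one]; exact sub_ne_zero.2 hxm
    have hPδ : P δ 0 = δ := (hcomm x 1).1
    have hneg : P (-δ) 0 = -δ := by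
      have h0 := (hadd δ (-δ)).1
      have h00 := (hadd 0 0).1
      rw [add_neg_cancel, hPδ] at h0
      rw [add_zero] at h00
      linear_combination -h0 - h00
    intro u
    by_cases hu : u = 0
    · subst hu
      have := (hadd 0 0).1
      rw [add_zero] at this
      linear_combination -this
    -- `u / δ` is a weight or minus a weight
    obtain ⟨s, hs | hs⟩ : ∃ s : Kˣ, (s : K) ^ (a + 1) = u / δ ∨ (s : K) ^ (a + 1) = -(u / δ) := by
      obtain ⟨j, hj⟩ : ∃ j, Fintype.card K = 4 * j + 3 := by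
        have : 3 ^ (2 * m + 1) % 4 = 3 := by rw [pow_succ, pow_mul, Nat.mul_mod, Nat.pow_mod]; norm_num
        exact ⟨Fintype.card K / 4, by omega⟩
      set y := Units.mk0 (u / δ) (div_ne_zero hu hδ0)
      obtain ⟨c, hc⟩ : ∃ c, a = c + 1 := ⟨a - 1, by omega⟩
      refine ⟨y ^ (c * (j + 1)), ?_⟩
      have hy : ((y : K) ^ (2 * j + 1)) * ((y : K) ^ (2 * j + 1)) = 1 := by
        have := FiniteField.pow_card_sub_one_eq_one (y : K) y.ne_zero
        rwa [hj, show 4 * j + 3 - 1 = 2 * j + 1 + (2 * j + 1) by omega, pow_add] at this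
      have e : ((y ^ (c * (j + 1)) : Kˣ) : K) ^ (a + 1) = (y : K) ^ ((4 * j + 2) * (3 * (j + 1))) *
          ((y : K) ^ (2 * j + 1) * (y : K)) := by
        rw [Units.val_pow_eq_pow_val, ← pow_mul, ← pow_succ, ← pow_add]
        congr 1
        have h9 : (c + 1) * (c + 1) = 3 * (4 * j + 3) := by
          rw [← hc, ha, ← hj, hK]; ring
        have h10 : c * (a + 1) = 3 * (4 * j + 2) + 2 := by rw [hc]; linarith
        calc c * (j + 1) * (a + 1) = c * (a + 1) * (j + 1) := by ring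
          _ = _ := by rw [h10]; ring
      have hy1 : (y : K) ^ ((4 * j + 2) * (3 * (j + 1))) = 1 := by
        rw [pow_mul, show 4 * j + 2 = 2 * j + 1 + (2 * j + 1) by omega, pow_add, hy, one_pow]
      rw [e, hy1, one_mul]
      rcases mul_self_eq_one_iff.1 hy with h | h
      · left; rw [h, one_mul]; rfl
      · right; rw [h, neg_one_mul]; rfl
    · have h := (hPs s δ).1
      rw [hs, div_mul_cancel₀ u hδ0, hPδ, div_mul_cancel₀ u hδ0] at h
      exact h
    · have h := (hPs s (-δ)).1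
      rw [hs, neg_mul_neg, div_mul_cancel₀ u hδ0, hneg, neg_mul_neg, div_mul_cancel₀ u hδ0] at h
      exact h
  have hu : ∀ u, β (xU hK 0 u 0) = xU hK 0 u 0 := fun u => by rw [hPR, hP, hR]
  have hgs : ∀ s : Kˣ, g (s : K) = (s : K) ^ (a + 1) * g 1 ∧ k (s : K) = (s : K) ^ (a + 2) * k 1 := by
    intro s
    have h := heq s 1 0 0 1 (g 1) (k 1) (hgk 1)
    rw [mul_zero, mul_zero, mul_one, hgk] at h
    exact ⟨(xU_inj hK h).2.1, (xU_inj hK h).2.2⟩
  have hg1 : g 1 = 0 := by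
    have h := (hcomm x 1).2
    have e := (hgs (Units.mk0 x hx0)).1
    rw [Units.val_mk0] at e
    rw [e, one_mul] at h
    have hxa : x ^ a ≠ 1 := by
      intro hxa
      refine hx1 ?_
      have h3 : (x ^ a) ^ 3 ^ m = x := by
        rw [ha, mul_comm 3, pow_mul, ← pow_mul (x ^ 3 ^ m), mul_comm 3 (3 ^ m), ← pow_mul x,
          show 3 ^ m * (3 ^ m * 3) = 3 ^ (2 * m + 1) by ring, ← hK, FiniteField.pow_card]
      rw [hxa, one_pow] at h3
      exact h3.symm
    have : x * (1 - x ^ a) * g 1 = 0 := by linear_combination h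
    rcases mul_eq_zero.1 this with h' | h'
    · rcases mul_eq_zero.1 h' with h'' | h''
      · exact absurd h'' hx0
      · exact absurd (sub_eq_zero.1 h'').symm hxa
    · exact h'
  have hk1 : k 1 = 0 := by
    have h1 : xU hK x 0 0 * xU hK 1 0 0 = xU hK (x + 1) 0 0 *
        (xU hK 0 (-(1 : K) ^ a * x) 0 * xU hK 0 0 (-(1 : K) ^ a * x ^ 2 + 1 ^ a * x)) := by
      rw [← hsplit, xU_mul hK, xU_mul hK, zero_pow (by positivity : (3 : ℕ) ^ m ≠ 0)]
      simp only [hpow, zero_pow (by norm_num : (3 : ℕ) ≠ 0)]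
      congr 1 <;> ring
    have h2 := congrArg β h1
    simp only [map_mul, hgk, hv, hu] at h2
    rw [← hsplit, xU_mul hK, xU_mul hK, zero_pow (by positivity : (3 : ℕ) ^ m ≠ 0)] at h2
    simp only [hpow, zero_pow (by norm_num : (3 : ℕ) ≠ 0)] at h2
    have e3 := (xU_inj hK h2).2.2
    have ek := fun y (hy : y ≠ 0) => (hgs (Units.mk0 y hy)).2
    have eg := fun y (hy : y ≠ 0) => (hgs (Units.mk0 y hy)).1
    simp only [Units.val_mk0] at ek eg
    have hx11 : x + 1 ≠ 0 := by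
      intro h
      have hx' : x = -1 := eq_neg_of_add_eq_zero_left h
      rw [hx', hoda.neg_one_pow] at hxm
      exact hxm rfl
    rw [ek x hx0, ek (x + 1) hx11, eg x hx0, hg1] at e3
    have hfr : (x + 1) ^ a = x ^ a + 1 := by
      rw [← hpow, ← hpow, ← pow_mul, ← pow_mul, ← pow_succ, add_pow_char_pow (p := 3) (n := m + 1), one_pow]
    have hexp : (x + 1) ^ (a + 2) = (x ^ a + 1) * (x + 1) ^ 2 := by rw [pow_add, hfr]
    rw [hexp] at e3
    have hfac : (x - 1) * (x - x ^ a) * k 1 = 0 := by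
      linear_combination (-1) * e3 - k 1 * (x ^ (a + 1) + x) * three_eq_zero K
    rcases mul_eq_zero.1 hfac with h' | h'
    · rcases mul_eq_zero.1 h' with h'' | h''
      · exact absurd (sub_eq_zero.1 h'') hx1
      · exact absurd (sub_eq_zero.1 h'').symm hxm
    · exact h'
  intro t u v
  have ht : β (xU hK t 0 0) = xU hK t 0 0 := by
    by_cases ht0 : t = 0
    · rw [ht0, xU_zero hK, map_one]
    · have h := hgs (Units.mk0 t ht0)
      rw [Units.val_mk0, hg1, hk1, mul_zero, mul_zero] at h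
      rw [hgk, h.1, h.2]
  have e : xU hK t u v = xU hK t 0 0 * xU hK 0 u v := by
    rw [xU_mul hK, zero_pow (by positivity : (3 : ℕ) ^ m ≠ 0)]
    simp
  rw [e, hsplit, map_mul, map_mul, ht, hu, hv]

variable {h₀ : GL chevG2.Idx K} (hh₀ : h₀ ∈ chevG2.diagonalSubgroup K)
  (hf : h₀ * (rgdG2 K).nw w0G2 ∈ (foldK K m).fix)
  (D : Data ↥(foldK K m).fix (PSL2.PSL2 K) (3 ^ (2 * m + 1)))
  (hP : (D.P : Subgroup ↥(foldK K m).fix) = (foldK K m).U1.subgroupOf (foldK K m).fix)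
  (hH : D.H = (foldK K m).H1.subgroupOf (foldK K m).fix) (hw : D.w = ⟨_, hf⟩)
include hh₀ hP hH hw

omit hh₀ hH hw in
theorem xU_mem_P (t u v : K) : xU hK t u v ∈ (D.P : Subgroup ↥(foldK K m).fix) := hP.ge ((mem_U_iff hK).2 ⟨t, u, v, rfl⟩)

omit hh₀ hP hw in
theorem dH_mem_H (s : Kˣ) : dH hK s ∈ D.H := hH.ge ((mem_H_iff hK).2 ⟨s, rfl⟩)

omit [Fintype K] [CharP K 3] hK hh₀ hP hH hw in
theorem conj_split {G : Type*} [Group G] (j u e n c : G) (h : n * j = j⁻¹ * n) :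
    j⁻¹ * (u * e * n * c) * j = (j⁻¹ * u * j) * (j⁻¹ * e * j⁻¹) * n * (j⁻¹ * c * j) := by
  have e1 : j⁻¹ * n = n * j := h.symm
  calc j⁻¹ * (u * e * n * c) * j = j⁻¹ * u * e * n * c * j := by simp only [mul_assoc]
    _ = j⁻¹ * u * e * (j⁻¹ * (n * j⁻¹)) * c * j := by rw [← mul_assoc j⁻¹ n, e1, mul_inv_cancel_right]
    _ = _ := by group

/-- An automorphism acting trivially on `U/Z(U)` and on `H` is trivial. -/
theorem aut_trivial (hm : 1 ≤ m) {β : MulAut ↥(foldK K m).fix} (hU : ∀ t u v : K, β (xU hK t u v) = xU hK t u v)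
    (hd : ∀ s, β (dH hK s) = dH hK s) : β = 1 := by
  have hPfix : ∀ x ∈ (D.P : Subgroup ↥(foldK K m).fix), β x = x := fun x hx => by
    obtain ⟨t, u, v, rfl⟩ := (mem_U_iff hK).1 (hP.le hx)
    exact hU t u v
  have hHfix : ∀ x ∈ D.H, β x = x := fun x hx => by
    obtain ⟨s, rfl⟩ := (mem_H_iff hK).1 (hH.le hx)
    exact hd s
  have hPfix' : ∀ x, β x ∈ (D.P : Subgroup ↥(foldK K m).fix) → x ∈ (D.P : Subgroup ↥(foldK K m).fix) := fun x hx => by
    have := β.injective (hPfix _ hx)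
    rwa [this] at hx
  set W := β D.w with hW
  have hWN : W ∉ Subgroup.normalizer ((D.P : Subgroup ↥(foldK K m).fix) : Set ↥(foldK K m).fix) := by
    intro h
    refine D.w_notMem (Subgroup.mem_normalizer_fintype fun x hx => hPfix' _ ?_)
    rw [map_mul, map_mul, map_inv, hPfix x hx]
    exact (Subgroup.mem_normalizer_iff.1 h x).1 hx
  have hWinv : ∀ x ∈ D.H, W * x * W⁻¹ = x⁻¹ := fun x hx => by
    have := congrArg β (D.w_inv x hx)
    rwa [map_mul, map_mul, map_inv, map_inv, hHfix x hx] at this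
  obtain ⟨hq27, -, -⟩ := D.q_facts
  obtain ⟨x₀, hx₀, hx₀2⟩ : ∃ x ∈ D.H, x * x ≠ 1 := by
    haveI := D.H_cyclic
    obtain ⟨c, hc⟩ := IsCyclic.exists_generator (α := D.H)
    refine ⟨c, c.2, fun h => ?_⟩
    have h2 := Nat.le_of_dvd two_pos (orderOf_dvd_of_pow_eq_one (x := c) (n := 2) (Subtype.ext (by
      rw [pow_two]; exact h)))
    rw [orderOf_eq_card_of_forall_mem_zpowers hc, D.H_card] at h2
    omega
  have hWx : W⁻¹ * x₀ * W ∈ D.H := by
    have h := hWinv x₀⁻¹ (inv_mem hx₀)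
    rw [inv_inv] at h
    have e : W⁻¹ * x₀ * W = x₀⁻¹ := by
      calc W⁻¹ * x₀ * W = W⁻¹ * (W * x₀⁻¹ * W⁻¹) * W := by rw [h]
        _ = x₀⁻¹ := by group
    exact e ▸ inv_mem hx₀
  have hjH : D.w⁻¹ * W ∈ D.H := by
    rcases D.mem_or_mem_of_conj hx₀ hx₀2 hWx with h | h
    · exact absurd (D.H_le h) hWN
    · exact h
  -- the correction is trivial
  set x := xU hK 1 0 0 with hxdef
  set n : ↥(foldK K m).fix := D.w with hn
  set j := D.w⁻¹ * W with hjdef
  have hWj : W = n * j := by rw [hjdef, hn]; group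
  have hy : ((n * x * n⁻¹ : ↥(foldK K m).fix) : GL chevG2.Idx K) ∉ (rgdG2 K).B := by
    intro hB
    have hnv : (n : GL chevG2.Idx K) = h₀ * (rgdG2 K).nw w0G2 := congrArg Subtype.val hw
    rw [Subgroup.coe_mul, Subgroup.coe_mul, Subgroup.coe_inv, hnv] at hB
    have hxU : reeG m (1 : K) 0 0 ∈ (foldK K m).U1 := ree_mem_U1 hK 1 0 0
    have h1 : (rgdG2 K).nw w0G2 * reeG m (1 : K) 0 0 * ((rgdG2 K).nw w0G2)⁻¹ ∈
        (rgdG2 K).B ⊓ (rgdG2 K).Vneg := by
      refine Subgroup.mem_inf.2 ⟨?_, (rankOneK (m := m)).conj_Upos hxU.1⟩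
      have := mul_mem (mul_mem (inv_mem ((rgdG2 K).H_le_B hh₀)) hB) ((rgdG2 K).H_le_B hh₀)
      simp only [Subgroup.coe_mul, Subgroup.coe_inv, hxdef, xU] at this
      rwa [show h₀⁻¹ * (h₀ * (rgdG2 K).nw w0G2 * reeG m (1 : K) 0 0 * (h₀ * (rgdG2 K).nw w0G2)⁻¹) * h₀ =
        (rgdG2 K).nw w0G2 * reeG m (1 : K) 0 0 * ((rgdG2 K).nw w0G2)⁻¹ by group] at this
    rw [show (rgdG2 K).B ⊓ (rgdG2 K).Vneg = ⊥ from (rgdG2 K).B_inf_V, Subgroup.mem_bot, conj_eq_one_iff,
      ← ree_zero (K := K) (m := m)] at h1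
    exact one_ne_zero (ree_inj h1).1
  have hj1 : j = 1 := by
    rcases (rankOneK (m := m)).form' hh₀ hf (n * x * n⁻¹).2 with ⟨u, hu, h, hh, e⟩ | ⟨u, hu, e', he', c, hc, e⟩
    · exact absurd (e ▸ mul_mem ((rgdG2 K).Upos_le_B hu.1) ((rgdG2 K).H_le_B hh.1)) hy
    have e1 : n * x * n⁻¹ = ⟨u, hu.2⟩ * ⟨e', he'.2⟩ * n * ⟨c, hc.2⟩ := by
      refine Subtype.ext (e.trans ?_)
      have hnv : (n : GL chevG2.Idx K) = h₀ * (rgdG2 K).nw w0G2 := congrArg Subtype.val hw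
      simp only [Subgroup.coe_mul, hnv]
    have hfixU : ∀ (z : GL chevG2.Idx K) (hz : z ∈ (foldK K m).U1), β ⟨z, hz.2⟩ = ⟨z, hz.2⟩ := fun z hz =>
      hPfix _ (hP.ge (Subgroup.mem_subgroupOf.2 hz))
    have e2 := congrArg β e1
    rw [map_mul, map_mul, map_mul, map_inv, map_mul, map_mul, hfixU u hu,
      hHfix ⟨e', he'.2⟩ (hH.ge (Subgroup.mem_subgroupOf.2 he')), hfixU c hc, hPfix x (xU_mem_P hK D hP 1 0 0),
      ← hW, hWj] at e2
    have hnj : n * j = j⁻¹ * n := by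
      have := D.w_inv j hjH
      rw [← this, inv_mul_cancel_right]
    rw [hnj] at e2
    have hjc : j⁻¹ * (n * x * n⁻¹) * j =
        (j⁻¹ * ⟨u, hu.2⟩ * j) * (j⁻¹ * ⟨e', he'.2⟩ * j⁻¹) * n * (j⁻¹ * ⟨c, hc.2⟩ * j) := by
      rw [e1]
      exact conj_split _ _ _ _ _ hnj
    rw [show j⁻¹ * n * x * (j⁻¹ * n)⁻¹ = j⁻¹ * (n * x * n⁻¹) * j by group, hjc] at e2
    have hjU : ∀ (z : GL chevG2.Idx K), z ∈ (foldK K m).U1 →
        ((j : GL chevG2.Idx K)⁻¹ * z * (j : GL chevG2.Idx K)) ∈ (rgdG2 K).Upos := fun z hz => by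
      have := (rgdG2 K).H_conj_span _ (inv_mem (show (j : GL chevG2.Idx K) ∈ (rgdG2 K).H from
        (Subgroup.mem_subgroupOf.1 (hH.le hjH)).1)) z hz.1
      rwa [inv_inv] at this
    have hj' : (j : GL chevG2.Idx K) ∈ (rgdG2 K).H := (Subgroup.mem_subgroupOf.1 (hH.le hjH)).1
    have e3 := congrArg (Subtype.val) e2
    have hnv : (n : GL chevG2.Idx K) = h₀ * (rgdG2 K).nw w0G2 := congrArg Subtype.val hw
    simp only [Subgroup.coe_mul, Subgroup.coe_inv, hnv] at e3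
    have e4 := (rankOneK (m := m)).form_unique (hjU u hu) hu.1
      (mul_mem (mul_mem (mul_mem (inv_mem hj') he'.1) (inv_mem hj')) hh₀)
      (mul_mem (mul_mem he'.1 (inv_mem hj')) hh₀) (hjU c hc) hc.1 (Eq.trans (by group) (e3.trans (by group)))
    refine Subtype.ext ?_
    have h5 := mul_right_cancel (mul_right_cancel e4.2.1)
    rw [OneMemClass.coe_one, ← inv_eq_one]
    exact mul_eq_right.1 h5
  have hWn : β D.w = D.w := by rw [← hW, hWj, hj1, mul_one]
  refine MulEquiv.ext fun g => ?_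
  rcases (rankOneK (m := m)).form' hh₀ hf g.2 with ⟨u, hu, h, hh, e⟩ | ⟨u, hu, e', he', c, hc, e⟩
  · have e1 : g = ⟨u, hu.2⟩ * ⟨h, hh.2⟩ := Subtype.ext e
    rw [e1, map_mul, hPfix _ (hP.ge (Subgroup.mem_subgroupOf.2 hu)),
      hHfix _ (hH.ge (Subgroup.mem_subgroupOf.2 hh))]
    rfl
  · have e1 : g = ⟨u, hu.2⟩ * ⟨e', he'.2⟩ * D.w * ⟨c, hc.2⟩ := by
      refine Subtype.ext (e.trans ?_)
      have hnv : (D.w : GL chevG2.Idx K) = h₀ * (rgdG2 K).nw w0G2 := congrArg Subtype.val hw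
      simp only [Subgroup.coe_mul, hnv]
    rw [e1, map_mul, map_mul, map_mul, hPfix _ (hP.ge (Subgroup.mem_subgroupOf.2 hu)),
      hHfix _ (hH.ge (Subgroup.mem_subgroupOf.2 he')), hWn, hPfix _ (hP.ge (Subgroup.mem_subgroupOf.2 hc))]
    rfl

/-- Every automorphism is inner times a field automorphism. -/
theorem aut_decompose (hm : 1 ≤ m) (α : MulAut ↥(foldK K m).fix) :
    ∃ (g : ↥(foldK K m).fix) (τ : RingAut K), α = MulAut.conj g * fieldAutHom hK τ := by
  haveI : Fact (Nat.Prime 3) := ⟨Nat.prime_three⟩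
  obtain ⟨hq27, -, -⟩ := D.q_facts
  -- move `U` back
  obtain ⟨g₀, hg₀⟩ := MulAction.exists_smul_eq ↥(foldK K m).fix D.P (D.P.comapOfInjective α.toMonoidHom α.injective
    (by rw [MonoidHom.range_eq_top.mpr α.surjective]; exact le_top))
  set α₁ : MulAut ↥(foldK K m).fix := α * MulAut.conj g₀ with hα₁
  have hU1 : ∀ x, α₁ x ∈ (D.P : Subgroup ↥(foldK K m).fix) ↔ x ∈ (D.P : Subgroup ↥(foldK K m).fix) := by
    intro x
    have := SetLike.ext_iff.mp (congrArg (fun R : Sylow 3 ↥(foldK K m).fix => (R : Subgroup ↥(foldK K m).fix)) hg₀) (MulAut.conj g₀ x)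
    simp only [Sylow.coe_comapOfInjective, Subgroup.mem_comap, Sylow.coe_subgroup_smul] at this
    constructor
    · intro h
      obtain ⟨y, hy, e⟩ := this.2 h
      exact (MulAut.conj g₀).injective e ▸ hy
    · intro h
      exact this.1 ⟨x, h, rfl⟩
  have hN1 : ∀ {β : MulAut ↥(foldK K m).fix}, (∀ x, β x ∈ (D.P : Subgroup ↥(foldK K m).fix) ↔ x ∈ (D.P : Subgroup ↥(foldK K m).fix)) → ∀ x,
      β x ∈ Subgroup.normalizer ((D.P : Subgroup ↥(foldK K m).fix) : Set ↥(foldK K m).fix) ↔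
        x ∈ Subgroup.normalizer ((D.P : Subgroup ↥(foldK K m).fix) : Set ↥(foldK K m).fix) := by
    intro β hβ x
    rw [Subgroup.mem_normalizer_iff, Subgroup.mem_normalizer_iff]
    constructor
    · intro h y
      rw [← hβ y, h (β y), ← hβ (x * y * x⁻¹), map_mul, map_mul, map_inv]
    · intro h y
      obtain ⟨z, rfl⟩ := β.surjective y
      rw [hβ, h z, ← hβ (x * z * x⁻¹), map_mul, map_mul, map_inv]
  -- move the opposite Sylow subgroup back
  have hne : α₁ D.w • D.P ≠ D.P := fun h =>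
    D.w_notMem ((hN1 hU1 _).1 (Sylow.smul_eq_iff_mem_normalizer.1 h))
  obtain ⟨u, hu, hR⟩ := D.sylow_regular.2.1 _ hne
  set α₂ : MulAut ↥(foldK K m).fix := MulAut.conj u⁻¹ * α₁ with hα₂
  have hconjU : ∀ x, MulAut.conj u⁻¹ x ∈ (D.P : Subgroup ↥(foldK K m).fix) ↔ x ∈ (D.P : Subgroup ↥(foldK K m).fix) := by
    intro x
    rw [MulAut.conj_apply, inv_inv]
    constructor
    · intro h
      have := mul_mem (mul_mem hu h) (inv_mem hu)
      rwa [show u * (u⁻¹ * x * u) * u⁻¹ = x by group] at this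
    · intro h
      exact mul_mem (mul_mem (inv_mem hu) h) hu
  have hU2 : ∀ x, α₂ x ∈ (D.P : Subgroup ↥(foldK K m).fix) ↔ x ∈ (D.P : Subgroup ↥(foldK K m).fix) := fun x => (hconjU _).trans (hU1 x)
  have hw2 : α₂ D.w • D.P = D.w • D.P := by
    show MulAut.conj u⁻¹ (α₁ D.w) • D.P = _
    rw [MulAut.conj_apply, inv_inv, mul_smul, mul_smul, Sylow.smul_eq_iff_mem_normalizer.2
      (Subgroup.le_normalizer hu), hR, inv_smul_smul]
  have hH2 : ∀ h ∈ D.H, α₂ h ∈ D.H := by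
    intro h hh
    refine D.inter_normalizer ((hN1 hU2 h).2 (D.H_le hh)) ?_
    have h' : D.w⁻¹ * h * D.w ∈ Subgroup.normalizer ((D.P : Subgroup ↥(foldK K m).fix) : Set ↥(foldK K m).fix) := by
      refine Sylow.smul_eq_iff_mem_normalizer.1 ?_
      rw [mul_smul, mul_smul, (D.fix_of_mem_H hh).2, inv_smul_smul]
    have h2 := Sylow.smul_eq_iff_mem_normalizer.2 ((hN1 hU2 _).2 h')
    rw [map_mul, map_mul, map_inv, mul_smul, mul_smul, inv_smul_eq_iff, hw2] at h2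
    exact Sylow.smul_eq_iff_mem_normalizer.1 h2
  have hd : ∀ s, ∃ s', α₂ (dH hK s) = dH hK s' := fun s =>
    (mem_H_iff hK).1 (hH.le (hH2 _ (dH_mem_H hK D hH s)))
  choose σ hσ using hd
  have hx : ∀ t u v, ∃ p : K × K × K, α₂ (xU hK t u v) = xU hK p.1 p.2.1 p.2.2 := fun t u v => by
    obtain ⟨a, b, c, h⟩ := (mem_U_iff hK).1 (hP.le ((hU2 _).2 (xU_mem_P hK D hP t u v)))
    exact ⟨(a, b, c), h⟩
  choose p hp using hx
  have hker : ∀ u v, (p 0 u v).1 = 0 := by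
    intro u v
    have h := congrArg α₂ ((xU_cube_iff hK 0 u v).2 rfl)
    rw [map_pow, map_one, hp] at h
    exact (xU_cube_iff hK _ _ _).1 h
  set f₀ : K → K := fun t => (p t 0 0).1 with hf₀
  have hne0 : ∀ t, f₀ t = 0 → t = 0 := by
    intro t ht
    have h : α₂ (xU hK t 0 0 ^ 3) = 1 := by
      rw [map_pow, hp]
      exact (xU_cube_iff hK _ _ _).2 ht
    exact (xU_cube_iff hK t 0 0).1 (α₂.injective (h.trans (map_one α₂).symm))
  have hadd : ∀ t t', f₀ (t + t') = f₀ t + f₀ t' := by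
    intro t t'
    have h1 : xU hK t 0 0 * xU hK t' 0 0 = xU hK (t + t') 0 0 *
        xU hK 0 (0 - (t' ^ 3 ^ m) ^ 3 * t + 0) (0 - (t' ^ 3 ^ m) ^ 3 * t ^ 2 - t' * (0 - (t' ^ 3 ^ m) ^ 3 * t) + 0) := by
      rw [xU_mul hK, xU_mul hK, zero_pow (by positivity : (3 : ℕ) ^ m ≠ 0)]
      simp
    have h2 := congrArg α₂ h1
    rw [map_mul, map_mul, hp, hp, hp, hp, xU_mul hK, xU_mul hK] at h2
    have h3 := (xU_inj hK h2).1
    rw [hker, add_zero] at h3
    exact h3.symm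
  have hmul : ∀ (s : Kˣ) t, f₀ ((s : K) * t) = (σ s : K) * f₀ t := by
    intro s t
    have h := congrArg α₂ (dH_conj hK s t 0 0)
    rw [map_mul, map_mul, map_inv, hσ, hp, dH_conj hK, mul_zero, mul_zero, hp] at h
    exact (xU_inj hK h).1.symm
  have hf0 : f₀ 0 = 0 := by have := hadd 0 0; rw [add_zero] at this; exact left_eq_add.1 this
  have hc0 : f₀ 1 ≠ 0 := fun h => one_ne_zero (hne0 1 h)
  set c := f₀ 1 with hc
  have hσf : ∀ s : Kˣ, (σ s : K) = f₀ (s : K) / c := fun s => by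
    rw [eq_div_iff hc0, hc, ← hmul, mul_one]
  let f : K →+* K :=
    { toFun := fun t => f₀ t / c
      map_one' := div_self hc0
      map_zero' := by rw [hf0, zero_div]
      map_add' := fun a b => by rw [hadd, add_div]
      map_mul' := fun a b => by
        rcases eq_or_ne a 0 with rfl | ha
        · rw [zero_mul, hf0, zero_div, zero_mul]
        · have h := hmul (Units.mk0 a ha) b
          rw [Units.val_mk0] at h
          rw [h, hσf, Units.val_mk0, mul_div_assoc] }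
  let τ : RingAut K := RingEquiv.ofBijective f (Finite.injective_iff_bijective.mp f.injective)
  set d := dH hK (Units.mk0 c hc0) with hd
  set β : MulAut ↥(foldK K m).fix := fieldAutHom hK τ⁻¹ * (MulAut.conj d⁻¹ * α₂) with hβ
  have hdinv : d⁻¹ = dH hK (Units.mk0 c hc0)⁻¹ := by
    refine inv_eq_of_mul_eq_one_right ?_
    rw [hd, ← dH_mul hK, mul_inv_cancel]
    exact Subtype.ext tor_one
  have hβx : ∀ t u v, ∃ a b, β (xU hK t u v) = xU hK (τ⁻¹ ((p t u v).1 / c)) a b := by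
    intro t u v
    refine ⟨τ⁻¹ (c⁻¹ ^ (3 * 3 ^ m + 1) * (p t u v).2.1), τ⁻¹ (c⁻¹ ^ (3 * 3 ^ m + 2) * (p t u v).2.2), ?_⟩
    show fieldAutHom hK τ⁻¹ (MulAut.conj d⁻¹ (α₂ (xU hK t u v))) = _
    rw [MulAut.conj_apply, hdinv, hp, dH_conj hK, fieldAut_xU hK, Units.val_inv_eq_inv_val, Units.val_mk0,
      inv_mul_eq_div]
  have hτ : ∀ t, τ⁻¹ (f₀ t / c) = t := fun t => τ.symm_apply_apply t
  have hβU : ∀ t, ∃ g k, β (xU hK t 0 0) = xU hK t g k := by
    intro t
    obtain ⟨a, b, h⟩ := hβx t 0 0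
    exact ⟨a, b, by rw [h, hτ]⟩
  have hβU0 : ∀ u v : K, ∃ u' v', β (xU hK 0 u v) = xU hK 0 u' v' := by
    intro u v
    obtain ⟨a, b, h⟩ := hβx 0 u v
    exact ⟨a, b, by rw [h, hker, zero_div, map_zero]⟩
  have hβH : ∀ s, β (dH hK s) = dH hK s := by
    intro s
    have hcs : MulAut.conj d⁻¹ (α₂ (dH hK s)) = dH hK (σ s) := by
      rw [MulAut.conj_apply, inv_inv, hσ, hdinv, hd, ← dH_mul hK, ← dH_mul hK]
      congr 1
      rw [mul_right_comm, inv_mul_cancel, one_mul]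
    have hmem : (galGL τ⁻¹ (tor (K := K) m (σ s))) ∈ (foldK K m).H1 := by
      refine ⟨?_, galGL_mem hK _ ((mem_H1_iff hK).2 ⟨σ s, rfl⟩).2⟩
      refine mem_diag_iff.2 ⟨Units.map τ⁻¹.toRingHom.toMonoidHom (σ s ^ (2 * 3 ^ m + 1)),
        Units.map τ⁻¹.toRingHom.toMonoidHom (σ s ^ (3 * 3 ^ m + 2)), Units.ext ?_⟩
      rw [coe_T2]
      show ((tor (K := K) m (σ s) : GL chevG2.Idx K) : Matrix chevG2.Idx chevG2.Idx K).map (τ⁻¹ : RingAut K).toRingHom = _
      rw [tor, coe_T2, dg, dg, Matrix.diagonal_map (map_zero (τ⁻¹ : RingAut K).toRingHom)]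
      congr 1
      funext a
      rcases a with i | r
      · simp
      · simp only [Sum.elim_inr, Function.comp_apply, chi2, ← map_zpow, ← map_mul]
        rfl
    obtain ⟨s', hs'⟩ := (mem_H1_iff hK).1 hmem
    have hβs : β (dH hK s) = dH hK s' := by
      show fieldAutHom hK τ⁻¹ (MulAut.conj d⁻¹ (α₂ (dH hK s))) = _
      rw [hcs]
      exact Subtype.ext hs'
    -- compare on `x(1)`
    obtain ⟨a, b, h1⟩ := hβx 1 0 0
    obtain ⟨a', b', h2⟩ := hβx ((s : K) * 1) 0 0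
    have h := congrArg β (dH_conj hK s 1 0 0)
    rw [map_mul, map_mul, map_inv, hβs, mul_zero, mul_zero, h2, h1, dH_conj hK] at h
    have h3 := (xU_inj hK h).1
    rw [show (p 1 0 0).1 = f₀ 1 from rfl, hτ, show (p ((s : K) * 1) 0 0).1 = f₀ ((s : K) * 1) from rfl, hτ,
      mul_one, mul_one] at h3
    rw [hβs, Units.ext h3]
  have hβ1 : β = 1 := aut_trivial hK hh₀ hf D hP hH hw hm (aut_fix_U hK hm hβU hβU0 hβH) hβH
  have e2 : α₂ = MulAut.conj d * fieldAutHom hK τ := by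
    have h : fieldAutHom hK τ = MulAut.conj d⁻¹ * α₂ := by
      rw [hβ, map_inv] at hβ1
      exact inv_mul_eq_one.1 hβ1
    rw [h, ← mul_assoc, ← map_mul, mul_inv_cancel, map_one, one_mul]
  have e1 : α₁ = MulAut.conj (u * d) * fieldAutHom hK τ := by
    rw [map_mul, mul_assoc, ← e2, hα₂, ← mul_assoc, ← map_mul, mul_inv_cancel, map_one, one_mul]
  have e0 : α = α₁ * MulAut.conj g₀⁻¹ := by
    rw [hα₁, mul_assoc, ← map_mul, mul_inv_cancel, map_one, mul_one]
  have e3 : ∀ (γ : MulAut ↥(foldK K m).fix) (h : ↥(foldK K m).fix), γ * MulAut.conj h = MulAut.conj (γ h) * γ := fun γ h => by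
    apply MulEquiv.ext
    intro z
    simp [MulAut.conj_apply]
  refine ⟨u * d * fieldAutHom hK τ g₀⁻¹, τ, ?_⟩
  rw [e0, e1, mul_assoc (MulAut.conj (u * d)), e3, ← mul_assoc, ← map_mul]

/-- A field automorphism which is inner is trivial. -/
theorem fieldAut_inner {τ : RingAut K} {g : ↥(foldK K m).fix} (h : fieldAutHom hK τ = MulAut.conj g) : τ = 1 := by
  haveI : Fact (Nat.Prime 3) := ⟨Nat.prime_three⟩
  have happ : ∀ t u v, g * xU hK t u v * g⁻¹ = xU hK (τ t) (τ u) (τ v) := fun t u v => by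
    rw [← fieldAut_xU hK, h, MulAut.conj_apply]
  have hgN : g ∈ Subgroup.normalizer ((D.P : Subgroup ↥(foldK K m).fix) : Set ↥(foldK K m).fix) := by
    refine Subgroup.mem_normalizer_fintype fun x hx => ?_
    obtain ⟨t, u, v, rfl⟩ := (mem_U_iff hK).1 (hP.le hx)
    rw [happ]
    exact xU_mem_P hK D hP _ _ _
  obtain ⟨u, hu, e, he, rfl⟩ := D.exists_PH hgN
  obtain ⟨a, b, c, rfl⟩ := (mem_U_iff hK).1 (hP.le hu)
  obtain ⟨s, rfl⟩ := (mem_H_iff hK).1 (hH.le he)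
  have ht : ∀ t, τ t = (s : K) * t := by
    intro t
    have h1 := happ t 0 0
    rw [show xU hK a b c * dH hK s * xU hK t 0 0 * (xU hK a b c * dH hK s)⁻¹ =
      xU hK a b c * (dH hK s * xU hK t 0 0 * (dH hK s)⁻¹) * (xU hK a b c)⁻¹ by group, dH_conj hK,
      mul_inv_eq_iff_eq_mul, xU_mul hK, xU_mul hK] at h1
    linear_combination -(xU_inj hK h1).1
  refine RingEquiv.ext fun t => ?_
  have h1 := ht 1
  rw [map_one, mul_one] at h1
  show τ t = t
  rw [ht, ← h1, one_mul]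

omit hh₀ hP hH hw in
/-- `|Out ²G₂(q)| = 2m + 1`. -/
theorem card_out (hm : 1 ≤ m) : Nat.card (Cfsg.Out ↥(foldK K m).fix) = 2 * m + 1 := by
  obtain ⟨h₀, hh₀, hf, -⟩ := exists_m0 hK
  obtain ⟨D, hP, hH, hw⟩ := exists_data' hK hm hh₀ hf
  letI := ZMod.algebra K 3
  haveI := Fact.mk Nat.prime_three
  let Ψ : RingAut K →* Cfsg.Out ↥(foldK K m).fix := (QuotientGroup.mk' _).comp (fieldAutHom hK)
  have hbij : Function.Bijective Ψ := by
    constructor
    · rw [injective_iff_map_eq_one]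
      intro τ hτ
      obtain ⟨g, hg⟩ := (QuotientGroup.eq_one_iff _).mp hτ
      exact fieldAut_inner hK hh₀ hf D hP hH hw hg.symm
    · intro q
      obtain ⟨α, rfl⟩ := QuotientGroup.mk_surjective q
      obtain ⟨g, τ, rfl⟩ := aut_decompose hK hh₀ hf D hP hH hw hm α
      refine ⟨τ, QuotientGroup.eq.mpr ⟨(fieldAutHom hK τ)⁻¹ g, ?_⟩⟩
      refine MulEquiv.ext fun z => ?_
      simp [MulAut.conj_apply]
  rw [← Nat.card_congr (Equiv.ofBijective Ψ hbij)]
  let toAlg : RingAut K → (K ≃ₐ[ZMod 3] K) := fun τ =>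
    AlgEquiv.ofRingEquiv (f := τ) fun x =>
      RingHom.congr_fun (Subsingleton.elim (τ.toRingHom.comp (algebraMap (ZMod 3) K))
        (algebraMap (ZMod 3) K)) x
  let eq : RingAut K ≃ (K ≃ₐ[ZMod 3] K) :=
    { toFun := toAlg
      invFun := fun σ => σ.toRingEquiv
      left_inv := fun τ => RingEquiv.ext fun _ => rfl
      right_inv := fun σ => AlgEquiv.ext fun _ => rfl }
  rw [Nat.card_congr eq, IsGalois.card_aut_eq_finrank]
  have := Module.card_eq_pow_finrank (K := ZMod 3) (V := K)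
  rw [hK, ZMod.card] at this
  exact (Nat.pow_right_injective (by norm_num) this).symm

end Cfsg.Agent.ReeTori
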