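/-
The involution centraliser and the Sylow 2-subgroups of the small Ree groups (every `m`).

* `involution_case`
-/
import Cfsg.Agent.Lib.ReeTori.InvCent
import Cfsg.Agent.Lib.ReeTori.PSLFacts

set_option autoImplicit false
set_option linter.unusedSectionVars false

namespace Cfsg.Agent.ReeTori

open Cfsg.Lie
open Cfsg.Agent.Chev Cfsg.Agent.ChevBN Cfsg.Agent.Twisted

variable {K : Type*} [Field K] [Fintype K] [CharP K 3] {m : ℕ}

theorem two_sq : ∀ w : Multiplicative (ZMod 2), w * w = 1 := by decide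

theorem sq_of_pow_eight_psl (hK : Fintype.card K = 3 ^ (2 * m + 1)) {l : PSL2.PSL2 K} (hl : l ^ 8 = 1) :
    l * l = 1 := by
  set q := 3 ^ (2 * m + 1) with hq
  have hq8 : q % 8 = 3 := by rw [hq, pow_succ, pow_mul, Nat.mul_mod, Nat.pow_mod]; norm_num
  have F := lFacts (F := K) (q := q) (by rw [Nat.card_eq_fintype_card, hK]) hq8
  have h8 := orderOf_dvd_of_pow_eq_one hl
  have hmem : orderOf l ∈ Nat.divisors 8 := Nat.mem_divisors.2 ⟨h8, by norm_num⟩
  rw [show Nat.divisors 8 = {1, 2, 4, 8} by decide] at hmem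
  simp only [Finset.mem_insert, Finset.mem_singleton] at hmem
  have h2 : orderOf l ∣ 2 := by
    rcases hmem with h | h | h | h <;> rw [h]
    · exact one_dvd 2
    all_goals
      rcases F.orders l with h' | h' | h' <;> rw [h] at h' <;> omega
  rw [← pow_two]
  exact orderOf_dvd_iff_pow_eq_one.1 h2

theorem involution_case (hK : Fintype.card K = 3 ^ (2 * m + 1)) (a : ↥(foldK K m).fix)
    (haH : (a : GL chevG2.Idx K) ∈ chevG2.diagonalSubgroup K) (ha1 : a ≠ 1) (ha2 : a * a = 1) :
    Nonempty (↥(Subgroup.centralizer {a}) ≃*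
        Multiplicative (ZMod 2) × Matrix.ProjectiveSpecialLinearGroup (Fin 2) K) ∧
      ∀ S : Sylow 2 ↥(foldK K m).fix, Nat.card S = 8 ∧ ∀ x ∈ S, x * x = 1 := by
  haveI : Fact (Nat.Prime 2) := ⟨Nat.prime_two⟩
  obtain ⟨s, hs⟩ := (mem_H1_iff hK).1 (show (a : GL chevG2.Idx K) ∈ (foldK K m).H1 from ⟨haH, a.2⟩)
  have hs1 : s = -1 := by
    have h : tor (K := K) m (s * s) = tor m 1 := by
      rw [tor_mul, ← hs, tor_one]
      exact congrArg Subtype.val ha2
    have hss : (s : K) * s = 1 := by simpa using congrArg Units.val (tor_injective h)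
    rcases mul_self_eq_one_iff.1 hss with h' | h'
    · exfalso
      rw [show s = 1 from Units.ext h', tor_one] at hs
      exact ha1 (Subtype.ext hs)
    · exact Units.ext (by simpa using h')
  subst hs1
  obtain ⟨e⟩ := centralizer_torInv (m := m) hK
  let f : ↥(Subgroup.centralizer {a}) ≃*
      ↥((foldK K m).fix ⊓ Subgroup.centralizer {tor (K := K) m (-1)}) :=
    { toFun := fun x => ⟨(x : ↥(foldK K m).fix), Subgroup.mem_inf.2 ⟨(x : ↥(foldK K m).fix).2,
        Subgroup.mem_centralizer_singleton_iff.2 (by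
          rw [← hs]; exact congrArg Subtype.val (Subgroup.mem_centralizer_singleton_iff.1 x.2))⟩⟩
      invFun := fun y => ⟨⟨y, (Subgroup.mem_inf.1 y.2).1⟩, Subgroup.mem_centralizer_singleton_iff.2
        (Subtype.ext (by
          show (y : GL chevG2.Idx K) * (a : GL chevG2.Idx K) = (a : GL chevG2.Idx K) * y
          rw [hs]; exact Subgroup.mem_centralizer_singleton_iff.1 (Subgroup.mem_inf.1 y.2).2))⟩
      left_inv := fun x => rfl
      right_inv := fun y => rfl
      map_mul' := fun x y => rfl }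
  refine ⟨⟨f.trans e.symm⟩, ?_⟩
  set q := 3 ^ (2 * m + 1) with hq
  have hq3 : 3 ≤ q := Nat.le_self_pow (by omega) 3
  have hq8 : q % 8 = 3 := by rw [hq, pow_succ, pow_mul, Nat.mul_mod, Nat.pow_mod]; norm_num
  have hfac : (Nat.card ↥(foldK K m).fix).factorization 2 = 3 ∧
      (Nat.card ↥(Subgroup.centralizer {a})).factorization 2 = 3 := by
    have hcard : Nat.card ↥(foldK K m).fix = q ^ 3 * (q - 1) * (q ^ 3 + 1) := by
      rw [← twisted_eq hK, card_ree hK]
    have hle : q ≤ q ^ 2 := Nat.le_self_pow (by norm_num) q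
    have h1 : q ^ 3 + 1 = (q + 1) * (q ^ 2 - q + 1) := by zify [hle]; ring
    have hQ : ¬ 2 ∣ q ^ 2 - q + 1 := by
      have : Even (q ^ 2 - q) := by rw [Nat.even_sub hle, Nat.even_pow' (by norm_num)]
      rw [← even_iff_two_dvd, Nat.even_add_one]
      exact not_not.2 this
    obtain ⟨k, hk⟩ : ∃ k, q = 8 * k + 3 := ⟨q / 8, by omega⟩
    have h2 : ((q - 1) * (q + 1)).factorization 2 = 3 := by
      have e : (q - 1) * (q + 1) = 2 ^ 3 * ((4 * k + 1) * (2 * k + 1)) := by
        rw [show q - 1 = 2 * (4 * k + 1) by omega, show q + 1 = 4 * (2 * k + 1) by omega]; ring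
      rw [e, Nat.factorization_mul (by norm_num) (by positivity), Finsupp.add_apply, Nat.factorization_pow,
        Finsupp.smul_apply, Nat.Prime.factorization_self Nat.prime_two, Nat.factorization_eq_zero_of_not_dvd
        (fun h => by rcases Nat.prime_two.dvd_mul.1 h with h | h <;> omega)]
      simp
    constructor
    · rw [hcard, h1, show q ^ 3 * (q - 1) * ((q + 1) * (q ^ 2 - q + 1)) =
        q ^ 3 * ((q - 1) * (q + 1) * (q ^ 2 - q + 1)) by ring,
        Nat.factorization_mul (by positivity) (Nat.mul_ne_zero (Nat.mul_ne_zero (by omega) (by omega)) (by omega)),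
        Finsupp.add_apply,
        Nat.factorization_eq_zero_of_not_dvd (fun h => by have := Nat.prime_two.dvd_of_dvd_pow h; omega),
        Nat.factorization_mul (Nat.mul_ne_zero (by omega) (by omega)) (by omega), Finsupp.add_apply, h2,
        Nat.factorization_eq_zero_of_not_dvd hQ]
      rfl
    · have F := lFacts (F := K) (q := q) (by rw [Nat.card_eq_fintype_card, hK]) hq8
      rw [Nat.card_congr (f.trans e.symm).toEquiv, Nat.card_prod, show Nat.card (Multiplicative (ZMod 2)) = 2 from
        (Nat.card_congr Multiplicative.toAdd).trans (Nat.card_zmod 2), F.card, mul_comm (q + 1),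
        Nat.factorization_mul (by omega) (Nat.mul_ne_zero (by omega) (by omega)), Finsupp.add_apply,
        Nat.factorization_eq_zero_of_not_dvd (by omega), zero_add, h2]
  intro S
  refine ⟨by rw [S.card_eq_multiplicity, hfac.1]; norm_num, fun x hx => ?_⟩
  obtain ⟨T⟩ : Nonempty (Sylow 2 ↥(Subgroup.centralizer {a})) := inferInstance
  have hT : Nat.card ((T : Subgroup ↥(Subgroup.centralizer {a})).map (Subgroup.centralizer {a}).subtype) =
      2 ^ (Nat.card ↥(foldK K m).fix).factorization 2 := by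
    rw [Subgroup.card_map_of_injective (Subgroup.subtype_injective _), T.card_eq_multiplicity, hfac.2, hfac.1]
  obtain ⟨g, hg⟩ := MulAction.exists_smul_eq ↥(foldK K m).fix S (Sylow.ofCard _ hT)
  have hx' : g * x * g⁻¹ ∈ ((g • S : Sylow 2 ↥(foldK K m).fix) : Subgroup ↥(foldK K m).fix) := by
    rw [Sylow.coe_subgroup_smul]; exact ⟨x, hx, rfl⟩
  rw [hg] at hx'
  obtain ⟨y, hy, hyx⟩ := hx'
  have hy8 : y ^ 8 = 1 := by
    have h8 : Nat.card (T : Subgroup ↥(Subgroup.centralizer {a})) = 8 := by
      rw [T.card_eq_multiplicity, hfac.2]; norm_num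
    exact orderOf_dvd_iff_pow_eq_one.1 (h8 ▸ Subgroup.orderOf_dvd_natCard _ hy)
  have hyy : y * y = 1 := by
    apply (f.trans e.symm).injective
    have h8 : ((f.trans e.symm) y) ^ 8 = 1 := by rw [← map_pow, hy8, map_one]
    rw [map_mul, map_one]
    generalize (f.trans e.symm) y = p at h8 ⊢
    obtain ⟨z, l⟩ := p
    refine Prod.ext ?_ (sq_of_pow_eight_psl hK (congrArg Prod.snd h8))
    show z * z = 1
    exact two_sq z
  have hxx : g * (x * x) * g⁻¹ = 1 := by
    rw [show g * (x * x) * g⁻¹ = g * x * g⁻¹ * (g * x * g⁻¹) by group, ← hyx, ← map_mul, hyy, map_one]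
  exact conj_eq_one_iff.1 hxx

end Cfsg.Agent.ReeTori
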