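/-
Numbers of elements of given orders in groups with the local data of a small Ree group.

* `card_orderOf_cyclic`
* `card_orderOf_H`, `card_orderOf_Y`, `card_orderOf_reg`
-/
import Cfsg.Agent.Lib.ReeTori.Apps

set_option autoImplicit false
set_option linter.unusedSectionVars false

namespace Cfsg.Agent.ReeTori

open Subgroup
open scoped Pointwise

variable {G : Type*} [Group G]

theorem card_orderOf_cyclic [Finite G] {A : Subgroup G} (hA : IsCyclic A) {i : ℕ} (hi : i ∣ Nat.card A) :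
    Nat.card {x : A // orderOf (x : G) = i} = i.totient := by
  classical
  haveI := hA
  haveI := Fintype.ofFinite A
  rw [Nat.card_congr (Equiv.subtypeEquivRight fun x => by rw [orderOf_coe] : _ ≃ {x : A // orderOf x = i}),
    Nat.card_eq_fintype_card, Fintype.card_subtype]
  exact IsCyclic.card_orderOf_eq_totient (Nat.card_eq_fintype_card (α := A) ▸ hi)

namespace Data

variable {L : Type*} [Group L] {q : ℕ} [Finite G] [Finite L] (D : Data G L q)
include D

theorem card_orderOf_H {i : ℕ} (h2 : 2 < i) (hd : i ∣ q - 1) :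
    2 * Nat.card {g : G // orderOf g = i} = i.totient * q ^ 3 * (q ^ 3 + 1) := by
  obtain ⟨hq27, -, -⟩ := D.q_facts
  rw [D.card_H_type_of (P := fun n => n = i) fun n h => by subst h; exact ⟨h2, hd⟩,
    card_orderOf_cyclic D.H_cyclic (D.H_card.symm ▸ hd)]
  have hH := (normalizer (D.H : Set G)).card_mul_index
  rw [D.card_normalizer_H, D.card] at hH
  have h' : 2 * (normalizer (D.H : Set G)).index = q ^ 3 * (q ^ 3 + 1) := by
    refine Nat.eq_of_mul_eq_mul_left (show 0 < q - 1 by omega) ?_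
    calc (q - 1) * (2 * (normalizer (D.H : Set G)).index)
        = 2 * (q - 1) * (normalizer (D.H : Set G)).index := by ring
      _ = q ^ 3 * (q - 1) * (q ^ 3 + 1) := hH
      _ = _ := by ring
  calc 2 * ((normalizer (D.H : Set G)).index * i.totient)
      = 2 * (normalizer (D.H : Set G)).index * i.totient := by ring
    _ = q ^ 3 * (q ^ 3 + 1) * i.totient := by rw [h']
    _ = _ := by ring

theorem card_orderOf_Y {i : ℕ} (h1 : 1 < i) (hd : i ∣ (q + 1) / 4) :
    6 * Nat.card {g : G // orderOf g = i} = i.totient * q ^ 3 * (q - 1) * (q ^ 2 - q + 1) ∧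
      2 * Nat.card {g : G // orderOf g = 2 * i} = i.totient * q ^ 3 * (q - 1) * (q ^ 2 - q + 1) := by
  classical
  obtain ⟨hq27, hq8, -⟩ := D.q_facts
  obtain ⟨T, E, Y, hT⟩ := D.exists_torus
  have hi3 : 3 ≤ i := by
    have : i ≠ 2 := by rintro rfl; omega
    omega
  have hiodd : Odd i := Odd.of_dvd_nat (Nat.odd_iff.2 (by omega)) hd
  have hd2 : 2 * i ∣ (q + 1) / 2 := by
    rw [show (q + 1) / 2 = 2 * ((q + 1) / 4) by omega]; exact Nat.mul_dvd_mul_left 2 hd
  have hsq : ∀ x ∈ T, Odd (orderOf x) → x ∈ Y := by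
    intro x hx ⟨u, hu⟩
    have e : x = (x * x) ^ (u + 1) := by
      rw [← pow_two, ← pow_mul, show 2 * (u + 1) = orderOf x + 1 by omega, pow_add, pow_orderOf_eq_one,
        one_mul, pow_one]
    rw [e]
    exact pow_mem (hT.sq x hx) _
  have hN := (normalizer (T : Set G)).card_mul_index
  rw [hT.card_N, D.card_eq] at hN
  have h' : 6 * (normalizer (T : Set G)).index = q ^ 3 * ((q - 1) * (q ^ 2 - q + 1)) := by
    refine Nat.eq_of_mul_eq_mul_left (show 0 < q + 1 by omega) ?_
    calc (q + 1) * (6 * (normalizer (T : Set G)).index)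
        = 6 * (q + 1) * (normalizer (T : Set G)).index := by ring
      _ = q ^ 3 * ((q - 1) * (q + 1) * (q ^ 2 - q + 1)) := hN
      _ = _ := by ring
  have hY : Nat.card {x : T // orderOf (x : G) = i} = i.totient := by
    rw [← card_orderOf_cyclic hT.Y_cyclic (i := i) (hT.card_Y.symm ▸ hd)]
    exact Nat.card_congr
      { toFun := fun x => ⟨⟨((x.1 : T) : G), hsq _ x.1.2 (x.2.symm ▸ hiodd)⟩, x.2⟩
        invFun := fun y => ⟨⟨((y.1 : Y) : G), hT.Y_le y.1.2⟩, y.2⟩
        left_inv := fun x => rfl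
        right_inv := fun y => rfl }
  have h2Y : Nat.card {x : T // orderOf (x : G) = 2 * i} = 3 * i.totient := by
    have hE3 : Nat.card {e : E // (e : G) ≠ 1} = 3 := by
      have h := card_subtype_split (fun e : E => (e : G) = 1)
      have h1 : Nat.card {e : E // (e : G) = 1} = 1 := by
        rw [Nat.card_congr (Equiv.subtypeEquivRight fun e => OneMemClass.coe_eq_one : _ ≃ {e : E // e = 1})]
        simp
      rw [hT.card_E, h1] at h
      show Nat.card {e : E // ¬ (e : G) = 1} = 3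
      omega
    rw [← hE3, ← hY, ← Nat.card_prod]
    symm
    have hmk : ∀ e y : G, e ∈ E → e ≠ 1 → y ∈ T → orderOf y = i → orderOf (e * y) = 2 * i := by
      intro e y he he1 hy hyo
      obtain ⟨heT, he2⟩ := (hT.mem_E e).1 he
      have hoe : orderOf e = 2 := orderOf_eq_prime (by rw [pow_two]; exact he2) he1
      rw [(show Commute e y from hT.comm e heT y hy).orderOf_mul_eq_mul_orderOf_of_coprime
        (by rw [hoe, hyo]; exact Nat.coprime_two_left.2 hiodd), hoe, hyo]
    refine Nat.card_eq_of_bijective (fun z => ⟨⟨((z.1.1 : E) : G) * ((z.2.1 : T) : G),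
      mul_mem (hT.E_le z.1.1.2) z.2.1.2⟩, hmk _ _ z.1.1.2 z.1.2 z.2.1.2 z.2.2⟩) ⟨?_, ?_⟩
    · rintro ⟨⟨⟨e, he⟩, he1⟩, ⟨⟨y, hy⟩, hyo⟩⟩ ⟨⟨⟨e', he'⟩, he1'⟩, ⟨⟨y', hy'⟩, hyo'⟩⟩ h
      have h0 : e * y = e' * y' := congrArg (fun z : {x : T // orderOf (x : G) = 2 * i} => ((z.1 : T) : G)) h
      have hpow : ∀ e y : G, e ∈ E → y ∈ T → orderOf y = i → (e * y) ^ i = e := by
        intro e y he hy hyo
        obtain ⟨heT, he2⟩ := (hT.mem_E e).1 he
        obtain ⟨u, hu⟩ := hiodd
        rw [(show Commute e y from hT.comm e heT y hy).mul_pow, ← hyo, pow_orderOf_eq_one, mul_one, hyo, hu,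
          pow_add, pow_mul, pow_two, he2, one_pow, one_mul, pow_one]
      obtain rfl : e = e' := by rw [← hpow e y he hy hyo, h0, hpow e' y' he' hy' hyo']
      obtain rfl : y = y' := mul_left_cancel h0
      rfl
    · rintro ⟨⟨x, hx⟩, hxo⟩
      obtain ⟨u, hu⟩ := hiodd
      have ho1 : orderOf (x ^ i) = 2 := by
        rw [orderOf_pow_of_dvd (by omega) (hxo ▸ dvd_mul_left i 2), hxo, Nat.mul_div_cancel _ (by omega)]
      have ho2 : orderOf (x ^ (i + 1)) = i := by
        rw [orderOf_pow' _ (by omega), hxo]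
        have : Nat.gcd (2 * i) (i + 1) = 2 := by
          rw [Nat.Coprime.gcd_mul_right_cancel 2 (show i.Coprime (i + 1) by simp)]
          exact Nat.gcd_eq_left ⟨u + 1, by omega⟩
        rw [this, Nat.mul_div_cancel_left _ two_pos]
      refine ⟨⟨⟨⟨x ^ i, (hT.mem_E _).2 ⟨pow_mem hx i, by rw [← pow_two, ← ho1, pow_orderOf_eq_one]⟩⟩,
        fun h => by rw [show x ^ i = 1 from h, orderOf_one] at ho1; omega⟩, ⟨⟨x ^ (i + 1), pow_mem hx _⟩, ho2⟩⟩, ?_⟩
      refine Subtype.ext (Subtype.ext ?_)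
      show x ^ i * x ^ (i + 1) = x
      rw [← pow_add, show i + (i + 1) = orderOf x + 1 by
        rw [show orderOf x = 2 * i from hxo]; ring, pow_succ, pow_orderOf_eq_one, one_mul]
  constructor
  · rw [D.card_T_type_of hT (P := fun n => n = i) fun n h => by
      subst h; exact ⟨hi3, (dvd_mul_left _ 2).trans hd2⟩, hY, ← mul_assoc, h']
    ring
  · rw [D.card_T_type_of hT (P := fun n => n = 2 * i) fun n h => by subst h; exact ⟨by omega, hd2⟩, h2Y]
    calc 2 * ((normalizer (T : Set G)).index * (3 * i.totient))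
        = 6 * (normalizer (T : Set G)).index * i.totient := by ring
      _ = _ := by rw [h']; ring

theorem card_orderOf_reg {r : ℕ} (hr : r * r = 3 * q) {k k' : ℕ}
    (hk : (k = q - r + 1 ∧ k' = q + r + 1) ∨ (k = q + r + 1 ∧ k' = q - r + 1))
    {i : ℕ} (h1 : 1 < i) (hd : i ∣ k) :
    6 * Nat.card {g : G // orderOf g = i} = i.totient * q ^ 3 * (q ^ 2 - 1) * k' := by
  obtain ⟨hq27, -, -⟩ := D.q_facts
  obtain ⟨hA1, hA2, hall⟩ := D.exists_regular hr
  obtain ⟨A, hA, hAk⟩ : ∃ A, D.IsReg A ∧ Nat.card A = k := by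
    rcases hk with ⟨rfl, -⟩ | ⟨rfl, -⟩
    exacts [hA1, hA2]
  rw [D.card_reg_type_of hA (P := fun n => n = i) fun n h => by subst h; exact ⟨by omega, hAk.symm ▸ hd⟩,
    card_orderOf_cyclic (D.reg_basic hA).1 (hAk.symm ▸ hd)]
  have hN := (normalizer (A : Set G)).card_mul_index
  rw [(hall A hA).2, hAk, D.card_eq] at hN
  have hrq : r ≤ q := by nlinarith
  have hkk : k * k' = q ^ 2 - q + 1 := by
    have hle : q ≤ q ^ 2 := Nat.le_self_pow (by norm_num) q
    rcases hk with ⟨rfl, rfl⟩ | ⟨rfl, rfl⟩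
    all_goals
      zify [hle, hrq]
      have : (r : ℤ) * r = 3 * q := by exact_mod_cast hr
      linear_combination -this
  have hk0 : 0 < k := by rw [← hAk]; exact Nat.card_pos
  have h' : 6 * (normalizer (A : Set G)).index = q ^ 3 * ((q ^ 2 - 1) * k') := by
    refine Nat.eq_of_mul_eq_mul_left hk0 ?_
    calc k * (6 * (normalizer (A : Set G)).index) = 6 * k * (normalizer (A : Set G)).index := by ring
      _ = q ^ 3 * ((q - 1) * (q + 1) * (k * k')) := by rw [hkk]; exact hN
      _ = _ := by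
        rw [show q ^ 2 - 1 = (q + 1) * (q - 1) by rw [← Nat.sq_sub_sq, one_pow]]
        ring
  rw [← mul_assoc, h']
  ring

end Data

end Cfsg.Agent.ReeTori
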